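import Cfsg.Agent.OneComposite.FrobEnd

/-!
A strongly embedded normaliser is incompatible with an element of order `2 * p`.
-/

set_option autoImplicit false
set_option linter.unusedSectionVars false

namespace Cfsg.Lib.OneComposite

open Subgroup Cfsg.Lib.CosetCore Cfsg.Lib.StrongEmb

variable {G : Type*} [Group G] [Finite G] {p r m : ℕ} {S : Sylow 2 G} {x : G}

theorem Closed.false_of_commuting [IsSimpleGroup G] (hd : Closed S p r m x) (hna : ¬ IsMulCommutative G)
    {t d : G} (ht : orderOf t = 2) (hdo : orderOf d = p) (hc : Commute t d) : False := by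
  rcases hd.card_N with hN | hN
  · by_cases hW : fixedPart S = ⊥
    · obtain ⟨g, hg⟩ := hd.exists_conj_S ht
      have ht1 : g * t * g⁻¹ ≠ 1 := fun e => by
        have := conj_order g t
        rw [e, orderOf_one, ht] at this
        omega
      have h1 : g * d * g⁻¹ ∈ centralizer ({g * t * g⁻¹} : Set G) :=
        mem_centralizer_singleton_iff.2 (show Commute (g * d * g⁻¹) (g * t * g⁻¹) from hc.symm.map (MulAut.conj g).toMonoidHom)
      rw [hd.cent_invol_eq hN hg ht1, hd.centS_eq, hW, sup_bot_eq] at h1
      have h2 := hd.setting.orders.pow_of_pgroup hd.setting.hp hd.setting.hp2 Nat.prime_two S.isPGroup' h1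
      have h3 := orderOf_dvd_of_pow_eq_one h2
      rw [conj_order, hdo] at h3
      exact hd.setting.hp2 ((Nat.prime_dvd_prime_iff_eq hd.setting.hp Nat.prime_two).1 h3)
    · by_cases hrp : r = p
      · exact hd.false_of_index_p hrp hN hW
      · exact hd.false_of_cn hna hrp hN hW
  · obtain ⟨y, v, F⟩ := hd.exists_frob hN
    exact F.false hna

/-- Rank at least three, or `O(C(S)) ≠ 1`, is impossible. -/
theorem Setting.false_of_hyp [IsSimpleGroup G] (h : Setting S p) (hna : ¬ IsMulCommutative G)
    {t d : G} (ht : orderOf t = 2) (hdo : orderOf d = p) (hc : Commute t d)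
    (hyp : 8 ≤ Nat.card ↥(S : Subgroup G) ∨ fixedPart S ≠ ⊥) : False := by
  obtain ⟨r, m, x, hd⟩ := h.exists_closed hna hyp
  exact hd.false_of_commuting hna ht hdo hc

end Cfsg.Lib.OneComposite
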