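import Cfsg.Agent.OneComposite.RankTwo

/-!
The hypotheses of the theorem of Brauer, Suzuki and Wall.
-/

set_option autoImplicit false
set_option linter.unusedSectionVars false
set_option linter.style.haveILetI false

namespace Cfsg.Lib.OneComposite

open Subgroup Cfsg.Lib.CosetCore Cfsg.Lib.StrongEmb

variable {G : Type*} [Group G] [Finite G] {p : ℕ} {S : Sylow 2 G}

/-- `O(C(t))` is the only maximal invariant subgroup above it. -/
theorem Setting.le_cor_of_meet [IsSimpleGroup G] (h : Setting S p) (hna : ¬ IsMulCommutative G)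
    (h4 : Nat.card ↥(S : Subgroup G) = 4) (hP : fixedPart S = ⊥) {t : G} (ht : t ∈ (S : Subgroup G)) (ht1 : t ≠ 1)
    {U : Subgroup G} (hU : Inv S p U) (hne : U ⊓ cor t ≠ ⊥) : U ≤ cor t := by
  classical
  set O := cor t with hO
  have hOne : O ≠ ⊥ := fun e => hne (le_bot_iff.1 (e ▸ inf_le_right))
  obtain ⟨Q, hOQ, hQ⟩ := (Set.toFinite {W | Inv S p W}).exists_le_maximal (h.inv_cor (v := t) ht)
  change Maximal (Inv S p) Q at hQ
  have hfree : ∀ v ∈ (S : Subgroup G), v ≠ 1 → v ≠ t → ∀ z ∈ Q, Commute v z → z = 1 := by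
    intro v hv hv1 hvt z hz hc
    by_contra hz1
    obtain ⟨g, hg, hgt⟩ := h.trans_four hna h4 ht ht1 hv hv1
    set W := Q ⊓ centralizer ({v} : Set G) with hW
    have hWinv : Inv S p W := h.inv_inf hQ.1 ((h.le_cent hv).trans le_normalizer)
    have hzW : z ∈ W := mem_inf.2 ⟨hz, mem_centralizer_singleton_iff.2 hc.symm⟩
    have hinv : ∀ {V : Subgroup G}, Inv S p V → ∀ a ∈ normalizer ((S : Subgroup G) : Set G),
        Inv S p (V.map (MulAut.conj a).toMonoidHom) := by
      intro V hV a ha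
      refine ⟨hV.1.map _, fun b hb => mem_normalizer_iff.2 fun y => ?_⟩
      have hb' : a⁻¹ * b * a ∈ (S : Subgroup G) := by
        simpa using (mem_normalizer_iff.1 (inv_mem ha) b).1 hb
      have key := mem_normalizer_iff.1 (hV.2 hb') (a⁻¹ * y * a)
      rw [mem_conj_iff, mem_conj_iff]
      convert key using 2
      group
    have h1 : W.map (MulAut.conj g⁻¹).toMonoidHom ≤ O := by
      refine h.le_cor ht ht1 (hinv hWinv _ (inv_mem hg)) ?_
      rintro _ ⟨w, hw, rfl⟩
      have hwc : Commute w v := mem_centralizer_singleton_iff.1 (mem_inf.1 hw).2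
      have := hwc.map (MulAut.conj g⁻¹).toMonoidHom
      refine mem_centralizer_singleton_iff.2 ?_
      simpa [← hgt, mul_assoc] using this.eq
    obtain ⟨Q', hQQ', hQ'⟩ := (Set.toFinite {W | Inv S p W}).exists_le_maximal (hinv hQ.1 g hg)
    change Maximal (Inv S p) Q' at hQ'
    have hzQ' : z ∈ Q' := hQQ' (mem_conj_iff.2 (hOQ (h1 ⟨z, hzW, by simp⟩)))
    have he : Q' = Q := h.exists_join hQ' hQ (Or.inr fun e => hz1 (mem_bot.1 (e ▸ mem_inf.2 ⟨hzQ', hz⟩)))
    have hgQ : g ∈ normalizer (Q : Set G) := mem_normalizer_iff_map.2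
      (eq_of_le_of_card_ge (he ▸ hQQ') (card_map_of_injective (MulAut.conj g).injective).ge)
    have hgc : g ∉ centralizer ((S : Subgroup G) : Set G) := fun hgc => hvt (by
      rw [← hgt, ← mem_centralizer_iff.1 hgc t ht, mul_inv_cancel_right])
    have hSQ := h.centralizes_of_three h4 hQ.1 hgQ hg hgc
    have hle := h.le_fixedPart hQ.1 fun y hy => mem_centralizer_iff.2 fun a ha =>
      (mem_centralizer_iff.1 (hSQ ha) y hy).symm
    rw [hP] at hle
    exact hOne (le_bot_iff.1 (hOQ.trans hle))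
  have hQt : Q ≤ O := by
    refine h.le_cor ht ht1 hQ.1 fun z hz => mem_centralizer_singleton_iff.2 ?_
    obtain ⟨u, hu, hu1, hut⟩ : ∃ u ∈ (S : Subgroup G), u ≠ 1 ∧ u ≠ t := by
      by_contra hcon
      push Not at hcon
      have hle : (S : Subgroup G) ≤ zpowers t := fun u hu => by
        by_cases hu1 : u = 1
        · exact hu1 ▸ one_mem _
        · exact (hcon u hu hu1) ▸ mem_zpowers t
      have := card_dvd_of_le hle
      rw [h4, Nat.card_zpowers, h.order_two ht ht1] at this
      norm_num at this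
    have htu : t * u ∈ (S : Subgroup G) := mul_mem ht hu
    have htu1 : t * u ≠ 1 := fun e => hut (by rw [eq_inv_of_mul_eq_one_right e, h.inv_eq ht])
    have htut : t * u ≠ t := fun e => hu1 (mul_eq_left.1 e)
    have e1 := inverts_of_free (h.sq hu) (hQ.1.2 hu) (hfree u hu hu1 hut) hz
    have e2 := inverts_of_free (h.sq htu) (hQ.1.2 htu) (hfree _ htu htu1 htut) hz
    have e3 : t * z⁻¹ * t⁻¹ = z⁻¹ := by
      rw [← e1]
      calc t * (u * z * u⁻¹) * t⁻¹ = (t * u) * z * (t * u)⁻¹ := by group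
        _ = _ := by rw [e2, e1]
    have : t * z * t⁻¹ = z := by
      have := congrArg (·⁻¹) e3
      simpa [mul_assoc] using this
    exact (mul_inv_eq_iff_eq_mul.1 this).symm
  obtain ⟨U', hUU', hU'⟩ := (Set.toFinite {W | Inv S p W}).exists_le_maximal hU
  change Maximal (Inv S p) U' at hU'
  have he : U' = Q := h.exists_join hU' hQ (Or.inr fun e => hne (le_bot_iff.1
    ((inf_le_inf hUU' hOQ).trans e.le)))
  exact hUU'.trans (he.le.trans hQt)

theorem Setting.exists_psl_odd [IsSimpleGroup G] (h : Setting S p) (hna : ¬ IsMulCommutative G)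
    (h4 : Nat.card ↥(S : Subgroup G) = 4) (hP : fixedPart S = ⊥) :
    ∃ (F : Type) (_ : Field F) (_ : Fintype F), Odd (Fintype.card F) ∧
      Nonempty (G ≃* Matrix.ProjectiveSpecialLinearGroup (Fin 2) F) := by
  classical
  haveI : Fact (Nat.Prime 2) := ⟨Nat.prime_two⟩
  haveI : Fact p.Prime := ⟨h.hp⟩
  obtain ⟨t, ht, ht1⟩ := h.exists_ne_one
  have hto := h.order_two ht ht1
  haveI : IsKleinFour ↥(S : Subgroup G) := ⟨h4, by
    haveI : Nontrivial ↥(S : Subgroup G) := ⟨⟨⟨t, ht⟩, 1, fun e => ht1 (congrArg Subtype.val e)⟩⟩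
    refine (Monoid.exponent_eq_prime_iff Nat.prime_two).2 fun g hg => ?_
    rw [← Subgroup.orderOf_coe]
    exact h.order_two g.2 fun e => hg (Subtype.ext e)⟩
  have hdi : Nonempty ((S : Subgroup G) ≃* DihedralGroup 2) := IsKleinFour.nonempty_mulEquiv
  set O := cor t with hO
  have hOt : O ≤ centralizer ({t} : Set G) := coreIn_le _
  have hOinv : Inv S p O := h.inv_cor ht
  -- generated by `t` and any other involution
  have hgen : ∀ u ∈ (S : Subgroup G), u ∉ zpowers t → ∀ y : G, Commute t y → Commute u y →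
      y ∈ centralizer ((S : Subgroup G) : Set G) := by
    intro u hu hut y hty huy
    refine mem_centralizer_iff.2 fun a ha => ?_
    have hu1 : u ≠ 1 := fun e => hut (e ▸ one_mem _)
    have hne : t ≠ u := fun e => hut (e ▸ mem_zpowers t)
    have htu1 : t * u ≠ 1 := fun e => hne (by rw [eq_inv_of_mul_eq_one_right e, h.inv_eq ht])
    rcases mem_four h4 ht hu (mul_mem ht hu) ha ht1 hu1 htu1 hne (fun e => hu1 (left_eq_mul.1 e))
      (fun e => ht1 (right_eq_mul.1 e)) with rfl | rfl | rfl | rfl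
    · rw [one_mul, mul_one]
    · exact hty.eq
    · exact huy.eq
    · exact (hty.mul_left huy).eq
  have hfree : ∀ u ∈ (S : Subgroup G), u ∉ zpowers t → ∀ y ∈ O, Commute u y → y = 1 := by
    intro u hu hut y hy hc
    have hle := h.le_fixedPart (h.inv_inf hOinv (h.self_cent.trans le_normalizer)) inf_le_right
    rw [hP] at hle
    exact mem_bot.1 (hle (mem_inf.2 ⟨hy, hgen u hu hut y (mem_centralizer_singleton_iff.1 (hOt hy)).symm hc⟩))
  have hinvs : ∀ u ∈ (S : Subgroup G), u ∉ zpowers t → ∀ y ∈ O, u * y * u⁻¹ = y⁻¹ := fun u hu hut y hy =>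
    inverts_of_free (h.sq hu) (hOinv.2 hu) (hfree u hu hut) hy
  have hSO : O ≠ ⊥ → (S : Subgroup G) ⊓ centralizer (O : Set G) = zpowers t := by
    intro hne
    refine le_antisymm (fun u hu => ?_) (zpowers_le.2 ⟨ht, mem_centralizer_iff.2 fun y hy =>
      mem_centralizer_singleton_iff.1 (hOt hy)⟩)
    by_contra hut
    exact hne ((eq_bot_iff).2 fun y hy => mem_bot.2
      (hfree u hu.1 hut y hy (mem_centralizer_iff.1 hu.2 y hy).symm))
  refine Cfsg.Agent.S0508.result S 2 le_rfl hdi t hto ht (fun s hs => h.comm hs ht) O rfl ?_ ?_ ?_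
  · intro hne
    rw [hSO hne]
    refine ⟨inferInstance, ?_⟩
    have h1 := Subgroup.card_mul_index ((zpowers t).subgroupOf (S : Subgroup G))
    rw [Nat.card_congr (subgroupOfEquivOfLe (zpowers_le.2 ht)).toEquiv, Nat.card_zpowers, hto, h4] at h1
    show ((zpowers t).subgroupOf (S : Subgroup G)).index = 2
    omega
  · intro s hs hsO y hy
    refine hinvs s hs (fun hst => hsO ?_) y hy
    exact (zpowers_le.2 (mem_centralizer_iff.2 fun z hz => mem_centralizer_singleton_iff.1 (hOt hz))) hst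
  intro Y hYO hY1
  obtain ⟨y, hy, hy1⟩ := Y.bot_or_exists_ne_one.resolve_left hY1
  have hyo : orderOf y = p := orderOf_eq_prime (h.orders.pow_of_pgroup h.hp h.hp2 h.hp hOinv.1 (hYO hy)) hy1
  have hSY : (S : Subgroup G) ≤ normalizer (Y : Set G) := by
    intro u hu
    rw [mem_normalizer_iff]
    intro z
    have key : ∀ w ∈ Y, u * w * u⁻¹ ∈ Y := fun w hw => by
      by_cases hut : u ∈ zpowers t
      · obtain ⟨i, rfl⟩ := mem_zpowers_iff.1 hut
        rw [((show Commute w t from mem_centralizer_singleton_iff.1 (hOt (hYO hw))).zpow_right i).symm.eq,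
          mul_inv_cancel_right]
        exact hw
      · rw [hinvs u hu hut w (hYO hw)]
        exact inv_mem hw
    refine ⟨key z, fun hz => ?_⟩
    have := key _ hz
    rwa [show u * (u * z * u⁻¹) * u⁻¹ = (u * u) * z * (u * u)⁻¹ by group, h.sq hu, one_mul, inv_one, mul_one] at this
  set C := centralizer (Y : Set G) with hC
  have hSC : (S : Subgroup G) ≤ normalizer (C : Set G) :=
    hSY.trans (Cfsg.Lib.Thompson.normalizer_le_normalizer_centralizer _)
  have htC : t ∈ C := mem_centralizer_iff.2 fun z hz => mem_centralizer_singleton_iff.1 (hOt (hYO hz))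
  have hCy : ∀ c ∈ C, Commute c y := fun c hc => (mem_centralizer_iff.1 hc y hy).symm
  have hone : ∀ a ∈ C, orderOf a = 2 → Commute a t → a = t := by
    intro a ha hao hat
    by_contra hne
    exact h.no_cent_four h4 hP hao hto hat hne hyo (hCy a ha) (hCy t htC)
  -- `C(Y) ≤ C(t)`
  set H := C ⊔ (S : Subgroup G) with hH
  have hCH : C ≤ H := le_sup_left
  haveI hCn : (C.subgroupOf H).Normal :=
    (normal_subgroupOf_iff_le_normalizer hCH).2 (sup_le le_normalizer hSC)
  have hmul : ∀ g ∈ H, ∃ c ∈ C, ∃ s ∈ (S : Subgroup G), c * s = g := by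
    intro g hg
    have hg' : g ∈ ((C ⊔ (S : Subgroup G) : Subgroup G) : Set G) := hg
    rw [coe_mul_of_right_le_normalizer_left C _ hSC] at hg'
    exact Set.mem_mul.1 hg'
  have hsol : Group.IsSolvable ↥H := by
    haveI : Group.IsSolvable ↥C := h.orders.solvable_of_central (Or.inr hyo) h.hp h.hp2 fun c hc => (hCy c hc).symm
    haveI : Group.IsSolvable ↥(C.subgroupOf H) :=
      solvable_of_surjective (f := (subgroupOfEquivOfLe hCH).symm.toMonoidHom) (subgroupOfEquivOfLe hCH).symm.surjective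
    haveI : Group.IsSolvable ↥(S : Subgroup G) := by
      haveI := h.isComm
      exact Group.isSolvable_of_comm fun a b => h.isComm.is_comm.comm a b
    haveI : Group.IsSolvable (↥H ⧸ C.subgroupOf H) := by
      refine solvable_of_surjective (f := (QuotientGroup.mk' (C.subgroupOf H)).comp
        (inclusion (le_sup_right : (S : Subgroup G) ≤ H))) ?_
      rintro ⟨⟨g, hg⟩⟩
      obtain ⟨c, hc, s, hs, rfl⟩ := hmul g hg
      refine ⟨⟨s, hs⟩, QuotientGroup.eq.2 (mem_subgroupOf.2 ?_)⟩
      show s⁻¹ * (c * s) ∈ C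
      simpa [mul_assoc] using (mem_normalizer_iff.1 (hSC (inv_mem hs)) c).1 hc
    exact solvable_of_ker_le_range (C.subgroupOf H).subtype (QuotientGroup.mk' (C.subgroupOf H))
      (by rw [QuotientGroup.ker_mk', range_subtype])
  have hHt : H ≤ centralizer ({t} : Set G) := by
    refine le_of_core_normalizer S h.isComm hsol le_sup_right ?_ ?_
    · have hK : Inv S p (coreIn H) := h.inv_coreIn (le_sup_right.trans le_normalizer)
      have hYi : Inv S p Y := ⟨hOinv.1.to_le hYO, hSY⟩
      have hHY : H ≤ normalizer (Y : Set G) := sup_le (centralizer_le_normalizer _) hSY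
      have hU := h.inv_sup hYi hK ((coreIn_le H).trans hHY)
      refine (le_sup_right : coreIn H ≤ Y ⊔ coreIn H).trans ((h.le_cor_of_meet hna h4 hP ht ht1 hU ?_).trans hOt)
      exact fun e => hy1 (mem_bot.1 (e ▸ mem_inf.2 ⟨mem_sup_left hy, hYO hy⟩))
    · rintro g ⟨hgH, hgN⟩
      obtain ⟨c, hc, s, hs, rfl⟩ := hmul g hgH
      have hcN : c ∈ normalizer ((S : Subgroup G) : Set G) := by
        simpa using mul_mem (show c * s ∈ normalizer ((S : Subgroup G) : Set G) from hgN) (inv_mem (le_normalizer hs))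
      have hct : c * t * c⁻¹ = t := hone _ (mul_mem (mul_mem hc htC) (inv_mem hc))
        (by rw [show c * t * c⁻¹ = MulAut.conj c t from rfl, MulEquiv.orderOf_eq, hto])
        (h.comm ((mem_normalizer_iff.1 hcN t).1 ht) ht)
      exact (centralizer ({t} : Set G)).mul_mem (mem_centralizer_singleton_iff.2 (mul_inv_eq_iff_eq_mul.1 hct)) (h.le_cent ht hs)
  intro g hg
  have hgC : g * t * g⁻¹ ∈ C :=
    (mem_normalizer_iff.1 (Cfsg.Lib.Thompson.normalizer_le_normalizer_centralizer _ hg) t).1 htC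
  have hgt : g * t * g⁻¹ = t := hone _ hgC
    (by rw [show g * t * g⁻¹ = MulAut.conj g t from rfl, MulEquiv.orderOf_eq, hto])
    (mem_centralizer_singleton_iff.1 (hHt (hCH hgC)))
  exact mem_centralizer_singleton_iff.2 (mul_inv_eq_iff_eq_mul.1 hgt)

end Cfsg.Lib.OneComposite
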