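import Cfsg.Agent.OneComposite.Arith
import Cfsg.Agent.OneComposite.Cases
import Cfsg.Agent.OneComposite.RankTwoPSL

/-!
Simple groups with at most one composite element order.
-/

set_option autoImplicit false
set_option linter.unusedSectionVars false
set_option linter.style.haveILetI false

namespace Cfsg.Lib.OneComposite

open Subgroup

variable {G : Type*} [Group G] [Finite G]

theorem One.orders (h : One G) {p : ℕ} (hp : p.Prime) {g : G} (hg : orderOf g = 2 * p) : Orders G p := by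
  intro k
  by_cases h1 : k = 1
  · exact Or.inl h1
  by_cases h2 : (orderOf k).Prime
  · exact Or.inr (Or.inl h2)
  refine Or.inr (Or.inr ((h k g ?_ h2 ?_ ?_).trans hg))
  · have := orderOf_pos k
    have : orderOf k ≠ 1 := fun e => h1 (orderOf_eq_one_iff.1 e)
    omega
  · rw [hg]; have := hp.two_le; omega
  · rw [hg]; exact Nat.not_prime_mul (by norm_num) hp.ne_one

/-- A non-abelian simple group has no Sylow 2-subgroup of order at most two. -/
theorem four_le_sylow [IsSimpleGroup G] (hna : ¬ IsMulCommutative G) (S : Sylow 2 G) {t : G} (ht : orderOf t = 2) :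
    4 ≤ Nat.card ↥(S : Subgroup G) := by
  haveI : Fact (Nat.Prime 2) := ⟨Nat.prime_two⟩
  have hG : 2 ∣ Nat.card G := ht ▸ orderOf_dvd_natCard t
  obtain ⟨j, hj⟩ := IsPGroup.iff_card.1 S.isPGroup'
  rcases j with _ | _ | j
  · exfalso
    refine S.not_dvd_index ?_
    have := Subgroup.card_mul_index (S : Subgroup G)
    rw [hj, pow_zero, one_mul] at this
    exact this ▸ hG
  · exfalso
    rw [zero_add, pow_one] at hj
    have hP' : normalizer ((S : Subgroup G) : Set G) ≤ centralizer ((S : Subgroup G) : Set G) := by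
      intro z hz
      refine mem_centralizer_iff.2 fun a ha => ?_
      by_cases ha1 : a = 1
      · rw [ha1, one_mul, mul_one]
      obtain ⟨b, -, hb⟩ := (Nat.card_eq_two_iff' (1 : ↥(S : Subgroup G))).1 hj
      have e1 := hb ⟨a, ha⟩ fun e => ha1 (congrArg Subtype.val e)
      have e2 := hb ⟨z * a * z⁻¹, (mem_normalizer_iff.1 hz a).1 ha⟩ fun e => ha1
        (conj_eq_one_iff.1 (congrArg Subtype.val e))
      exact (mul_inv_eq_iff_eq_mul.1 (congrArg Subtype.val (e2.trans e1.symm))).symm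
    rcases (MonoidHom.normal_ker (MonoidHom.transferSylow S hP')).eq_bot_or_eq_top with e | e
    · refine hna ⟨⟨fun a b => (MonoidHom.ker_eq_bot_iff _).1 e ?_⟩⟩
      rw [map_mul, map_mul]
      exact Subtype.ext (mem_centralizer_iff.1 (hP' (le_normalizer (Subtype.prop _))) _ (Subtype.prop _))
    · have h1 := MonoidHom.not_dvd_card_ker_transferSylow S hP'
      rw [e, card_top] at h1
      exact h1 hG
  · rw [hj, pow_succ, pow_succ]
    have := Nat.one_le_two_pow (n := j)
    omega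

/-- An element of order `2 * p` leads to `PSL₂(q)` with `q` odd. -/
theorem One.psl_of_two_mul [IsSimpleGroup G] (h : One G) (hna : ¬ IsMulCommutative G) {p : ℕ} (hp : p.Prime)
    (hp2 : p ≠ 2) {t d : G} (ht : orderOf t = 2) (hd : orderOf d = p) (hc : Commute t d) :
    ∃ (F : Type) (_ : Field F) (_ : Fintype F), ((Fintype.card F = 5 ∨ Fintype.card F = 7 ∨ Fintype.card F = 11 ∨
      Fintype.card F = 13) ∨ ∃ n r s : ℕ, r.Prime ∧ s.Prime ∧ 3 ^ n - 1 = 2 * r ∧ 3 ^ n + 1 = 4 * s ∧
        Fintype.card F = 3 ^ n) ∧ Nonempty (G ≃* Matrix.ProjectiveSpecialLinearGroup (Fin 2) F) := by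
  haveI : Fact (Nat.Prime 2) := ⟨Nat.prime_two⟩
  have hord : Orders G p := h.orders hp (g := t * d) (by
    rw [hc.orderOf_mul_eq_mul_orderOf_of_coprime
      (by rw [ht, hd]; exact (Nat.coprime_primes Nat.prime_two hp).2 (Ne.symm hp2)), ht, hd])
  obtain ⟨S⟩ : Nonempty (Sylow 2 G) := inferInstance
  have hs : Setting S p := ⟨hp, hp2, hord, four_le_sylow hna S ht⟩
  by_cases hyp : 8 ≤ Nat.card ↥(S : Subgroup G) ∨ fixedPart S ≠ ⊥
  · exact (hs.false_of_hyp hna ht hd hc hyp).elim
  push Not at hyp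
  have h4 : Nat.card ↥(S : Subgroup G) = 4 := by
    obtain ⟨j, hj⟩ := IsPGroup.iff_card.1 S.isPGroup'
    have h1 := hs.card4
    have h2 := hyp.1
    rw [hj] at h1 h2 ⊢
    rcases j with _ | _ | _ | j
    · norm_num at h1
    · norm_num at h1
    · norm_num
    · rw [pow_succ, pow_succ, pow_succ] at h2
      have := Nat.one_le_two_pow (n := j)
      omega
  obtain ⟨F, i1, i2, hodd, ⟨e⟩⟩ := hs.exists_psl_odd hna h4 hyp.2
  refine ⟨F, i1, i2, psl_odd_cases hp hp2 hodd (fun hsol => ?_) (fun g => ?_), ⟨e⟩⟩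
  · haveI := hsol
    haveI : Group.IsSolvable G := Group.isSolvable_of_isSolvable_injective (f := e.toMonoidHom) e.injective
    exact hna ⟨⟨fun a b => IsSimpleGroup.comm_iff_isSolvable.mpr inferInstance a b⟩⟩
  · rcases hord (e.symm g) with e' | e' | e'
    · exact Or.inl (e.symm.injective (e'.trans (map_one _).symm))
    · exact Or.inr (Or.inl (by rwa [e.symm.orderOf_eq] at e'))
    · exact Or.inr (Or.inr (by rwa [e.symm.orderOf_eq] at e'))

theorem exists_two_mul_of_not_cit (h : ¬ Cfsg.Lib.CITGroups.CIT G) :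
    ∃ (p : ℕ) (t d : G), p.Prime ∧ p ≠ 2 ∧ orderOf t = 2 ∧ orderOf d = p ∧ Commute t d := by
  unfold Cfsg.Lib.CITGroups.CIT at h
  push Not at h
  obtain ⟨t, ht, hC⟩ := h
  haveI : Fact (Nat.Prime 2) := ⟨Nat.prime_two⟩
  rw [IsPGroup.iff_card] at hC
  push Not at hC
  obtain ⟨q, hq, hdq, hq2⟩ : ∃ q, q.Prime ∧ q ∣ Nat.card ↥(centralizer ({t} : Set G)) ∧ q ≠ 2 := by
    by_contra hcon
    push Not at hcon
    exact hC _ (Nat.eq_prime_pow_of_unique_prime_dvd Nat.card_pos.ne' fun {q} hq hdq => hcon q hq hdq)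
  haveI : Fact q.Prime := ⟨hq⟩
  obtain ⟨⟨d, hd⟩, hdo⟩ := exists_prime_orderOf_dvd_card' q hdq
  rw [orderOf_mk] at hdo
  exact ⟨q, t, d, hq, hq2, ht, hdo, (show Commute d t from mem_centralizer_singleton_iff.1 hd).symm⟩

end Cfsg.Lib.OneComposite
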