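import Cfsg.Agent.CITGroups.Eppo

/-!
The members of the families with at most one composite element order.
-/

set_option autoImplicit false
set_option linter.unusedSectionVars false
set_option linter.style.haveILetI false

namespace Cfsg.Lib.OneComposite

open Subgroup
open Cfsg.Lib.GLTwo
open scoped MatrixGroups

/-- At most one composite element order. -/
def One (G : Type*) [Group G] : Prop :=
  ∀ g h : G, 1 < orderOf g → ¬ (orderOf g).Prime → 1 < orderOf h → ¬ (orderOf h).Prime → orderOf g = orderOf h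

theorem One.of_injective {G H : Type*} [Group G] [Group H] (h : One G) (f : H →* G) (hf : Function.Injective f) :
    One H := fun a b => by
  rw [← orderOf_injective f hf a, ← orderOf_injective f hf b]
  exact h (f a) (f b)

/-- An order other than the composite one is a prime. -/
theorem One.prime_of_ne {G : Type*} [Group G] (h : One G) {g k : G} (hg : 1 < orderOf g) (hg' : ¬ (orderOf g).Prime)
    {N : ℕ} (hk : orderOf k = N) (hN : 1 < N) (hne : N ≠ orderOf g) : N.Prime := by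
  by_contra hN'
  exact hne (hk ▸ h k g (hk ▸ hN) (hk ▸ hN') hg hg')

section PSL

variable {F : Type} [Field F] [Fintype F]

local notation "X" => Matrix.ProjectiveSpecialLinearGroup (Fin 2) F

theorem two_three (hns : ¬ Group.IsSolvable X) : Fintype.card F ≠ 2 ∧ Fintype.card F ≠ 3 := by
  have hcard : Nat.gcd 2 (Fintype.card F - 1) * Nat.card X =
      Fintype.card F * (Fintype.card F ^ 2 - 1) := Cfsg.Lib.Classical.SmallPSL.card_psl rfl
  refine ⟨fun e => ?_, fun e => ?_⟩ <;> rw [e] at hcard <;> norm_num at hcard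
  · exact hns (Cfsg.Lib.Chars.burnside_isSolvable 2 3 Nat.prime_two Nat.prime_three _ ⟨1, 1, by norm_num; omega⟩)
  · exact hns (Cfsg.Lib.Chars.burnside_isSolvable 2 3 Nat.prime_two Nat.prime_three _ ⟨2, 1, by norm_num; omega⟩)

theorem exists_halves (hodd : Odd (Fintype.card F)) :
    (∃ g : X, orderOf g = (Fintype.card F - 1) / 2) ∧ ∃ g : X, orderOf g = (Fintype.card F + 1) / 2 := by
  obtain ⟨j, hj⟩ := hodd
  have hg : Nat.gcd 2 (Fintype.card F - 1) = 2 := Nat.gcd_eq_left ⟨j, by omega⟩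
  obtain ⟨a, ha⟩ := exists_orderOf_sub_one (F := F)
  obtain ⟨b, hb⟩ := exists_orderOf_add_one (F := F)
  refine ⟨⟨prj a, ?_⟩, prj b, ?_⟩
  · rw [orderOf_prj, hg, orderOf_pow' _ two_ne_zero, ha, Nat.gcd_eq_right ⟨j, by omega⟩]
  · rw [orderOf_prj, hg, orderOf_pow' _ two_ne_zero, hb, Nat.gcd_eq_right ⟨j + 1, by omega⟩]

theorem psl_odd_cases {p : ℕ} (hp : p.Prime) (hp2 : p ≠ 2) (hodd : Odd (Fintype.card F))
    (hns : ¬ Group.IsSolvable X)
    (hord : ∀ g : X, g = 1 ∨ (orderOf g).Prime ∨ orderOf g = 2 * p) :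
    (Fintype.card F = 5 ∨ Fintype.card F = 7 ∨ Fintype.card F = 11 ∨ Fintype.card F = 13) ∨
      ∃ n r s : ℕ, r.Prime ∧ s.Prime ∧ 3 ^ n - 1 = 2 * r ∧ 3 ^ n + 1 = 4 * s ∧ Fintype.card F = 3 ^ n := by
  obtain ⟨-, n3⟩ := two_three hns
  have hq1 := Fintype.one_lt_card (α := F)
  obtain ⟨⟨ga, hga⟩, ⟨gb, hgb⟩⟩ := exists_halves hodd
  obtain ⟨a, ha⟩ := hodd
  rw [show (Fintype.card F - 1) / 2 = a by omega] at hga
  rw [show (Fintype.card F + 1) / 2 = a + 1 by omega] at hgb
  have hA : a.Prime ∨ a = 2 * p := by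
    rcases hord ga with e | e | e
    · rw [e, orderOf_one] at hga; omega
    · exact Or.inl (hga ▸ e)
    · exact Or.inr (hga ▸ e)
  have hB : (a + 1).Prime ∨ a + 1 = 2 * p := by
    rcases hord gb with e | e | e
    · rw [e, orderOf_one] at hgb; omega
    · exact Or.inl (hgb ▸ e)
    · exact Or.inr (hgb ▸ e)
  have h3 : ∀ N : ℕ, 3 ∣ N → (N.Prime ∨ N = 2 * p) → N = 3 ∨ N = 6 := by
    intro N hd hN
    rcases hN with hN | rfl
    · exact Or.inl ((Nat.prime_dvd_prime_iff_eq Nat.prime_three hN).1 hd).symm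
    · rcases Nat.prime_three.dvd_mul.1 hd with h | h
      · norm_num at h
      · right
        rw [← (Nat.prime_dvd_prime_iff_eq Nat.prime_three hp).1 h]
  have h3cases : 3 ∣ a ∨ 3 ∣ a + 1 ∨ 3 ∣ Fintype.card F := by
    rcases (by omega : a % 3 = 0 ∨ a % 3 = 1 ∨ a % 3 = 2) with e | e | e
    · exact Or.inl (Nat.dvd_of_mod_eq_zero e)
    · exact Or.inr (Or.inr ⟨2 * (a / 3) + 1, by omega⟩)
    · exact Or.inr (Or.inl ⟨a / 3 + 1, by omega⟩)
  rcases h3cases with h | h | h
  · rcases h3 a h hA with e | e <;> left <;> omega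
  · rcases h3 (a + 1) h hB with e | e <;> left <;> omega
  by_cases h5 : Fintype.card F = 5
  · exact Or.inl (Or.inl h5)
  right
  obtain ⟨p0, -, f, hp0, hpf⟩ := FiniteField.card' F
  have hp03 : p0 = 3 := ((Nat.prime_dvd_prime_iff_eq Nat.prime_three hp0).1
    (Nat.prime_three.dvd_of_dvd_pow (hpf ▸ h))).symm
  subst hp03
  have hpar : p % 2 = 1 := (hp.eq_two_or_odd).resolve_left hp2
  rcases Nat.even_or_odd a with ⟨i, hi⟩ | ⟨i, hi⟩
  · exfalso
    have hA' : a = 2 * p := hA.resolve_left fun e => by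
      rcases e.eq_two_or_odd with e' | e' <;> omega
    have hev : Fintype.card F % 4 = 1 := by omega
    obtain ⟨k, hk⟩ : Even (f : ℕ) := by
      by_contra hodd'
      obtain ⟨k, hk⟩ := Nat.not_even_iff_odd.1 hodd'
      rw [hpf, hk, pow_succ, pow_mul, Nat.mul_mod, Nat.pow_mod] at hev
      norm_num at hev
    have h8 : Fintype.card F % 8 = 1 := by
      rw [hpf, hk, ← two_mul, pow_mul, Nat.pow_mod]
      norm_num
    omega
  · have hB' : a + 1 = 2 * p := hB.resolve_left fun e => by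
      rcases e.eq_two_or_odd with e' | e' <;> omega
    have hA' : a.Prime := hA.resolve_right fun e => by omega
    exact ⟨f, a, p, hA', hp, by omega, by omega, hpf⟩

theorem One.psl_cases (h : One X) (hns : ¬ Group.IsSolvable X)
    (hq : Fintype.card F = 9 ∨ (∃ n : ℕ, Fintype.card F = 2 ^ n) ∨
      ((Fintype.card F).Prime ∧ ∃ k : ℕ, Fintype.card F = 2 ^ k + 1 ∨ Fintype.card F + 1 = 2 ^ k)) :
    (Fintype.card F = 4 ∨ Fintype.card F = 5 ∨ Fintype.card F = 7 ∨ Fintype.card F = 9 ∨ Fintype.card F = 16) ∨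
      ∃ n r : ℕ, (2 ^ n - 1).Prime ∧ r.Prime ∧ 2 ^ n + 1 = 3 * r ∧ Fintype.card F = 2 ^ n := by
  obtain ⟨n2, n3⟩ := two_three hns
  have hq1 := Fintype.one_lt_card (α := F)
  rcases hq with h9 | ⟨n, hn⟩ | ⟨hprime, k, hk⟩
  · tauto
  · -- even characteristic
    by_cases h4 : Fintype.card F = 4
    · tauto
    have hn3 : 3 ≤ n := by
      by_contra hlt
      rcases (by omega : n = 0 ∨ n = 1 ∨ n = 2) with rfl | rfl | rfl <;> norm_num at hn <;> omega
    have hg : Nat.gcd 2 (Fintype.card F - 1) = 1 := by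
      have h2 : 2 ∣ Fintype.card F := hn ▸ dvd_pow_self 2 (by omega)
      exact (Nat.coprime_two_left (n := Fintype.card F - 1)).2 ⟨(Fintype.card F - 2) / 2, by omega⟩
    obtain ⟨sa, hsa⟩ := exists_orderOf_sub_one (F := F)
    obtain ⟨sb, hsb⟩ := exists_orderOf_add_one (F := F)
    have hA : orderOf (prj sa) = 2 ^ n - 1 := by rw [orderOf_prj, hg, pow_one, hsa, hn]
    have hB : orderOf (prj sb) = 2 ^ n + 1 := by rw [orderOf_prj, hg, pow_one, hsb, hn]
    have h8 : 8 ≤ 2 ^ n := le_trans (by norm_num) (Nat.pow_le_pow_right (by norm_num) hn3)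
    rcases Nat.even_or_odd n with ⟨k, rfl⟩ | ⟨k, rfl⟩
    · -- `2 ^ n - 1` is composite
      set u := 2 ^ k with hu
      have hu4 : 4 ≤ u := le_trans (by norm_num) (Nat.pow_le_pow_right (by norm_num) (show 2 ≤ k by omega))
      have hfac : 2 ^ (k + k) - 1 = (u - 1) * (u + 1) := by
        rw [pow_add, ← hu, mul_comm (u - 1), ← Nat.sq_sub_sq, one_pow, pow_two]
      have hA' : ¬ (orderOf (prj sa)).Prime := by
        rw [hA, hfac]
        exact Nat.not_prime_mul (by omega) (by omega)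
      have hdiv : ∀ N, N ∣ 2 ^ (k + k) - 1 → 1 < N → N ≠ 2 ^ (k + k) - 1 → N.Prime := fun N hd hN hne => by
        obtain ⟨c, hc⟩ := hd
        have hc0 : c ≠ 0 := by rintro rfl; rw [mul_zero] at hc; omega
        refine h.prime_of_ne (by omega) hA' (k := prj sa ^ c) ?_ hN (hA ▸ hne)
        rw [orderOf_pow' _ hc0, hA, hc, Nat.gcd_eq_right (dvd_mul_left c N),
          Nat.mul_div_cancel _ (Nat.pos_of_ne_zero hc0)]
      have hlt : u + 1 < 2 ^ (k + k) - 1 := by rw [hfac]; nlinarith [Nat.sub_add_cancel (show 1 ≤ u by omega)]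
      have p1 := hdiv _ (hfac ▸ dvd_mul_left (u + 1) (u - 1)) (by omega) hlt.ne
      have p2 := hdiv (u - 1) (hfac ▸ dvd_mul_right (u - 1) (u + 1)) (by omega) (by omega)
      have hn3' : ¬ 3 ∣ u := fun hd => by
        have := (Nat.prime_dvd_prime_iff_eq Nat.prime_three Nat.prime_two).1 (Nat.prime_three.dvd_of_dvd_pow hd)
        omega
      rcases (by omega : 3 ∣ u - 1 ∨ 3 ∣ u + 1) with hd | hd
      · have := (Nat.prime_dvd_prime_iff_eq Nat.prime_three p2).1 hd
        left; right; right; right; right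
        rw [hn, pow_add, ← hu, show u = 4 by omega]
        norm_num
      · have := (Nat.prime_dvd_prime_iff_eq Nat.prime_three p1).1 hd
        omega
    · -- `2 ^ n + 1` is composite
      have hd : 3 ∣ 2 ^ (2 * k + 1) + 1 := by
        have : (2 ^ (2 * k + 1) + 1) % 3 = 0 := by
          rw [pow_succ, pow_mul, Nat.add_mod, Nat.mul_mod, Nat.pow_mod]
          norm_num
        omega
      obtain ⟨r, hr⟩ := hd
      have hr3 : 3 ≤ r := by
        generalize 2 ^ (2 * k + 1) = N at hr h8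
        omega
      have hne : 2 ^ (2 * k + 1) - 1 ≠ orderOf (prj sb) ∧ 1 < 2 ^ (2 * k + 1) - 1 ∧ r ≠ orderOf (prj sb) ∧
          1 < orderOf (prj sb) := by
        rw [hB]
        generalize 2 ^ (2 * k + 1) = N at hr h8 ⊢
        omega
      have hB' : ¬ (orderOf (prj sb)).Prime := by
        rw [hB, hr]
        exact Nat.not_prime_mul (a := 3) (b := r) (by norm_num) (by omega)
      refine Or.inr ⟨2 * k + 1, r, ?_, ?_, hr, hn⟩
      · exact h.prime_of_ne hne.2.2.2 hB' hA hne.2.1 hne.1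
      · refine h.prime_of_ne hne.2.2.2 hB' (k := prj sb ^ 3) (N := r) ?_ (by omega) hne.2.2.1
        rw [orderOf_pow' _ (by norm_num), hB, hr, Nat.gcd_eq_right (dvd_mul_right 3 r),
          Nat.mul_div_cancel_left _ (by norm_num)]
  · -- a Fermat or Mersenne prime
    left
    by_cases hk4 : k < 4
    · rcases (by omega : k = 0 ∨ k = 1 ∨ k = 2 ∨ k = 3) with rfl | rfl | rfl | rfl <;> norm_num at hk <;> omega
    exfalso
    obtain ⟨j, rfl⟩ := Nat.exists_eq_add_of_le (show 4 ≤ k by omega)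
    rw [pow_add] at hk
    norm_num at hk
    have h1 : 1 ≤ 2 ^ j := Nat.one_le_two_pow
    have hodd : Odd (Fintype.card F) := hprime.odd_of_ne_two n2
    obtain ⟨⟨ga, hga⟩, ⟨gb, hgb⟩⟩ := exists_halves hodd
    obtain ⟨g, hg⟩ : ∃ g : X, orderOf g = 8 * 2 ^ j := by
      rcases hk with hk | hk
      · exact ⟨ga, by omega⟩
      · exact ⟨gb, by omega⟩
    have hnp : ¬ (orderOf g).Prime := by
      rw [hg]
      intro e
      rcases e.eq_one_or_self_of_dvd 2 ⟨4 * 2 ^ j, by ring⟩ with e' | e' <;> omega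
    have h4o : orderOf (g ^ (2 * 2 ^ j)) = 4 := by
      rw [orderOf_pow' _ (by omega), hg, Nat.gcd_eq_right ⟨4, by ring⟩, Nat.div_eq_of_eq_mul_left (by omega)]
      ring
    have := h.prime_of_ne (by omega) hnp h4o (by norm_num) (by omega)
    norm_num at this

end PSL

theorem One.sz_cases {F : Type} [Field F] [Fintype F] {m : ℕ} (hm : 1 ≤ m) (hF : Fintype.card F = 2 ^ (2 * m + 1))
    (h : One ↥(Cfsg.Lie.Sz F (2 ^ (m + 1)))) : m = 1 := by
  have Q : Cfsg.Lib.Suz.Par F m := ⟨hm, hF⟩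
  have h' : One ↥(Cfsg.Sz F m) := h.of_injective (Cfsg.Lib.Suz.lieEquiv Q).toMonoidHom (Cfsg.Lib.Suz.lieEquiv Q).injective
  haveI : Fact (Nat.Prime 2) := ⟨Nat.prime_two⟩
  obtain ⟨g, hg⟩ : ∃ g : ↥(Cfsg.Sz F m), orderOf g = 4 := by
    refine ⟨Cfsg.Lib.Suz.uu Q 1 0, orderOf_eq_prime_pow (p := 2) (n := 1) ?_ (Cfsg.Lib.Suz.uu_four Q 1 0)⟩
    rw [pow_one, Cfsg.Lib.Suz.uu_sq, one_pow, ← Cfsg.Lib.Suz.uu_zero Q]
    exact fun e => one_ne_zero (Cfsg.Lib.Suz.uu_inj Q e).2
  by_contra hm1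
  have hm2 : 2 ≤ m := by omega
  set q := 2 ^ (2 * m + 1) with hq
  set r := 2 ^ (m + 1) with hr
  have hrr : r * r = 2 * q := by rw [hr, hq, ← pow_add, ← pow_succ']; congr 1; omega
  have hr8 : 8 ≤ r := le_trans (by norm_num) (Nat.pow_le_pow_right (by norm_num) (show 3 ≤ m + 1 by omega))
  have hqr : 2 * r ≤ q := by nlinarith
  have h5 : 5 ∣ q + r + 1 ∨ 5 ∣ q - r + 1 := by
    refine (Nat.Prime.dvd_mul Nat.prime_five).1 ?_
    have e : (q + r + 1) * (q - r + 1) = q * q + 1 := by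
      obtain ⟨s, hs⟩ := Nat.exists_eq_add_of_le (show r ≤ q by omega)
      rw [hs, Nat.add_sub_cancel_left]
      rw [hs] at hrr
      nlinarith
    rw [e]
    have e4 : q * q % 5 = 4 := by
      rw [hq, ← pow_add, show 2 * m + 1 + (2 * m + 1) = 4 * m + 2 by ring, pow_add, pow_mul, Nat.mul_mod,
        Nat.pow_mod]
      norm_num
    omega
  have key : ∀ N, N ∈ ({q + r + 1, q - r + 1} : Set ℕ) → 5 ∣ N → N = 5 := by
    intro N hN hd
    obtain ⟨U, hU, hcard, -⟩ := Cfsg.Lib.Suz.tori Q N hN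
    obtain ⟨u, hu⟩ := hU.exists_generator
    have ho : orderOf (u : ↥(Cfsg.Sz F m)) = N := by
      rw [orderOf_coe, orderOf_eq_card_of_forall_mem_zpowers hu, hcard]
    have hNb : 1 < N ∧ N ≠ 4 := by rcases hN with rfl | rfl <;> omega
    have := h'.prime_of_ne (g := g) (by omega) (by rw [hg]; norm_num) ho hNb.1 (by rw [hg]; exact hNb.2)
    exact ((Nat.prime_dvd_prime_iff_eq Nat.prime_five this).1 hd).symm
  rcases h5 with h5 | h5
  · have := key _ (Or.inl rfl) h5
    omega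
  · have := key _ (Or.inr rfl) h5
    omega

end Cfsg.Lib.OneComposite
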