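import Cfsg.Agent.CosetCore.Basic
import Cfsg.Agent.Chars.Burnside
import Cfsg.Agent.Coprime.SolvableBasics
import Cfsg.Agent.Components.Cores

/-!
Groups in which every element order is one, a prime or twice a fixed odd prime: centralisers of elements of
prime order, and invariant subgroups of soluble local subgroups with an abelian Sylow 2-subgroup.
-/

set_option autoImplicit false
set_option linter.unusedSectionVars false

namespace Cfsg.Lib.OneComposite

open Subgroup Cfsg.Lib.CosetCore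

/-- Every element is trivial, of prime order, or of order `2 * p`. -/
def Orders (G : Type*) [Group G] (p : ℕ) : Prop :=
  ∀ g : G, g = 1 ∨ (orderOf g).Prime ∨ orderOf g = 2 * p

variable {G : Type*} [Group G] {p : ℕ}

theorem Orders.pow_prime (h : Orders G p) (hp : p.Prime) (hp2 : p ≠ 2) {g : G} {s k : ℕ} (hs : s.Prime)
    (hg : orderOf g ∣ s ^ k) : g ^ s = 1 := by
  obtain ⟨j, -, hj⟩ := (Nat.dvd_prime_pow hs).1 hg
  rcases h g with rfl | h1 | h1
  · exact one_pow s
  · have h2 := (Nat.prime_dvd_prime_iff_eq h1 hs).1 (h1.dvd_of_dvd_pow (dvd_of_eq hj))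
    rw [← h2, pow_orderOf_eq_one]
  · have hd : 2 * p ∣ s ^ j := (h1.symm.trans hj) ▸ dvd_rfl
    have e2 := (Nat.prime_dvd_prime_iff_eq Nat.prime_two hs).1 (Nat.prime_two.dvd_of_dvd_pow ((dvd_mul_right 2 p).trans hd))
    have ep := (Nat.prime_dvd_prime_iff_eq hp hs).1 (hp.dvd_of_dvd_pow ((dvd_mul_left p 2).trans hd))
    exact absurd (ep.trans e2.symm) hp2

theorem Orders.pow_of_pgroup (h : Orders G p) (hp : p.Prime) (hp2 : p ≠ 2) {s : ℕ} (hs : s.Prime) {P : Subgroup G}
    (hP : IsPGroup s ↥P) {g : G} (hg : g ∈ P) : g ^ s = 1 := by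
  haveI : Fact s.Prime := ⟨hs⟩
  obtain ⟨k, hk⟩ := hP ⟨g, hg⟩
  exact h.pow_prime hp hp2 hs (orderOf_dvd_of_pow_eq_one (congrArg Subtype.val hk : g ^ s ^ k = 1))

/-- Elements of distinct prime orders which commute: the primes are `2` and `p`. -/
theorem Orders.commute_cases (h : Orders G p) {z g : G} {a q : ℕ} (ha : a.Prime) (hq : q.Prime)
    (hz : orderOf z = a) (hg : orderOf g = q) (hne : a ≠ q) (hc : Commute z g) :
    (a = 2 ∧ q = p) ∨ (a = p ∧ q = 2) := by
  have ho : orderOf (z * g) = a * q := by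
    rw [← hz, ← hg]
    exact hc.orderOf_mul_eq_mul_orderOf_of_coprime (hz.symm ▸ hg.symm ▸ (Nat.coprime_primes ha hq).2 hne)
  rcases h (z * g) with h1 | h1 | h1
  · rw [h1, orderOf_one] at ho
    exact absurd ho.symm (Nat.one_lt_mul_iff.2 ⟨ha.pos, hq.pos, Or.inl ha.one_lt⟩).ne'
  · rw [ho] at h1
    exact absurd h1 (Nat.not_prime_mul ha.ne_one hq.ne_one)
  · rw [ho] at h1
    rcases (Nat.Prime.dvd_mul Nat.prime_two).1 (h1.symm ▸ dvd_mul_right 2 p) with h2 | h2
    · have e := (Nat.prime_dvd_prime_iff_eq Nat.prime_two ha).1 h2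
      exact Or.inl ⟨e.symm, Nat.eq_of_mul_eq_mul_left (by norm_num : 0 < 2) (e.symm ▸ h1)⟩
    · have e := (Nat.prime_dvd_prime_iff_eq Nat.prime_two hq).1 h2
      exact Or.inr ⟨Nat.eq_of_mul_eq_mul_right (by norm_num : 0 < 2) (by rw [e] at h1 ⊢; rw [h1, ← e, mul_comm]), e.symm⟩

variable [Finite G]

/-- A subgroup centralising an element of order `2` or `p` involves no other primes. -/
theorem Orders.primes_of_central (h : Orders G p) {z : G} (hz : orderOf z = 2 ∨ orderOf z = p) (hp : p.Prime)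
    {H : Subgroup G} (hH : ∀ x ∈ H, Commute z x) {q : ℕ} (hq : q.Prime) (hd : q ∣ Nat.card ↥H) :
    q = 2 ∨ q = p := by
  haveI : Fact q.Prime := ⟨hq⟩
  obtain ⟨⟨g, hgH⟩, hg⟩ := exists_prime_orderOf_dvd_card' q hd
  rw [orderOf_mk] at hg
  rcases hz with hz | hz
  · by_cases hne : 2 = q
    · exact Or.inl hne.symm
    · rcases h.commute_cases Nat.prime_two hq hz hg hne (hH g hgH) with ⟨-, e⟩ | ⟨-, e⟩
      · exact Or.inr e
      · exact Or.inl e
  · by_cases hne : p = q
    · exact Or.inr hne.symm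
    · rcases h.commute_cases hp hq hz hg hne (hH g hgH) with ⟨-, e⟩ | ⟨-, e⟩
      · exact Or.inr e
      · exact Or.inl e

theorem eq_prime_pow_mul {n : ℕ} (hn : n ≠ 0) {a b : ℕ}
    (hne : a ≠ b) (ha : a.Prime) (hb : b.Prime) (h : ∀ q, q.Prime → q ∣ n → q = a ∨ q = b) :
    ∃ i j, n = a ^ i * b ^ j := by
  refine ⟨n.factorization a, n.factorization b, Nat.eq_of_factorization_eq hn
    (Nat.mul_ne_zero (pow_ne_zero _ ha.ne_zero) (pow_ne_zero _ hb.ne_zero)) fun q => ?_⟩
  rw [Nat.factorization_mul (pow_ne_zero _ ha.ne_zero) (pow_ne_zero _ hb.ne_zero), Finsupp.add_apply,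
    ha.factorization_pow, hb.factorization_pow, Finsupp.single_apply, Finsupp.single_apply]
  by_cases hqa : q = a
  · subst hqa
    rw [if_pos rfl, if_neg (Ne.symm hne), add_zero]
  by_cases hqb : q = b
  · subst hqb
    rw [if_neg (Ne.symm hqa), if_pos rfl, zero_add]
  rw [if_neg (Ne.symm hqa), if_neg (Ne.symm hqb), add_zero]
  by_cases hq : q.Prime
  · exact Nat.factorization_eq_zero_of_not_dvd fun hd => (h q hq hd).elim hqa hqb
  · exact Nat.factorization_eq_zero_of_not_prime _ hq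

/-- A subgroup centralising an element of order `2` or `p` is soluble. -/
theorem Orders.solvable_of_central (h : Orders G p) {z : G} (hz : orderOf z = 2 ∨ orderOf z = p) (hp : p.Prime)
    (hp2 : p ≠ 2) {H : Subgroup G} (hH : ∀ x ∈ H, Commute z x) : Group.IsSolvable ↥H := by
  obtain ⟨i, j, hij⟩ := eq_prime_pow_mul (Nat.card_pos (α := ↥H)).ne' (Ne.symm hp2) Nat.prime_two hp
    fun q hq hd => h.primes_of_central hz hp hH hq hd
  exact Cfsg.Lib.Chars.burnside_isSolvable 2 p Nat.prime_two hp ↥H ⟨i, j, hij⟩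

/-- In a soluble group with an abelian Sylow 2-subgroup every subgroup of odd prime power order normalised
by it lies in the largest normal subgroup of odd order. -/
theorem le_core_of_invariant {H : Type*} [Group H] [Finite H] [Group.IsSolvable H] (P : Sylow 2 H)
    (hP : IsMulCommutative (P : Subgroup H)) {s : ℕ} [Fact s.Prime] (hs : s ≠ 2) {U : Subgroup H}
    (hU : IsPGroup s ↥U) (hPU : (P : Subgroup H) ≤ normalizer (U : Set H)) :
    U ≤ Cfsg.pPrimeCore 2 H := by
  haveI : Fact (Nat.Prime 2) := ⟨Nat.prime_two⟩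
  set f := QuotientGroup.mk' (Cfsg.pPrimeCore 2 H) with hf
  set Q := P.mapSurjective (QuotientGroup.mk'_surjective (Cfsg.pPrimeCore 2 H)) with hQ
  have hd : Disjoint (U.map f) (Cfsg.pCore 2 (H ⧸ Cfsg.pPrimeCore 2 H)) :=
    IsPGroup.disjoint_of_ne s 2 hs _ _ (hU.map f) (Cfsg.Lib.Components.isPGroup_pCore (G := H ⧸ Cfsg.pPrimeCore 2 H) 2)
  have hle : U.map f ≤ Cfsg.pCore 2 (H ⧸ Cfsg.pPrimeCore 2 H) := by
    refine le_trans ?_ (Cfsg.Lib.Coprime.centralizer_pCore_le 2 Cfsg.Lib.Coprime.pPrimeCore_quotient_eq_bot)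
    rintro _ ⟨u, hu, rfl⟩
    refine mem_centralizer_iff.2 fun y hy => ?_
    obtain ⟨b, hb, rfl⟩ := Cfsg.Lib.Coprime.pCore_le_sylow 2 Q hy
    show f b * f u = f u * f b
    suffices h0 : f b * f u * (f b)⁻¹ * (f u)⁻¹ = 1 by
      have := congrArg (fun e => e * f u * f b) h0
      simpa [mul_assoc] using this
    have h1 : f b * f u * (f b)⁻¹ * (f u)⁻¹ ∈ U.map f := by
      refine (U.map f).mul_mem ?_ ((U.map f).inv_mem (mem_map_of_mem f hu))
      rw [← map_inv, ← map_mul, ← map_mul]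
      exact mem_map_of_mem f ((mem_normalizer_iff.1 (hPU hb) u).1 hu)
    have h2 : f b * f u * (f b)⁻¹ * (f u)⁻¹ ∈ Cfsg.pCore 2 (H ⧸ Cfsg.pPrimeCore 2 H) := by
      rw [mul_assoc (f b), mul_assoc]
      refine mul_mem hy ?_
      have hn : (Cfsg.pCore 2 (H ⧸ Cfsg.pPrimeCore 2 H)).Normal := inferInstance
      exact hn.conj_mem _ (inv_mem hy) (f u)
    exact mem_bot.1 (hd.le_bot ⟨h1, h2⟩)
  intro u hu
  rw [← QuotientGroup.ker_mk' (Cfsg.pPrimeCore 2 H), MonoidHom.mem_ker]
  exact mem_bot.1 (hd.le_bot ⟨mem_map_of_mem f hu, hle (mem_map_of_mem f hu)⟩)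

/-- The same inside a soluble subgroup. -/
theorem le_coreIn_of_invariant (S : Sylow 2 G) (hS : IsMulCommutative (S : Subgroup G)) {s : ℕ} [Fact s.Prime]
    (hs : s ≠ 2) {H U : Subgroup G} (hsol : Group.IsSolvable ↥H) (hSH : (S : Subgroup G) ≤ H)
    (hUH : U ≤ H) (hU : IsPGroup s ↥U) (hSU : (S : Subgroup G) ≤ normalizer (U : Set G)) :
    U ≤ coreIn H := by
  haveI := hsol
  have h1 : U.subgroupOf H ≤ Cfsg.pPrimeCore 2 ↥H := by
    refine le_core_of_invariant (S.subtype hSH) ⟨⟨fun a b => Subtype.ext (Subtype.ext ?_)⟩⟩ hs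
      (hU.comap_of_injective H.subtype H.subtype_injective) ?_
    · exact (congrArg Subtype.val (hS.is_comm.comm ⟨_, mem_subgroupOf.1 a.2⟩ ⟨_, mem_subgroupOf.1 b.2⟩) :
        ((a : ↥H) : G) * b = (b : ↥H) * (a : ↥H))
    · intro x hx
      rw [mem_normalizer_iff]
      intro y
      exact (mem_normalizer_iff.1 (hSU (mem_subgroupOf.1 hx)) (y : G))
  have h2 := Subgroup.map_mono (f := H.subtype) h1
  rwa [map_subgroupOf_eq_of_le hUH] at h2

/-- A soluble subgroup containing an abelian Sylow 2-subgroup is inside any subgroup containing its core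
and the elements normalising the Sylow subgroup. -/
theorem le_of_core_normalizer (S : Sylow 2 G) (hS : IsMulCommutative (S : Subgroup G))
    {H M : Subgroup G} (hsol : Group.IsSolvable ↥H) (hSH : (S : Subgroup G) ≤ H)
    (hOM : coreIn H ≤ M) (hNM : H ⊓ normalizer ((S : Subgroup G) : Set G) ≤ M) : H ≤ M := by
  haveI : Fact (Nat.Prime 2) := ⟨Nat.prime_two⟩
  haveI := hsol
  set P := S.subtype hSH with hP
  have hab : IsMulCommutative (P : Subgroup ↥H) := ⟨⟨fun a b => Subtype.ext (Subtype.ext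
    (congrArg Subtype.val (hS.is_comm.comm ⟨_, mem_subgroupOf.1 a.2⟩ ⟨_, mem_subgroupOf.1 b.2⟩) :
      ((a : ↥H) : G) * b = (b : ↥H) * (a : ↥H)))⟩⟩
  set N := (P : Subgroup ↥H) ⊔ Cfsg.pPrimeCore 2 ↥H with hN
  haveI : N.Normal := Cfsg.Lib.Coprime.abelian_sylow_sup_core_normal P hab
  have hFr : normalizer ((P : Subgroup ↥H) : Set ↥H) ⊔ N = ⊤ := Sylow.normalizer_sup_eq_top' P le_sup_left
  have hle : (⊤ : Subgroup ↥H) ≤ M.subgroupOf H := by
    rw [← hFr, hN]
    have hn : normalizer ((P : Subgroup ↥H) : Set ↥H) ≤ M.subgroupOf H := by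
      intro x hx
      refine mem_subgroupOf.2 (hNM ⟨x.2, mem_normalizer_iff.2 fun y => ?_⟩)
      have hx' := mem_normalizer_iff.1 hx
      refine ⟨fun hy => mem_subgroupOf.1 ((hx' ⟨y, hSH hy⟩).1 (mem_subgroupOf.2 hy)), fun hy => ?_⟩
      have hyH : y ∈ H := by
        have := H.mul_mem (H.mul_mem (H.inv_mem x.2) (hSH hy)) x.2
        simpa [mul_assoc] using this
      exact mem_subgroupOf.1 ((hx' ⟨y, hyH⟩).2 (mem_subgroupOf.2 hy))
    exact sup_le hn (sup_le (le_normalizer.trans hn) fun x hx => mem_subgroupOf.2 (hOM (mem_map_of_mem H.subtype hx)))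
  exact subgroupOf_eq_top.1 (top_le_iff.1 hle)

end Cfsg.Lib.OneComposite
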