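import Cfsg.Agent.OneComposite.Structure
import Cfsg.Agent.CITGroups.CNFrame

/-!
Index `r ≠ p` of `C(S)` in its normaliser: a CN-group, which does not exist.
-/

set_option autoImplicit false
set_option linter.unusedSectionVars false
set_option linter.style.haveILetI false

namespace Cfsg.Lib.OneComposite

open Subgroup Cfsg.Lib.CosetCore

variable {G : Type*} [Group G] [Finite G] {p r m : ℕ} {S : Sylow 2 G} {x : G}

theorem Closed.cent_invol_eq (hd : Closed S p r m x)
    (hN : Nat.card ↥(normalizer ((S : Subgroup G) : Set G)) =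
      Nat.card ↥(centralizer ((S : Subgroup G) : Set G)) * r) {v : G} (hv : v ∈ (S : Subgroup G)) (hv1 : v ≠ 1) :
    centralizer ({v} : Set G) = centralizer ((S : Subgroup G) : Set G) := by
  refine le_antisymm (fun g hg => ?_) fun g hg =>
    mem_centralizer_singleton_iff.2 (mem_centralizer_iff.1 hg v hv).symm
  obtain ⟨c, hc, k, hk, rfl⟩ := hd.decomp hN (hd.cent_le hv hv1 hg)
  have h1 : c * v = v * c := (mem_centralizer_iff.1 hc v hv).symm
  have h2 : c * (x ^ k * v) = c * (v * x ^ k) := by
    rw [← mul_assoc, mem_centralizer_singleton_iff.1 hg, ← mul_assoc, ← h1, mul_assoc]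
  have h3 : Commute (x ^ k) v := mul_left_cancel h2
  by_cases hk0 : k = 0
  · subst hk0; simpa using hc
  obtain ⟨j, hj⟩ := exists_pow_eq_self_of_coprime (n := k) (x := x) (by
    rw [hd.xord, Nat.coprime_comm, hd.rprime.coprime_iff_not_dvd]
    exact fun h' => absurd (Nat.le_of_dvd (Nat.pos_of_ne_zero hk0) h') (not_le.2 hk))
  exact absurd (hd.xfree v hv (hj ▸ h3.pow_left j).symm) hv1

theorem Closed.nilpotent_centS (hd : Closed S p r m x) :
    Group.IsNilpotent ↥(centralizer ((S : Subgroup G) : Set G)) := by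
  haveI : Fact (Nat.Prime 2) := ⟨Nat.prime_two⟩
  haveI : Fact p.Prime := ⟨hd.setting.hp⟩
  haveI : Group.IsNilpotent ↥(S : Subgroup G) := S.isPGroup'.isNilpotent
  haveI : Group.IsNilpotent ↥(fixedPart S) := hd.setting.inv_fixedPart.1.isNilpotent
  let f : ↥(S : Subgroup G) × ↥(fixedPart S) →* ↥(centralizer ((S : Subgroup G) : Set G)) :=
    { toFun := fun a => ⟨(a.1 : G) * a.2, mul_mem (hd.setting.self_cent a.1.2) (coreIn_le _ a.2.2)⟩
      map_one' := Subtype.ext (by simp)
      map_mul' := fun a b => Subtype.ext (by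
        show (a.1 : G) * b.1 * ((a.2 : G) * b.2) = (a.1 : G) * a.2 * ((b.1 : G) * b.2)
        calc (a.1 : G) * b.1 * ((a.2 : G) * b.2) = a.1 * ((b.1 : G) * a.2) * b.2 := by group
          _ = a.1 * ((a.2 : G) * b.1) * b.2 := by rw [hd.fixedPart_comm b.1.2 a.2.2]
          _ = _ := by group) }
  refine nilpotent_of_surjective f fun g => ?_
  obtain ⟨a, ha, w, hw, e⟩ := hd.mem_centS g.2
  exact ⟨(⟨a, ha⟩, ⟨w, hw⟩), Subtype.ext e⟩

theorem nilpotent_of_le {A B : Subgroup G} (h : A ≤ B) [Group.IsNilpotent ↥B] : Group.IsNilpotent ↥A :=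
  nilpotent_of_mulEquiv (subgroupOfEquivOfLe h)

/-- **The CN case.** -/
theorem Closed.false_of_cn [IsSimpleGroup G] (hd : Closed S p r m x) (hna : ¬ IsMulCommutative G) (hrp : r ≠ p)
    (hN : Nat.card ↥(normalizer ((S : Subgroup G) : Set G)) =
      Nat.card ↥(centralizer ((S : Subgroup G) : Set G)) * r) (hW : fixedPart S ≠ ⊥) : False := by
  haveI : Fact (Nat.Prime 2) := ⟨Nat.prime_two⟩
  haveI : Fact p.Prime := ⟨hd.setting.hp⟩
  haveI := hd.nilpotent_centS
  set N := normalizer ((S : Subgroup G) : Set G) with hNdef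
  set W := fixedPart S with hWdef
  -- centralisers of elements of `O(C(S))`
  have hxW : ∀ w ∈ W, w ≠ 1 → ¬ Commute x w := fun w hw hw1 hc => by
    have hwp : orderOf w = p := orderOf_eq_prime
      (hd.setting.orders.pow_of_pgroup hd.setting.hp hd.setting.hp2 hd.setting.hp hd.setting.inv_fixedPart.1 hw) hw1
    rcases hd.setting.orders.commute_cases hd.rprime hd.setting.hp hd.xord hwp hrp hc with ⟨e, -⟩ | ⟨e, -⟩
    · exact hd.r_ne_two e
    · exact hrp e
  have hCw : ∀ w ∈ W, w ≠ 1 → centralizer ({w} : Set G) ≤ centralizer ((S : Subgroup G) : Set G) := by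
    intro w hw hw1 g hg
    have hgc : Commute g w := mem_centralizer_singleton_iff.1 hg
    have hgN := hd.cent_fixed_le hw hw1 hg
    obtain ⟨c, hc, k, hk, hg'⟩ := hd.decomp hN hgN
    by_cases hk0 : k = 0
    · subst hk0; rw [← hg']; simpa using hc
    -- `g` has an image of order `r`
    have hg1 : g ∉ centralizer ((S : Subgroup G) : Set G) := fun hgS => by
      have hxk : x ^ k ∈ centralizer ((S : Subgroup G) : Set G) := by
        have := mul_mem (inv_mem hc) hgS
        rwa [← hg', inv_mul_cancel_left] at this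
      obtain ⟨j, hj⟩ := exists_pow_eq_self_of_coprime (n := k) (x := x) (by
        rw [hd.xord, Nat.coprime_comm, hd.rprime.coprime_iff_not_dvd]
        exact fun h' => absurd (Nat.le_of_dvd (Nat.pos_of_ne_zero hk0) h') (not_le.2 hk))
      exact hd.x_notC (hj ▸ pow_mem hxk j)
    exfalso
    have hwp : orderOf w = p := orderOf_eq_prime
      (hd.setting.orders.pow_of_pgroup hd.setting.hp hd.setting.hp2 hd.setting.hp hd.setting.inv_fixedPart.1 hw) hw1
    have hgr : g ^ r ∈ centralizer ((S : Subgroup G) : Set G) := by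
      have hCN : (centralizer ((S : Subgroup G) : Set G)).subgroupOf N = (S : Subgroup G).normalizerMonoidHom.ker :=
        (Subgroup.normalizerMonoidHom_ker _).symm
      haveI : ((centralizer ((S : Subgroup G) : Set G)).subgroupOf N).Normal := hCN ▸ MonoidHom.normal_ker _
      have hidx : ((centralizer ((S : Subgroup G) : Set G)).subgroupOf N).index = r := by
        have h1 := Subgroup.index_mul_card ((centralizer ((S : Subgroup G) : Set G)).subgroupOf N)
        rw [Nat.card_congr (subgroupOfEquivOfLe (centralizer_le_normalizer _)).toEquiv, hN, mul_comm] at h1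
        exact Nat.eq_of_mul_eq_mul_left Nat.card_pos h1
      have := Subgroup.pow_index_mem ((centralizer ((S : Subgroup G) : Set G)).subgroupOf N) ⟨g, hgN⟩
      rw [hidx] at this
      exact mem_subgroupOf.1 this
    -- an element of order `r` commuting with `w`
    rcases hd.setting.orders g with e | e | e
    · exact hg1 (e ▸ one_mem _)
    · by_cases her : orderOf g = r
      · rcases hd.setting.orders.commute_cases hd.rprime hd.setting.hp her hwp hrp hgc with ⟨e2, -⟩ | ⟨e2, -⟩
        · exact hd.r_ne_two e2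
        · exact hrp e2
      · obtain ⟨j, hj⟩ := exists_pow_eq_self_of_coprime (n := r) (x := g)
          ((Nat.coprime_primes hd.rprime e).2 (Ne.symm her))
        exact hg1 (hj ▸ pow_mem hgr j)
    · have hco : r.Coprime (orderOf g) := by
        rw [e]
        exact Nat.Coprime.mul_right ((Nat.coprime_primes hd.rprime Nat.prime_two).2 hd.r_ne_two)
          ((Nat.coprime_primes hd.rprime hd.setting.hp).2 hrp)
      obtain ⟨j, hj⟩ := exists_pow_eq_self_of_coprime (n := r) (x := g) hco
      exact hg1 (hj ▸ pow_mem hgr j)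
  -- `O(C(S))` is a Sylow subgroup
  have hWp := hd.setting.inv_fixedPart.1
  obtain ⟨w0, hw0, hw01⟩ := W.bot_or_exists_ne_one.resolve_left hW
  obtain ⟨P, hP⟩ := hWp.exists_le_sylow
  have hPW : (P : Subgroup G) = W := by
    refine le_antisymm ?_ hP
    by_contra hle
    haveI : Group.IsNilpotent ↥(P : Subgroup G) := P.isPGroup'.isNilpotent
    have hlt : W.subgroupOf (P : Subgroup G) < ⊤ := lt_top_iff_ne_top.2 fun e => hle (subgroupOf_eq_top.1 e)
    obtain ⟨n, hn, hnW⟩ := SetLike.exists_of_lt ((Group.normalizerCondition_of_isNilpotent (G := ↥(P : Subgroup G))) _ hlt)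
    have hnW0 : (n : G) * w0 * (n : G)⁻¹ ∈ W :=
      mem_subgroupOf.1 ((mem_normalizer_iff.1 hn ⟨w0, hP hw0⟩).1 (mem_subgroupOf.2 hw0))
    have hnN : (n : G) ∈ N := by
      obtain ⟨v, hv, hv1⟩ := hd.exists_v
      refine hd.eq_normalizer hv hv1 (hd.cent_fixed_le hnW0 (fun e => hw01 (conj_eq_one_iff.1 e)) ?_)
      refine mem_centralizer_singleton_iff.2 ?_
      calc (n : G) * v * (n : G)⁻¹ * ((n : G) * w0 * (n : G)⁻¹) = n * (v * w0) * (n : G)⁻¹ := by group
        _ = n * (w0 * v) * (n : G)⁻¹ := by rw [hd.fixedPart_comm hv hw0]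
        _ = _ := by group
    -- `n` is a `p`-element of `N`, outside `W`
    have hnp : (n : G) ^ p = 1 :=
      hd.setting.orders.pow_of_pgroup hd.setting.hp hd.setting.hp2 hd.setting.hp P.isPGroup' n.2
    obtain ⟨c, hc, k, hk, hn'⟩ := hd.decomp hN hnN
    refine hnW (mem_subgroupOf.2 (hd.mem_fixedPart ?_ hnp))
    obtain ⟨j, hj⟩ := exists_pow_eq_self_of_coprime (n := r) (x := (n : G)) (by
      by_cases h1 : (n : G) = 1
      · rw [h1, orderOf_one]; exact Nat.coprime_one_right r
      · rw [orderOf_eq_prime hnp h1]; exact (Nat.coprime_primes hd.rprime hd.setting.hp).2 hrp)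
    have hCN : (centralizer ((S : Subgroup G) : Set G)).subgroupOf N = (S : Subgroup G).normalizerMonoidHom.ker :=
      (Subgroup.normalizerMonoidHom_ker _).symm
    haveI : ((centralizer ((S : Subgroup G) : Set G)).subgroupOf N).Normal := hCN ▸ MonoidHom.normal_ker _
    have hidx : ((centralizer ((S : Subgroup G) : Set G)).subgroupOf N).index = r := by
      have h1 := Subgroup.index_mul_card ((centralizer ((S : Subgroup G) : Set G)).subgroupOf N)
      rw [Nat.card_congr (subgroupOfEquivOfLe (centralizer_le_normalizer _)).toEquiv, hN, mul_comm] at h1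
      exact Nat.eq_of_mul_eq_mul_left Nat.card_pos h1
    have := Subgroup.pow_index_mem ((centralizer ((S : Subgroup G) : Set G)).subgroupOf N) ⟨n, hnN⟩
    rw [hidx] at this
    exact hj ▸ pow_mem (mem_subgroupOf.1 this) j
  -- the centraliser of every element of prime order is nilpotent
  have hprime : ∀ g : G, (orderOf g).Prime → Group.IsNilpotent ↥(centralizer ({g} : Set G)) := by
    intro g hg
    have conj_le : ∀ (c : G) (A : Subgroup G), Group.IsNilpotent ↥A →
        centralizer ({c * g * c⁻¹} : Set G) ≤ A → Group.IsNilpotent ↥(centralizer ({g} : Set G)) := by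
      intro c A hA hle
      haveI := hA
      haveI : Group.IsNilpotent ↥(A.map (MulAut.conj c⁻¹).toMonoidHom) :=
        nilpotent_of_surjective ((A.equivMapOfInjective _ (MulAut.conj c⁻¹).injective).toMonoidHom)
          (A.equivMapOfInjective _ (MulAut.conj c⁻¹).injective).surjective
      refine nilpotent_of_le (B := A.map (MulAut.conj c⁻¹).toMonoidHom) fun y hy =>
        ⟨c * y * c⁻¹, hle (mem_centralizer_singleton_iff.2 ?_), by
          show c⁻¹ * (c * y * c⁻¹) * c⁻¹⁻¹ = y; group⟩
      calc c * y * c⁻¹ * (c * g * c⁻¹) = c * (y * g) * c⁻¹ := by group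
        _ = c * (g * y) * c⁻¹ := by rw [mem_centralizer_singleton_iff.1 hy]
        _ = _ := by group
    by_cases h2 : orderOf g = 2
    · obtain ⟨c, hc⟩ := hd.exists_conj_S h2
      have hne : c * g * c⁻¹ ≠ 1 := fun e => by rw [conj_eq_one_iff] at e; rw [e, orderOf_one] at h2; omega
      exact conj_le c _ hd.nilpotent_centS (hd.cent_invol_eq hN hc hne).le
    by_cases hp' : orderOf g = p
    · obtain ⟨Q, hQ⟩ := (IsPGroup.of_card (n := 1) (show Nat.card ↥(zpowers g) = p ^ 1 by
        rw [Nat.card_zpowers, hp', pow_one])).exists_le_sylow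
      obtain ⟨c, hc⟩ := MulAction.exists_smul_eq G Q P
      have hmem : c * g * c⁻¹ ∈ W := by
        rw [← hPW, ← hc]
        exact ⟨g, hQ (mem_zpowers g), rfl⟩
      exact conj_le c _ hd.nilpotent_centS (hCw _ hmem fun e => by
        rw [conj_eq_one_iff] at e; rw [e, orderOf_one] at hp'; exact hd.setting.hp.ne_one hp'.symm)
    haveI : Fact (orderOf g).Prime := ⟨hg⟩
    refine (IsPGroup.iff_orderOf.2 fun y => ?_).isNilpotent (p := orderOf g)
    rw [← Subgroup.orderOf_coe]
    refine ⟨_, Nat.eq_prime_pow_of_unique_prime_dvd (orderOf_pos (y : G)).ne' fun {q} hq hd' => ?_⟩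
    have hyq : orderOf ((y : G) ^ (orderOf (y : G) / q)) = q := orderOf_pow_orderOf_div (orderOf_pos _).ne' hd'
    have hc : Commute g ((y : G) ^ (orderOf (y : G) / q)) :=
      ((show Commute g (y : G) from (mem_centralizer_singleton_iff.1 y.2).symm)).pow_right _
    by_contra hne
    rcases hd.setting.orders.commute_cases hg hq rfl hyq (Ne.symm hne) hc with ⟨e, -⟩ | ⟨e, -⟩
    · exact h2 e
    · exact hp' e
  have hCN : Cfsg.IsCNGroup G := by
    intro g hg
    obtain ⟨q, hq, hdq⟩ := Nat.exists_prime_and_dvd (show orderOf g ≠ 1 from fun e => hg (orderOf_eq_one_iff.1 e))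
    haveI := hprime (g ^ (orderOf g / q)) (by rw [orderOf_pow_orderOf_div (orderOf_pos g).ne' hdq]; exact hq)
    exact nilpotent_of_le (B := centralizer ({g ^ (orderOf g / q)} : Set G)) fun y hy => mem_centralizer_singleton_iff.2
      ((show Commute y g from mem_centralizer_singleton_iff.1 hy).pow_right _)
  have hcit := Cfsg.Lib.CITGroups.cit_of_cn hna hCN
  obtain ⟨v, hv, hv1⟩ := hd.exists_v
  have hp2 := hcit v (hd.setting.order_two hv hv1)
  obtain ⟨k, hk⟩ := hp2 ⟨w0, mem_centralizer_singleton_iff.2 (hd.fixedPart_comm hv hw0).symm⟩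
  have hwp : orderOf w0 = p := orderOf_eq_prime
    (hd.setting.orders.pow_of_pgroup hd.setting.hp hd.setting.hp2 hd.setting.hp hWp hw0) hw01
  have hdv : p ∣ 2 ^ k := hwp ▸ orderOf_dvd_of_pow_eq_one (congrArg Subtype.val hk)
  exact hd.setting.hp2 ((Nat.prime_dvd_prime_iff_eq hd.setting.hp Nat.prime_two).1 (hd.setting.hp.dvd_of_dvd_pow hdv))

end Cfsg.Lib.OneComposite
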