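import Cfsg.Agent.OneComposite.FrobLocal

/-!
Index `r * p` of `C(S)` in its normaliser: impossible.
-/

set_option autoImplicit false
set_option linter.unusedSectionVars false
set_option linter.style.haveILetI false

namespace Cfsg.Lib.OneComposite

open Subgroup Cfsg.Lib.CosetCore Cfsg.Lib.StrongEmb MulAction

variable {G : Type*} [Group G] [Finite G] {p r : ℕ} {S : Sylow 2 G} {x y v : G}

theorem Frob.y_not_alone [IsSimpleGroup G] (F : Frob S p r x y v) (hna : ¬ IsMulCommutative G) :
    ¬ normalizer ((zpowers y : Subgroup G) : Set G) ≤ normalizer ((S : Subgroup G) : Set G) := by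
  intro hle
  haveI : Fact p.Prime := ⟨F.hp⟩
  set N := normalizer ((S : Subgroup G) : Set G) with hN
  have hYp : IsPGroup p ↥(zpowers y) := IsPGroup.of_card (n := 1) (by rw [Nat.card_zpowers, F.yord, pow_one])
  obtain ⟨P, hP⟩ := hYp.exists_le_sylow
  have hp2 : ¬ p ∣ 2 ^ p * r := by
    intro h
    rcases F.hp.dvd_mul.1 h with h | h
    · exact F.hp2 ((Nat.prime_dvd_prime_iff_eq F.hp Nat.prime_two).1 (F.hp.dvd_of_dvd_pow h))
    · exact F.hrp ((Nat.prime_dvd_prime_iff_eq F.hp F.closed.rprime).1 h).symm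
  have hPY : (P : Subgroup G) = zpowers y := by
    refine le_antisymm ?_ hP
    by_contra hle'
    haveI : Group.IsNilpotent ↥(P : Subgroup G) := P.isPGroup'.isNilpotent
    have hlt : (zpowers y).subgroupOf (P : Subgroup G) < ⊤ := lt_top_iff_ne_top.2 fun e => hle' (subgroupOf_eq_top.1 e)
    obtain ⟨z, hz, hzY⟩ := SetLike.exists_of_lt
      ((Group.normalizerCondition_of_isNilpotent (G := ↥(P : Subgroup G))) _ hlt)
    have hzn : (z : G) ∈ normalizer ((zpowers y : Subgroup G) : Set G) := by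
      rw [mem_normalizer_iff_map, MonoidHom.map_zpowers]
      refine eq_of_le_of_card_ge (zpowers_le.2 ?_) (by
        show _ ≤ Nat.card ↥(zpowers ((z : G) * y * (z : G)⁻¹))
        rw [Nat.card_zpowers, Nat.card_zpowers, conj_order])
      exact mem_subgroupOf.1 ((mem_normalizer_iff.1 hz ⟨y, hP (mem_zpowers y)⟩).1 (mem_subgroupOf.2 (mem_zpowers y)))
    have hzN : (z : G) ∈ N := hle hzn
    set T : Subgroup G := (P : Subgroup G) ⊓ N with hT
    obtain ⟨j, hj⟩ := IsPGroup.iff_card.1 (P.isPGroup'.to_le (inf_le_left : T ≤ (P : Subgroup G)))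
    have hd : p ^ j ∣ 2 ^ p * (r * p) := hj ▸ F.cardN ▸ card_dvd_of_le (inf_le_right : T ≤ N)
    have hTY : zpowers y = T := eq_of_le_of_card_ge (le_inf hP (zpowers_le.2 F.yN)) (by
      rw [hj, Nat.card_zpowers, F.yord]
      rcases j with _ | _ | j
      · simpa using F.hp.one_le
      · simp
      · exact absurd (Nat.dvd_of_mul_dvd_mul_right F.hp.pos
          ((show p * p ∣ p ^ (j + 2) from ⟨p ^ j, by ring⟩).trans (hd.trans (dvd_of_eq (mul_assoc _ _ _).symm)))) hp2)
    exact hzY (mem_subgroupOf.2 (hTY ▸ mem_inf.2 ⟨z.2, hzN⟩))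
  have hP' : normalizer ((P : Subgroup G) : Set G) ≤ centralizer ((P : Subgroup G) : Set G) := by
    intro z hz
    rw [hPY] at hz ⊢
    obtain ⟨hc, -⟩ := F.normalizes_y (hle hz) ((mem_normalizer_iff.1 hz y).1 (mem_zpowers y))
    refine mem_centralizer_iff.2 fun a ha => ?_
    obtain ⟨k, rfl⟩ := mem_zpowers_iff.1 ha
    exact (hc.zpow_right k).eq.symm
  rcases (MonoidHom.normal_ker (MonoidHom.transferSylow P hP')).eq_bot_or_eq_top with e | e
  · refine hna ⟨⟨fun a b => (MonoidHom.ker_eq_bot_iff _).1 e ?_⟩⟩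
    rw [map_mul, map_mul]
    exact Subtype.ext (mem_centralizer_iff.1 (hP' (le_normalizer (Subtype.prop _))) _ (Subtype.prop _))
  · have h1 := MonoidHom.not_dvd_card_ker_transferSylow P hP'
    rw [e, card_top] at h1
    exact h1 (F.yord ▸ orderOf_dvd_natCard y)

variable (F : Frob S p r x y v)
include F

theorem Frob.fixed_y {u : G} (hu : orderOf u = 2) (hall : ∀ g ∈ F.both, ∃ j : ℕ, g = y ^ j ∨ g = u * y ^ j)
    {c : G} (hc : c⁻¹ * y * c ∈ normalizer ((S : Subgroup G) : Set G)) :
    c ∈ normalizer ((S : Subgroup G) : Set G) ∨ u⁻¹ * c ∈ normalizer ((S : Subgroup G) : Set G) ∨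
      (v * u)⁻¹ * c ∈ normalizer ((S : Subgroup G) : Set G) := by
  set N := normalizer ((S : Subgroup G) : Set G) with hN
  by_cases hcN : c ∈ N
  · exact Or.inl hcN
  have key : ∀ {c : G}, c ∉ N → c⁻¹ * y * c ∈ N → c⁻¹ * x * c ∈ N → u⁻¹ * c ∈ N := by
    intro c hcN hcy hcx
    obtain ⟨g, hgX, hgc⟩ := F.fixedX hcx
    have hgy : g⁻¹ * y * g ∈ N := by
      rw [show g⁻¹ * y * g = (g⁻¹ * c) * (c⁻¹ * y * c) * (g⁻¹ * c)⁻¹ by group]
      exact mul_mem (mul_mem hgc hcy) (inv_mem hgc)
    obtain ⟨h, hh, hb⟩ := F.to_both hgX hgy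
    obtain ⟨j, hj | hj⟩ := hall _ hb
    · refine absurd ?_ hcN
      have hg : g = y ^ j * h := by rw [← hj, inv_mul_cancel_right]
      have hgN : g ∈ N := hg ▸ mul_mem (pow_mem F.yN j) (show h ∈ N from hh.1)
      rw [show c = g * (g⁻¹ * c) by group]
      exact mul_mem hgN hgc
    · have hg : g = u * y ^ j * h := by rw [← hj, inv_mul_cancel_right]
      have : u⁻¹ * c = y ^ j * h * (g⁻¹ * c) := by rw [hg]; group
      rw [this]
      exact mul_mem (mul_mem (pow_mem F.yN j) (show h ∈ N from hh.1)) hgc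
  rcases F.fixed_cases hcN hc with h | h
  · exact Or.inr (Or.inl (key hcN hc h))
  · refine Or.inr (Or.inr ?_)
    have h1 := key (c := v * c) (fun h' => hcN ?_) ?_ h
    · rw [mul_inv_rev, mul_assoc, F.closed.setting.inv_eq F.vS]
      exact h1
    · have := mul_mem (inv_mem (le_normalizer F.vS)) h'
      rwa [inv_mul_cancel_left] at this
    · rw [show (v * c)⁻¹ * y * (v * c) = c⁻¹ * (v⁻¹ * (y * v)) * c by group, ← F.comm.eq, inv_mul_cancel_left]
      exact hc

theorem Frob.three {u : G} (hu : orderOf u = 2) (huN : u ∉ normalizer ((S : Subgroup G) : Set G)) (huy : Commute u y)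
    (hall : ∀ g ∈ F.both, ∃ j : ℕ, g = y ^ j ∨ g = u * y ^ j) :
    p = 3 ∧ Nat.card ↥(centralizer ({y} : Set G)) = 18 := by
  classical
  haveI : Fact (Nat.Prime 2) := ⟨Nat.prime_two⟩
  haveI : Fact p.Prime := ⟨F.hp⟩
  set N := normalizer ((S : Subgroup G) : Set G) with hN
  set C := centralizer ({y} : Set G) with hC
  have hyC : y ∈ C := mem_centralizer_singleton_iff.2 rfl
  have hvC : v ∈ C := mem_centralizer_singleton_iff.2 F.comm
  have huC : u ∈ C := mem_centralizer_singleton_iff.2 huy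
  -- the part inside the normaliser
  have hinf : C ⊓ N = zpowers v ⊔ zpowers y := by
    refine le_antisymm ?_ (sup_le (zpowers_le.2 ⟨hvC, le_normalizer F.vS⟩) (zpowers_le.2 ⟨hyC, F.yN⟩))
    intro g hg
    have hgy : g * y * g⁻¹ ∈ zpowers y := by
      rw [show g * y * g⁻¹ = y from mul_inv_eq_iff_eq_mul.2 (mem_centralizer_singleton_iff.1 hg.1)]
      exact mem_zpowers y
    obtain ⟨-, s, hs, j, rfl, hsy⟩ := F.normalizes_y hg.2 hgy
    refine mul_mem (mem_sup_left ?_) (mem_sup_right (pow_mem (mem_zpowers y) j))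
    rcases F.cases_S hs hsy with rfl | rfl
    · exact one_mem _
    · exact mem_zpowers _
  have hcinf : Nat.card ↥(C ⊓ N) = 2 * p := by
    have hc : ∀ a ∈ zpowers v, ∀ b ∈ zpowers y, a * b = b * a := by
      intro a ha b hb
      obtain ⟨i, rfl⟩ := mem_zpowers_iff.1 ha
      obtain ⟨j, rfl⟩ := mem_zpowers_iff.1 hb
      exact ((F.comm.zpow_left i).zpow_right j).eq
    have hd : zpowers v ⊓ zpowers y = ⊥ := by
      refine eq_bot_iff.2 fun a ha => mem_bot.2 (orderOf_eq_one_iff.1 ?_)
      have h1 := Subgroup.orderOf_dvd_natCard _ ha.1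
      have h2 := Subgroup.orderOf_dvd_natCard _ ha.2
      rw [Nat.card_zpowers, F.closed.setting.order_two F.vS F.v1] at h1
      rw [Nat.card_zpowers, F.yord] at h2
      exact Nat.eq_one_of_dvd_coprimes ((Nat.coprime_primes Nat.prime_two F.hp).2 (Ne.symm F.hp2)) h1 h2
    rw [hinf, card_sup_of_commute hc hd, Nat.card_zpowers, Nat.card_zpowers,
      F.closed.setting.order_two F.vS F.v1, F.yord]
  set K := N.subgroupOf C with hK
  have hKc : Nat.card ↥K = 2 * p := by
    rw [← hcinf, ← subgroupOf_map_subtype N C |>.trans (inf_comm _ _), card_map_of_injective C.subtype_injective]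
  -- at most three points
  have hle : K.index ≤ 3 := by
    let f : ↥C ⧸ K → G ⧸ N := Quotient.map' (fun c => (c : G)) fun a b hab => by
      rw [QuotientGroup.leftRel_apply] at hab ⊢
      exact mem_subgroupOf.1 hab
    have hinj : Function.Injective f := by
      rintro ⟨a⟩ ⟨b⟩ e
      refine QuotientGroup.eq.2 (mem_subgroupOf.2 ?_)
      exact QuotientGroup.eq.1 (show (QuotientGroup.mk (a : G) : G ⧸ N) = QuotientGroup.mk (b : G) from e)
    let T : Finset (G ⧸ N) := {QuotientGroup.mk 1, QuotientGroup.mk u, QuotientGroup.mk (v * u)}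
    have hmem : ∀ q, f q ∈ T := by
      rintro ⟨a⟩
      show (QuotientGroup.mk (a : G) : G ⧸ N) ∈ T
      have hay : (a : G)⁻¹ * y * a ∈ N := by
        rw [mul_assoc, ← mem_centralizer_singleton_iff.1 a.2, inv_mul_cancel_left]
        exact F.yN
      simp only [T, Finset.mem_insert, Finset.mem_singleton]
      rcases F.fixed_y hu hall hay with h | h | h <;> rw [← hN] at h
      · exact Or.inl (QuotientGroup.eq.2 (by simpa using inv_mem h))
      · exact Or.inr (Or.inl (QuotientGroup.eq.2 (by simpa using h)).symm)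
      · exact Or.inr (Or.inr (QuotientGroup.eq.2 (by simpa using h)).symm)
    rw [Subgroup.index_eq_card]
    refine (Nat.card_le_card_of_injective (fun q => (⟨f q, hmem q⟩ : T)) fun a b e => hinj (congrArg Subtype.val e)).trans ?_
    rw [Nat.card_eq_fintype_card, Fintype.card_coe]
    exact Finset.card_le_three
  have huK : (⟨u, huC⟩ : ↥C) ∉ K := fun h => huN (mem_subgroupOf.1 h)
  have hne1 : K.index ≠ 1 := fun e => huK ((index_eq_one.1 e).symm ▸ mem_top _)
  have hne2 : K.index ≠ 2 := by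
    intro e
    haveI : K.Normal := Subgroup.normal_of_index_eq_two e
    have hK' : (⟨v, hvC⟩ : ↥C) ∈ K := mem_subgroupOf.2 (le_normalizer F.vS)
    have hconj := mem_subgroupOf.1 ((inferInstance : K.Normal).conj_mem _ hK' ⟨u, huC⟩)
    exact huN (F.closed.eq_normalizer F.vS F.v1 hconj)
  have h3 : K.index = 3 := by
    have := Nat.pos_of_ne_zero (index_ne_zero_of_finite (H := K))
    omega
  have hcard : Nat.card ↥C = 2 * p * 3 := by rw [← Subgroup.card_mul_index K, hKc, h3]
  have hp3 : p = 3 := by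
    have := F.closed.setting.orders.primes_of_central (Or.inr F.yord) F.hp (H := C)
      (fun g hg => (mem_centralizer_singleton_iff.1 hg).symm) Nat.prime_three (hcard ▸ dvd_mul_left 3 (2 * p))
    rcases this with e | e
    · norm_num at e
    · exact e.symm
  exact ⟨hp3, by rw [hcard, hp3]⟩

end Cfsg.Lib.OneComposite
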