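import Cfsg.Agent.OneComposite.FrobFinal

/-!
Neither degree survives, so the index `r * p` does not occur.
-/

set_option autoImplicit false
set_option linter.unusedSectionVars false
set_option linter.style.haveILetI false

namespace Cfsg.Lib.OneComposite

open Subgroup Cfsg.Lib.CosetCore Cfsg.Lib.StrongEmb

variable {G : Type*} [Group G] [Finite G] {p r : ℕ} {S : Sylow 2 G} {x y v : G}

theorem Frob.not_105 (F : Frob S 3 r x y v) (hG : Nat.card G = 17640) : False := by
  haveI : Fact (Nat.Prime 5) := ⟨by norm_num⟩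
  obtain ⟨P⟩ : Nonempty (Sylow 5 G) := inferInstance
  have hPc : Nat.card ↥(P : Subgroup G) = 5 := by
    obtain ⟨j, hj⟩ := IsPGroup.iff_card.1 P.isPGroup'
    have h1 := Subgroup.card_mul_index (P : Subgroup G)
    have h2 := P.not_dvd_index
    rw [hj, hG] at h1
    rcases j with _ | _ | j
    · exact absurd (by norm_num at h1; omega : 5 ∣ (P : Subgroup G).index) h2
    · rw [hj]; norm_num
    · exfalso
      have h3 : 25 ∣ (17640 : ℕ) := h1 ▸ Dvd.dvd.mul_right ⟨5 ^ j, by ring⟩ _
      norm_num at h3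
  haveI : IsCyclic ↥(P : Subgroup G) := isCyclic_of_prime_card hPc
  set C := centralizer ((P : Subgroup G) : Set G) with hC
  have hCP : C = (P : Subgroup G) := by
    have hle : (P : Subgroup G) ≤ C := fun a ha => mem_centralizer_iff.2 fun b hb => by
      have h : (⟨b, hb⟩ : ↥(P : Subgroup G)) * ⟨a, ha⟩ = ⟨a, ha⟩ * ⟨b, hb⟩ := by
        letI := IsCyclic.commGroup (α := ↥(P : Subgroup G))
        exact mul_comm _ _
      exact congrArg Subtype.val h
    refine P.is_maximal' (IsPGroup.iff_orderOf.2 fun a => ⟨_, Nat.eq_prime_pow_of_unique_prime_dvd (orderOf_pos a).ne'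
      fun {q} hq hdq => ?_⟩) hle
    haveI : Fact q.Prime := ⟨hq⟩
    obtain ⟨⟨b, hb⟩, hbo⟩ := exists_prime_orderOf_dvd_card' q (hdq.trans (orderOf_dvd_natCard a))
    rw [orderOf_mk] at hbo
    obtain ⟨z, hz⟩ := exists_prime_orderOf_dvd_card' 5 (dvd_of_eq hPc.symm)
    by_contra hne
    rcases F.closed.setting.orders.commute_cases hq (by norm_num) hbo (show orderOf (z : G) = 5 by rw [orderOf_coe, hz]) hne
      (mem_centralizer_iff.1 hb z z.2).symm with ⟨-, e⟩ | ⟨-, e⟩
    · norm_num at e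
    · norm_num at e
  set N := normalizer ((P : Subgroup G) : Set G) with hN
  set φ : ↥N →* MulAut ↥(P : Subgroup G) := (P : Subgroup G).normalizerMonoidHom with hφ
  have hker : φ.ker = C.subgroupOf N := Subgroup.normalizerMonoidHom_ker _
  have h1 := Subgroup.card_mul_index φ.ker
  rw [Subgroup.index_ker, hker, hCP, Nat.card_congr (subgroupOfEquivOfLe (le_normalizer :
    (P : Subgroup G) ≤ N)).toEquiv, hPc] at h1
  have hM : Nat.card (MulAut ↥(P : Subgroup G)) = 4 := by
    rw [IsCyclic.card_mulAut, hPc]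
    decide
  have hd : Nat.card ↥φ.range ∣ 4 := hM ▸ card_subgroup_dvd_card φ.range
  have h2 := Subgroup.card_mul_index N
  have hsy : Nat.card (Sylow 5 G) = N.index := P.card_eq_index_normalizer
  rw [← h1, hG, ← hsy] at h2
  have h3 : Nat.card (Sylow 5 G) % 5 = 1 := card_sylow_modEq_one 5 G
  have h4 := Nat.le_of_dvd (by norm_num) hd
  interval_cases h5 : Nat.card ↥φ.range <;> omega

theorem Frob.not_9 [IsSimpleGroup G] (F : Frob S 3 r x y v) (hna : ¬ IsMulCommutative G)
    (hidx : (normalizer ((S : Subgroup G) : Set G)).index = 9)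
    (h18 : Nat.card ↥(centralizer ({y} : Set G)) = 18) : False := by
  classical
  haveI : Fact (Nat.Prime 3) := ⟨Nat.prime_three⟩
  set N := normalizer ((S : Subgroup G) : Set G) with hN
  have hG : Nat.card G = 1512 := by rw [← Subgroup.card_mul_index N, hidx, F.cardN']
  have hYp : IsPGroup 3 ↥(zpowers y) := IsPGroup.of_card (n := 1) (by rw [Nat.card_zpowers, F.yord, pow_one])
  obtain ⟨P, hP⟩ := hYp.exists_le_sylow
  have hyP : y ∈ (P : Subgroup G) := hP (mem_zpowers y)
  have hPc : Nat.card ↥(P : Subgroup G) = 27 := by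
    obtain ⟨j, hj⟩ := IsPGroup.iff_card.1 P.isPGroup'
    have h1 := Subgroup.card_mul_index (P : Subgroup G)
    have h2 := P.not_dvd_index
    rw [hj, hG] at h1
    rcases j with _ | _ | _ | _ | j
    · exact absurd (by norm_num at h1; omega : 3 ∣ (P : Subgroup G).index) h2
    · exact absurd (by norm_num at h1; omega : 3 ∣ (P : Subgroup G).index) h2
    · exact absurd (by norm_num at h1; omega : 3 ∣ (P : Subgroup G).index) h2
    · rw [hj]; norm_num
    · exfalso
      have h3 : 81 ∣ (1512 : ℕ) := h1 ▸ Dvd.dvd.mul_right ⟨3 ^ j, by ring⟩ _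
      norm_num at h3
  have hPN : (P : Subgroup G) ⊓ N = zpowers y := by
    obtain ⟨j, hj⟩ := IsPGroup.iff_card.1 (P.isPGroup'.to_le (inf_le_left : (P : Subgroup G) ⊓ N ≤ P))
    have hd : 3 ^ j ∣ 168 := hj ▸ F.cardN' ▸ card_dvd_of_le (inf_le_right : (P : Subgroup G) ⊓ N ≤ N)
    refine (eq_of_le_of_card_ge (le_inf hP (zpowers_le.2 F.yN)) ?_).symm
    rw [hj, Nat.card_zpowers, F.yord]
    rcases j with _ | _ | j
    · norm_num
    · norm_num
    · exfalso
      have h3 : 9 ∣ (168 : ℕ) := Dvd.dvd.trans ⟨3 ^ j, by ring⟩ hd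
      norm_num at h3
  -- `P` is transitive
  have htr : ∀ g : G, ∃ s ∈ (P : Subgroup G), s⁻¹ * g ∈ N := by
    set K := N.subgroupOf (P : Subgroup G) with hK
    have hKc : Nat.card ↥K = 3 := by
      have h1 : Nat.card ↥(K.map (P : Subgroup G).subtype) = Nat.card ↥K :=
        card_map_of_injective (P : Subgroup G).subtype_injective
      rw [← h1, hK, subgroupOf_map_subtype, inf_comm, hPN, Nat.card_zpowers, F.yord]
    have hKi : K.index = 9 := by
      have := Subgroup.card_mul_index K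
      rw [hKc, hPc] at this
      omega
    let f : ↥(P : Subgroup G) ⧸ K → G ⧸ N := Quotient.map' (fun a => (a : G)) fun a b hab => by
      rw [QuotientGroup.leftRel_apply] at hab ⊢
      exact mem_subgroupOf.1 hab
    have hinj : Function.Injective f := by
      rintro ⟨a⟩ ⟨b⟩ e
      refine QuotientGroup.eq.2 (mem_subgroupOf.2 ?_)
      exact QuotientGroup.eq.1 (show (QuotientGroup.mk (a : G) : G ⧸ N) = QuotientGroup.mk (b : G) from e)
    have hbij : Function.Bijective f :=
      (Nat.bijective_iff_injective_and_card f).2 ⟨hinj, by rw [← Subgroup.index_eq_card, ← Subgroup.index_eq_card, hKi, hidx]⟩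
    intro g
    obtain ⟨⟨a⟩, ha⟩ := hbij.2 (QuotientGroup.mk g)
    exact ⟨a, a.2, QuotientGroup.eq.1 (show (QuotientGroup.mk (a : G) : G ⧸ N) = QuotientGroup.mk g from ha)⟩
  have hfus : ∀ g : G, g * y * g⁻¹ ∈ (P : Subgroup G) → ∃ s ∈ (P : Subgroup G), g * y * g⁻¹ = s * y * s⁻¹ := by
    intro g hg
    obtain ⟨s, hs, hn⟩ := htr g
    have h1 : (s⁻¹ * g) * y * (s⁻¹ * g)⁻¹ ∈ zpowers y := hPN ▸ mem_inf.2
      ⟨by simpa [mul_assoc] using mul_mem (mul_mem (inv_mem hs) hg) hs, mul_mem (mul_mem hn F.yN) (inv_mem hn)⟩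
    obtain ⟨hc, -⟩ := F.normalizes_y hn h1
    refine ⟨s, hs, ?_⟩
    calc g * y * g⁻¹ = s * ((s⁻¹ * g) * y) * (s⁻¹ * g)⁻¹ * s⁻¹ := by group
      _ = s * y * s⁻¹ := by rw [hc.eq]; group
  -- a central subgroup of order three
  haveI : Nontrivial ↥(P : Subgroup G) := Finite.one_lt_card_iff_nontrivial.1 (by rw [hPc]; norm_num)
  have hd3 : 3 ∣ Nat.card ↥(center ↥(P : Subgroup G)) := by
    obtain ⟨j, hj⟩ := IsPGroup.iff_card.1 (P.isPGroup'.to_subgroup (center ↥(P : Subgroup G)))
    haveI := P.isPGroup'.center_nontrivial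
    have := Finite.one_lt_card (α := ↥(center ↥(P : Subgroup G)))
    rcases j with _ | j
    · rw [hj, pow_zero] at this; omega
    · rw [hj, pow_succ]; exact dvd_mul_left 3 _
  obtain ⟨z, hz⟩ := exists_prime_orderOf_dvd_card' 3 hd3
  set Z := zpowers (z : ↥(P : Subgroup G)) with hZ
  have hZle : Z ≤ center ↥(P : Subgroup G) := zpowers_le.2 z.2
  haveI : Z.Normal := ⟨fun a ha b => by
    rw [mem_center_iff.1 (hZle ha) b, mul_inv_cancel_right]; exact ha⟩
  have hZi : Nat.card (↥(P : Subgroup G) ⧸ Z) = 3 ^ 2 := by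
    have := Subgroup.card_mul_index Z
    rw [Nat.card_zpowers, orderOf_coe, hz, hPc] at this
    rw [← Subgroup.index_eq_card]
    omega
  letI : CommGroup (↥(P : Subgroup G) ⧸ Z) := IsPGroup.commGroupOfCardEqPrimeSq hZi
  set ϕ : ↥(P : Subgroup G) →* ↥(P : Subgroup G) ⧸ Z := QuotientGroup.mk' Z with hϕ
  set c := ϕ ⟨y, hyP⟩ with hc
  have hy3 : y ^ 3 = 1 := F.pow_p
  have hc3 : c ^ 3 = 1 := by
    rw [hc, ← map_pow, show (⟨y, hyP⟩ : ↥(P : Subgroup G)) ^ 3 = 1 from Subtype.ext hy3, map_one]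
  have htau : MonoidHom.transfer ϕ y = c ^ (P : Subgroup G).index := by
    letI := (P : Subgroup G).fintypeQuotientOfFiniteIndex
    haveI : Fintype (Quotient (MulAction.orbitRel (zpowers y) (G ⧸ (P : Subgroup G)))) := Fintype.ofFinite _
    rw [MonoidHom.transfer_eq_prod_quotient_orbitRel_zpowers_quot]
    have hterm : ∀ q : Quotient (MulAction.orbitRel (zpowers y) (G ⧸ (P : Subgroup G))),
        ϕ ⟨q.out.out⁻¹ * y ^ Function.minimalPeriod (y • ·) q.out * q.out.out,
          QuotientGroup.out_conj_pow_minimalPeriod_mem (P : Subgroup G) y q.out⟩ =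
        c ^ Function.minimalPeriod (y • ·) q.out := by
      intro q
      have hmem := QuotientGroup.out_conj_pow_minimalPeriod_mem (P : Subgroup G) y q.out
      have hper : Function.IsPeriodicPt (y • ·) 3 q.out := by
        show (y • ·)^[3] q.out = q.out
        rw [smul_iterate_apply, hy3, one_smul]
      have key : ∀ n, (n = 1 ∨ n = 3) → ∀ h1 : q.out.out⁻¹ * y ^ n * q.out.out ∈ (P : Subgroup G),
          ϕ ⟨_, h1⟩ = c ^ n := by
        rintro n (rfl | rfl) h1
        · simp only [pow_one] at h1 ⊢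
          obtain ⟨s, hs, hse⟩ := hfus (q.out.out⁻¹) (by rwa [inv_inv])
          rw [inv_inv] at hse
          rw [hc, show (⟨q.out.out⁻¹ * y * q.out.out, h1⟩ : ↥(P : Subgroup G)) = ⟨s, hs⟩ * ⟨y, hyP⟩ * ⟨s, hs⟩⁻¹ from
            Subtype.ext hse, map_mul, map_mul, map_inv, mul_comm (ϕ ⟨s, hs⟩), mul_inv_cancel_right]
        · rw [hc3]
          refine (congrArg ϕ (Subtype.ext ?_)).trans (map_one ϕ)
          show q.out.out⁻¹ * y ^ 3 * q.out.out = 1
          rw [hy3, mul_one, inv_mul_cancel]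
      exact key _ ((Nat.dvd_prime Nat.prime_three).1 hper.minimalPeriod_dvd) hmem
    rw [Finset.prod_congr rfl (fun q _ => hterm q), Finset.prod_pow_eq_pow_sum]
    congr 1
    rw [Subgroup.index_eq_card, Nat.card_congr (Subgroup.quotientEquivSigmaZMod (P : Subgroup G) y), Nat.card_sigma]
    exact Finset.sum_congr rfl fun q _ => (Nat.card_zmod _).symm
  have hker : MonoidHom.transfer ϕ y = 1 := by
    rcases (MonoidHom.normal_ker (MonoidHom.transfer ϕ)).eq_bot_or_eq_top with e | e
    · refine absurd ⟨⟨fun a b => (MonoidHom.ker_eq_bot_iff _).1 e ?_⟩⟩ hna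
      rw [map_mul, map_mul, mul_comm]
    · exact MonoidHom.mem_ker.1 (e ▸ mem_top y)
  have hPi : (P : Subgroup G).index = 56 := by
    have := Subgroup.card_mul_index (P : Subgroup G)
    rw [hPc, hG] at this
    omega
  rw [htau, hPi, show 56 = 3 * 18 + 2 from rfl, pow_add, pow_mul, hc3, one_pow, one_mul] at hker
  have hc1 : c = 1 := by
    calc c = c ^ 2 * c := by rw [hker, one_mul]
      _ = 1 := (pow_succ c 2).symm.trans hc3
  rw [hc, hϕ, QuotientGroup.mk'_apply, QuotientGroup.eq_one_iff] at hc1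
  have hle : (P : Subgroup G) ≤ centralizer ({y} : Set G) := fun a ha => mem_centralizer_singleton_iff.2
    (congrArg Subtype.val (mem_center_iff.1 (hZle hc1) ⟨a, ha⟩))
  have := card_dvd_of_le hle
  rw [hPc, h18] at this
  norm_num at this

theorem Frob.false [IsSimpleGroup G] (F : Frob S p r x y v) (hna : ¬ IsMulCommutative G) : False := by
  obtain ⟨u, hu, huN, hub, huy, hall⟩ := F.exists_u (F.y_not_alone hna)
  obtain ⟨rfl, h18⟩ := F.three hu huN huy hall
  rcases F.degree hu hub huy with h | h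
  · exact F.not_9 hna h h18
  · exact F.not_105 (by rw [← Subgroup.card_mul_index (normalizer ((S : Subgroup G) : Set G)), h, F.cardN'])

end Cfsg.Lib.OneComposite
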