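import Cfsg.Agent.OneComposite.FrobCount

/-!
The two possible degrees `9` and `105` are impossible.
-/

set_option autoImplicit false
set_option linter.unusedSectionVars false
set_option linter.style.haveILetI false

namespace Cfsg.Lib.OneComposite

open Subgroup Cfsg.Lib.CosetCore Cfsg.Lib.StrongEmb

variable {G : Type*} [Group G] [Finite G] {r : ℕ} {S : Sylow 2 G} {x y v : G}

theorem Frob.r_seven (F : Frob S 3 r x y v) : r = 7 := by
  have h := F.closed.hr
  norm_num at h
  omega

theorem Frob.cardN' (F : Frob S 3 r x y v) : Nat.card ↥(normalizer ((S : Subgroup G) : Set G)) = 168 := by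
  rw [F.cardN, F.r_seven]
  norm_num

/-- The degree. -/
theorem Frob.degree (F : Frob S 3 r x y v) {u : G} (hu : orderOf u = 2) (hub : u ∈ F.both) (huy : Commute u y) :
    (normalizer ((S : Subgroup G) : Set G)).index = 9 ∨ (normalizer ((S : Subgroup G) : Set G)).index = 105 := by
  classical
  obtain rfl := F.r_seven
  haveI : Fact (Nat.Prime 7) := ⟨by norm_num⟩
  set N := normalizer ((S : Subgroup G) : Set G) with hN
  set NX := normalizer ((zpowers x : Subgroup G) : Set G) with hNX
  set A := centralizer ({x} : Set G) with hA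
  have hxA : x ∈ A := mem_centralizer_singleton_iff.2 rfl
  have hA7 : IsPGroup 7 ↥A := by
    refine IsPGroup.iff_orderOf.2 fun a => ⟨_, Nat.eq_prime_pow_of_unique_prime_dvd (orderOf_pos a).ne' fun {q} hq hdq => ?_⟩
    haveI : Fact q.Prime := ⟨hq⟩
    obtain ⟨⟨b, hb⟩, hbo⟩ := exists_prime_orderOf_dvd_card' q (hdq.trans (orderOf_dvd_natCard a))
    rw [orderOf_mk] at hbo
    by_contra hne
    rcases F.closed.setting.orders.commute_cases hq (by norm_num) hbo F.closed.xord hne
      (mem_centralizer_singleton_iff.1 hb) with ⟨-, e⟩ | ⟨-, e⟩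
    · exact F.hrp e
    · norm_num at e
  obtain ⟨k, hk⟩ := IsPGroup.iff_card.1 hA7
  have hk0 : k ≠ 0 := by
    rintro rfl
    have := Subgroup.orderOf_dvd_natCard _ hxA
    rw [hk, F.closed.xord] at this
    norm_num at this
  -- the normaliser of `⟨x⟩`
  have hNXc : Nat.card ↥NX = 7 ^ k * 6 := by
    set φ : ↥NX →* MulAut ↥(zpowers x) := (zpowers x).normalizerMonoidHom with hφ
    have hker : φ.ker = (centralizer ((zpowers x : Subgroup G) : Set G)).subgroupOf NX :=
      Subgroup.normalizerMonoidHom_ker _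
    have hcz : centralizer ((zpowers x : Subgroup G) : Set G) = A := by
      refine le_antisymm (fun g hg => mem_centralizer_singleton_iff.2 (mem_centralizer_iff.1 hg x (mem_zpowers x)).symm) ?_
      refine fun g hg => mem_centralizer_iff.2 fun a ha => ?_
      obtain ⟨i, rfl⟩ := mem_zpowers_iff.1 ha
      exact ((show Commute g x from mem_centralizer_singleton_iff.1 hg).zpow_right i).eq.symm
    have hAle : A ≤ NX := hcz ▸ centralizer_le_normalizer _
    have h1 := Subgroup.card_mul_index φ.ker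
    rw [Subgroup.index_ker, hker, hcz, Nat.card_congr (subgroupOfEquivOfLe hAle).toEquiv, hk] at h1
    haveI : IsCyclic ↥(zpowers x) := inferInstance
    have hM : Nat.card (MulAut ↥(zpowers x)) = 6 := by
      rw [IsCyclic.card_mulAut, Nat.card_zpowers, F.closed.xord]
      decide
    have hd6 : Nat.card ↥φ.range ∣ 6 := hM ▸ card_subgroup_dvd_card φ.range
    have h6 : 6 ∣ Nat.card ↥φ.range := by
      set w := u * y with hw
      have hwo : orderOf w = 6 := by
        rw [hw, huy.orderOf_mul_eq_mul_orderOf_of_coprime (by rw [hu, F.yord]; norm_num), hu, F.yord]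
      have hwb : w ∈ F.both := mul_mem hub F.y_both
      have hwn : w ∈ NX := (Subgroup.mem_inf.1 hwb).1
      have hoφ : orderOf (φ ⟨w, hwn⟩) = 6 := by
        have h2 : orderOf (φ ⟨w, hwn⟩) ∣ 6 := by
          rw [← hwo, ← orderOf_mk w hwn]; exact orderOf_map_dvd _ _
        have h3 : (⟨w, hwn⟩ : ↥NX) ^ orderOf (φ ⟨w, hwn⟩) ∈ φ.ker := by
          rw [MonoidHom.mem_ker, map_pow, pow_orderOf_eq_one]
        rw [hker, hcz] at h3
        have h4 := F.both_faithful (pow_mem hwb (orderOf (φ ⟨w, hwn⟩)))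
          (mem_centralizer_singleton_iff.1 (mem_subgroupOf.1 h3))
        exact Nat.dvd_antisymm h2 (hwo ▸ orderOf_dvd_of_pow_eq_one h4)
      exact hoφ ▸ Subgroup.orderOf_dvd_natCard φ.range ⟨_, rfl⟩
    rw [Nat.dvd_antisymm hd6 h6] at h1
    exact h1.symm
  -- the points fixed by `x`
  set T := {c : G ⧸ N // x • c = c} with hT
  have memT : ∀ g : G, x • (QuotientGroup.mk g : G ⧸ N) = QuotientGroup.mk g ↔ g⁻¹ * x * g ∈ N := by
    intro g
    rw [MulAction.Quotient.smul_mk, smul_eq_mul, QuotientGroup.eq]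
    constructor
    · intro h
      simpa [mul_assoc] using inv_mem h
    · intro h
      simpa [mul_assoc] using inv_mem h
  set H := (normX S x).subgroupOf NX with hH
  have hTc : Nat.card T = H.index := by
    let f : ↥NX ⧸ H → T := Quotient.lift
      (fun g => ⟨QuotientGroup.mk (g : G), (memT _).2 (by
        obtain ⟨i, hi⟩ := mem_zpowers_iff.1 ((mem_normalizer_iff''.1 g.2 x).1 (mem_zpowers x))
        exact hi ▸ zpow_mem F.closed.xN i)⟩)
      fun a b hab => Subtype.ext (QuotientGroup.eq.2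
        (mem_subgroupOf.1 ((QuotientGroup.leftRel_apply).1 hab) : ((a⁻¹ * b : ↥NX) : G) ∈ normX S x).1)
    have hinj : Function.Injective f := by
      rintro ⟨a⟩ ⟨b⟩ e
      refine QuotientGroup.eq.2 (mem_subgroupOf.2 (Subgroup.mem_inf.2 ⟨?_, (a⁻¹ * b).2⟩))
      exact QuotientGroup.eq.1 (congrArg Subtype.val e : (QuotientGroup.mk (a : G) : G ⧸ N) = QuotientGroup.mk (b : G))
    have hsurj : Function.Surjective f := by
      rintro ⟨c, hc⟩
      obtain ⟨g, rfl⟩ := QuotientGroup.mk_surjective c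
      obtain ⟨z, hz, hzg⟩ := F.fixedX ((memT g).1 hc)
      exact ⟨QuotientGroup.mk ⟨z, hz⟩, Subtype.ext (QuotientGroup.eq.2 hzg)⟩
    rw [Subgroup.index_eq_card, Nat.card_eq_of_bijective f ⟨hinj, hsurj⟩]
  have hTH : Nat.card T * 21 = 7 ^ k * 6 := by
    have h1 := Subgroup.card_mul_index H
    rw [hH, Nat.card_congr (subgroupOfEquivOfLe (show normX S x ≤ NX from inf_le_right)).toEquiv, F.card_normX, hNXc] at h1
    rw [hTc, hH]
    linarith
  -- the other points
  set base : G ⧸ N := QuotientGroup.mk 1 with hbase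
  have hbase0 : x • base = base := (memT 1).2 (by simpa [hN] using F.closed.xN)
  have hT1 : Nat.card {c : T // c ≠ ⟨base, hbase0⟩} + 1 = Nat.card T := by
    haveI : Fintype T := Fintype.ofFinite _
    rw [Nat.card_eq_fintype_card, Nat.card_eq_fintype_card, Fintype.card_subtype_compl, Fintype.card_subtype_eq]
    have : 0 < Fintype.card T := Fintype.card_pos_iff.2 ⟨⟨base, hbase0⟩⟩
    omega
  have hX1 : Nat.card {c : G ⧸ N // c ≠ base} + 1 = N.index := by
    haveI : Fintype (G ⧸ N) := Fintype.ofFinite _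
    rw [Subgroup.index_eq_card, Nat.card_eq_fintype_card, Nat.card_eq_fintype_card, Fintype.card_subtype_compl,
      Fintype.card_subtype_eq]
    have : 0 < Fintype.card (G ⧸ N) := Fintype.card_pos_iff.2 ⟨base⟩
    omega
  have hfixS : ∀ s : ↥(S : Subgroup G), (s : G) • base = base := fun s => by
    rw [hbase, MulAction.Quotient.smul_mk, smul_eq_mul, mul_one, QuotientGroup.eq]
    simpa [hN] using le_normalizer s.2
  let Φ : ↥(S : Subgroup G) × {c : T // c ≠ ⟨base, hbase0⟩} → {c : G ⧸ N // c ≠ base} := fun a =>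
    ⟨(a.1 : G) • ((a.2 : T) : G ⧸ N), fun e => a.2.2 (Subtype.ext (by
      exact MulAction.injective _ (e.trans (hfixS a.1).symm)))⟩
  have hΦ : Function.Bijective Φ := by
    refine ⟨?_, ?_⟩
    · rintro ⟨s, ⟨⟨c, hc⟩, hc1⟩⟩ ⟨s', ⟨⟨c', hc'⟩, hc1'⟩⟩ e
      have e' : (s : G) • c = (s' : G) • c' := congrArg Subtype.val e
      set z := (s' : G)⁻¹ * s with hz
      have hzc : z • c = c' := by rw [hz, mul_smul, e', inv_smul_smul]
      obtain ⟨g, rfl⟩ := QuotientGroup.mk_surjective c'
      have hgN : g ∉ N := fun h => hc1' (Subtype.ext (QuotientGroup.eq.2 (by simpa using inv_mem h)))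
      obtain ⟨hDc, -⟩ := F.exists_common hgN
      set D : Subgroup G := N ⊓ N.map (MulAut.conj g).toMonoidHom
      have hzS : z ∈ (S : Subgroup G) := mul_mem (inv_mem s'.2) s.2
      have hzxz : z * x * z⁻¹ ∈ D := Subgroup.mem_inf.2 ⟨mul_mem (mul_mem (le_normalizer hzS) F.closed.xN)
        (inv_mem (le_normalizer hzS)), by
          rw [mem_conj_iff]
          refine (?_ : g⁻¹ * (z * x * z⁻¹) * g ∈ N)
          have h1 : (z * x * z⁻¹) • (QuotientGroup.mk g : G ⧸ N) = QuotientGroup.mk g := by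
            rw [← hzc, ← mul_smul, inv_mul_cancel_right, mul_smul, hc]
          rw [MulAction.Quotient.smul_mk, smul_eq_mul, QuotientGroup.eq] at h1
          simpa [mul_assoc] using inv_mem h1⟩
      have hxD : x ∈ D := Subgroup.mem_inf.2 ⟨F.closed.xN, by rw [mem_conj_iff]; exact (memT g).1 hc'⟩
      have hzX : z * x * z⁻¹ ∈ zpowers x := by
        by_contra hne
        have hdis : zpowers x ⊓ zpowers (z * x * z⁻¹) = ⊥ := by
          refine eq_bot_iff.2 fun a ha => mem_bot.2 ?_
          by_contra ha1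
          have hao : orderOf a = 7 := by
            have h1 := Subgroup.orderOf_dvd_natCard _ ha.1
            rw [Nat.card_zpowers, F.closed.xord] at h1
            exact ((Nat.dvd_prime (by norm_num)).1 h1).resolve_left fun e0 => ha1 (orderOf_eq_one_iff.1 e0)
          have e1 : zpowers a = zpowers (z * x * z⁻¹) := eq_of_le_of_card_ge (zpowers_le.2 ha.2) (by
            rw [Nat.card_zpowers, Nat.card_zpowers, conj_order, F.closed.xord, hao])
          exact hne ((zpowers_le.2 ha.1) (e1 ▸ mem_zpowers _))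
        let f : ↥(zpowers x) × ↥(zpowers (z * x * z⁻¹)) → ↥D := fun a =>
          ⟨(a.1 : G) * a.2, mul_mem ((zpowers_le.2 hxD) a.1.2) ((zpowers_le.2 hzxz) a.2.2)⟩
        have hf : Function.Injective f := by
          rintro ⟨a, b⟩ ⟨a', b'⟩ e
          have e2 : (a : G) * b = a' * b' := congrArg Subtype.val e
          have e3 : (a' : G)⁻¹ * a = b' * (b : G)⁻¹ := by
            rw [eq_mul_inv_iff_mul_eq, mul_assoc, e2, inv_mul_cancel_left]
          have e4 : (a' : G)⁻¹ * a = 1 := mem_bot.1 (hdis ▸ Subgroup.mem_inf.2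
            ⟨mul_mem (inv_mem a'.2) a.2, e3 ▸ mul_mem b'.2 (inv_mem b.2)⟩)
          rw [e4, eq_comm, mul_inv_eq_one] at e3
          rw [inv_mul_eq_one] at e4
          exact Prod.ext (Subtype.ext e4.symm) (Subtype.ext e3.symm)
        have h2 := Nat.card_le_card_of_injective f hf
        rw [Nat.card_prod, Nat.card_zpowers, Nat.card_zpowers, conj_order, F.closed.xord] at h2
        have h3 := Nat.le_of_dvd (by norm_num) hDc
        omega
      have hzn : z ∈ NX := by
        rw [hNX, mem_normalizer_iff_map, MonoidHom.map_zpowers]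
        exact eq_of_le_of_card_ge (zpowers_le.2 hzX) (by
          show _ ≤ Nat.card ↥(zpowers (z * x * z⁻¹))
          rw [Nat.card_zpowers, Nat.card_zpowers, conj_order])
      have hz1 := F.S_inf_normX hzS (Subgroup.mem_inf.2 ⟨le_normalizer hzS, hzn⟩)
      have hss : s = s' := Subtype.ext (inv_mul_eq_one.1 hz1).symm
      rw [hz1, one_smul] at hzc
      subst hss; subst hzc
      rfl
    · rintro ⟨c, hc⟩
      obtain ⟨g, rfl⟩ := QuotientGroup.mk_surjective c
      have hgN : g ∉ N := fun h => hc (QuotientGroup.eq.2 (by simpa using inv_mem h))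
      obtain ⟨-, d, hdo, hdD⟩ := F.exists_common hgN
      obtain ⟨s, hs, hsx⟩ := F.sylow_r (Subgroup.mem_inf.1 hdD).1 hdo
      have h1 : g⁻¹ * (s * x * s⁻¹) * g ∈ N := mem_conj_iff.1 (Subgroup.mem_inf.1 ((zpowers_le.2 hdD) hsx)).2
      have h2 : x • (QuotientGroup.mk (s⁻¹ * g) : G ⧸ N) = QuotientGroup.mk (s⁻¹ * g) :=
        (memT _).2 (by simpa [mul_assoc] using h1)
      refine ⟨(⟨s, hs⟩, ⟨⟨_, h2⟩, fun e => hgN ?_⟩), Subtype.ext ?_⟩
      · have e2 := QuotientGroup.eq.1 (congrArg Subtype.val e : (QuotientGroup.mk (s⁻¹ * g) : G ⧸ N) = base)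
        have e3 := mul_mem (le_normalizer hs) (inv_mem e2)
        simpa [hN, mul_assoc] using e3
      · show s • (QuotientGroup.mk (s⁻¹ * g) : G ⧸ N) = QuotientGroup.mk g
        rw [MulAction.Quotient.smul_mk, smul_eq_mul, mul_inv_cancel_left]
  have hcount := Nat.card_eq_of_bijective Φ hΦ
  rw [Nat.card_prod, F.closed.card_S] at hcount
  have hG := Subgroup.card_mul_index N
  rw [F.cardN'] at hG
  have hdvd : 7 ^ k ∣ 168 * N.index := hG ▸ hk ▸ card_subgroup_dvd_card A
  obtain ⟨j, rfl⟩ := Nat.exists_eq_succ_of_ne_zero hk0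
  have hTj : Nat.card T = 2 * 7 ^ j := by
    rw [pow_succ] at hTH
    omega
  have hn : N.index + 7 = 16 * 7 ^ j := by
    rw [show (2 : ℕ) ^ 3 = 8 by norm_num] at hcount
    omega
  rcases j with _ | _ | j
  · left; norm_num at hn; omega
  · right; norm_num at hn; omega
  · exfalso
    have hd3 : 343 ∣ 168 * N.index := by
      refine Dvd.dvd.trans ?_ hdvd
      exact ⟨7 ^ j, by simp only [Nat.succ_eq_add_one]; ring⟩
    have e : 16 * 7 ^ (j + 1 + 1) = 49 * (16 * 7 ^ j) := by ring
    rw [e] at hn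
    omega

end Cfsg.Lib.OneComposite
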