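import Cfsg.Agent.OneComposite.FrobSetup

/-!
The fixed points of `x` and `y` on the conjugates of the normaliser: `p = 3`.
-/

set_option autoImplicit false
set_option linter.unusedSectionVars false
set_option linter.style.haveILetI false

namespace Cfsg.Lib.OneComposite

open Subgroup Cfsg.Lib.CosetCore Cfsg.Lib.StrongEmb

variable {G : Type*} [Group G] [Finite G] {p r : ℕ} {S : Sylow 2 G} {x y v : G}

/-- The elements of the normaliser which normalise `⟨x⟩`. -/
def normX (S : Sylow 2 G) (x : G) : Subgroup G :=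
  normalizer ((S : Subgroup G) : Set G) ⊓ normalizer ((zpowers x : Subgroup G) : Set G)

variable (F : Frob S p r x y v)
include F

theorem Frob.x_mem : x ∈ normX S x := ⟨F.closed.xN, le_normalizer (mem_zpowers x)⟩

theorem Frob.y_mem : y ∈ normX S x := ⟨F.yN, F.yX⟩

theorem Frob.hp2 : p ≠ 2 := F.closed.setting.hp2

theorem Frob.hp : p.Prime := F.closed.setting.hp

theorem Frob.pow_r : x ^ r = 1 := F.closed.xord ▸ pow_orderOf_eq_one x

theorem Frob.pow_p : y ^ p = 1 := F.yord ▸ pow_orderOf_eq_one y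

theorem Frob.zpowers_inf : (zpowers x) ⊓ zpowers y = (⊥ : Subgroup G) := by
  refine eq_bot_iff.2 fun a ha => mem_bot.2 (orderOf_eq_one_iff.1 ?_)
  have h1 := Subgroup.orderOf_dvd_natCard _ ha.1
  have h2 := Subgroup.orderOf_dvd_natCard _ ha.2
  rw [Nat.card_zpowers, F.closed.xord] at h1
  rw [Nat.card_zpowers, F.yord] at h2
  exact Nat.eq_one_of_dvd_coprimes ((Nat.coprime_primes F.closed.rprime F.hp).2 F.hrp) h1 h2

theorem Frob.not_commute {a : G} (ha : a ∈ zpowers x) (hc : Commute a y) : a = 1 := by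
  by_contra ha1
  have h1 := Subgroup.orderOf_dvd_natCard _ ha
  rw [Nat.card_zpowers, F.closed.xord] at h1
  have hao : orderOf a = r := ((Nat.dvd_prime F.closed.rprime).1 h1).resolve_left fun e => ha1 (orderOf_eq_one_iff.1 e)
  rcases F.closed.setting.orders.commute_cases F.closed.rprime F.hp hao F.yord F.hrp hc with ⟨e, -⟩ | ⟨e, -⟩
  · exact F.closed.r_ne_two e
  · exact F.hrp e

theorem Frob.free {a s : G} (ha : a ∈ zpowers x) (ha1 : a ≠ 1) (hs : s ∈ (S : Subgroup G)) (hc : Commute a s) :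
    s = 1 := by
  have h1 := Subgroup.orderOf_dvd_natCard _ ha
  rw [Nat.card_zpowers, F.closed.xord] at h1
  have hao : orderOf a = r := ((Nat.dvd_prime F.closed.rprime).1 h1).resolve_left fun e => ha1 (orderOf_eq_one_iff.1 e)
  obtain ⟨k, hk⟩ := mem_zpowers_iff.1 ha
  have hxa : x ∈ zpowers a := by
    have he : zpowers a = zpowers x := eq_of_le_of_card_ge (zpowers_le.2 ha)
      (by rw [Nat.card_zpowers, Nat.card_zpowers, F.closed.xord, hao])
    exact he ▸ mem_zpowers x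
  obtain ⟨j, rfl⟩ := mem_zpowers_iff.1 hxa
  exact F.closed.xfree s hs (hc.zpow_left j).symm

theorem Frob.S_inf_normX {s : G} (hs : s ∈ (S : Subgroup G)) (hn : s ∈ normX S x) : s = 1 := by
  by_contra hs1
  have h1 : s * x * s⁻¹ * x⁻¹ ∈ zpowers x :=
    mul_mem ((mem_normalizer_iff.1 hn.2 x).1 (mem_zpowers x)) (inv_mem (mem_zpowers x))
  have h2 : s * x * s⁻¹ * x⁻¹ ∈ (S : Subgroup G) := by
    have := mul_mem hs ((mem_normalizer_iff.1 F.closed.xN _).1 (inv_mem hs))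
    simpa [mul_assoc] using this
  have h3 : s * x * s⁻¹ * x⁻¹ = 1 := by
    by_contra hne
    exact hne (F.free h1 hne h2 (Commute.refl _))
  rw [mul_inv_eq_one, mul_inv_eq_iff_eq_mul] at h3
  exact hs1 (F.closed.xfree s hs h3)

theorem Frob.decomp {g : G} (hg : g ∈ normalizer ((S : Subgroup G) : Set G)) :
    ∃ s ∈ (S : Subgroup G), ∃ i j : ℕ, g = s * (x ^ i * y ^ j) := by
  set N := normalizer ((S : Subgroup G) : Set G) with hN
  let f : ↥(S : Subgroup G) × Fin r × Fin p → ↥N := fun a =>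
    ⟨(a.1 : G) * (x ^ (a.2.1 : ℕ) * y ^ (a.2.2 : ℕ)),
      mul_mem (le_normalizer a.1.2) (mul_mem (pow_mem F.closed.xN _) (pow_mem F.yN _))⟩
  have hinj : Function.Injective f := by
    rintro ⟨s, i, j⟩ ⟨s', i', j'⟩ e
    have e' : (s : G) * (x ^ (i : ℕ) * y ^ (j : ℕ)) = s' * (x ^ (i' : ℕ) * y ^ (j' : ℕ)) := congrArg Subtype.val e
    have hh : ∀ a b : ℕ, x ^ a * y ^ b ∈ normX S x := fun a b => mul_mem (pow_mem F.x_mem a) (pow_mem F.y_mem b)
    have h1 : (s' : G)⁻¹ * s = (x ^ (i' : ℕ) * y ^ (j' : ℕ)) * (x ^ (i : ℕ) * y ^ (j : ℕ))⁻¹ := by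
      rw [eq_mul_inv_iff_mul_eq, mul_assoc, e', inv_mul_cancel_left]
    have h2 := F.S_inf_normX (mul_mem (inv_mem s'.2) s.2) (h1 ▸ mul_mem (hh _ _) (inv_mem (hh _ _)))
    have hs : s = s' := Subtype.ext (inv_mul_eq_one.1 h2).symm
    subst hs
    have e2 := mul_left_cancel e'
    have h3 : (x ^ (i' : ℕ))⁻¹ * x ^ (i : ℕ) = y ^ (j' : ℕ) * (y ^ (j : ℕ))⁻¹ := by
      rw [eq_mul_inv_iff_mul_eq, mul_assoc, e2, inv_mul_cancel_left]
    have h4 : (x ^ (i' : ℕ))⁻¹ * x ^ (i : ℕ) = 1 := mem_bot.1 (F.zpowers_inf ▸ mem_inf.2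
      ⟨mul_mem (inv_mem (pow_mem (mem_zpowers x) _)) (pow_mem (mem_zpowers x) _),
        h3 ▸ mul_mem (pow_mem (mem_zpowers y) _) (inv_mem (pow_mem (mem_zpowers y) _))⟩)
    rw [h4, eq_comm, mul_inv_eq_one] at h3
    rw [inv_mul_eq_one] at h4
    have hi : i = i' := Fin.ext ((pow_injOn_Iio_orderOf (x := x)) (by rw [Set.mem_Iio, F.closed.xord]; exact i.2)
      (by rw [Set.mem_Iio, F.closed.xord]; exact i'.2) h4.symm)
    have hj : j = j' := Fin.ext ((pow_injOn_Iio_orderOf (x := y)) (by rw [Set.mem_Iio, F.yord]; exact j.2)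
      (by rw [Set.mem_Iio, F.yord]; exact j'.2) h3.symm)
    rw [hi, hj]
  obtain ⟨-, hsurj⟩ := (Nat.bijective_iff_injective_and_card f).2 ⟨hinj, by
    rw [Nat.card_prod, Nat.card_prod, Nat.card_fin, Nat.card_fin, F.closed.card_S, F.cardN]⟩
  obtain ⟨⟨s, i, j⟩, e⟩ := hsurj ⟨g, hg⟩
  exact ⟨s, s.2, i, j, (congrArg Subtype.val e).symm⟩

theorem Frob.mem_normX {g : G} (hg : g ∈ normX S x) : ∃ i j : ℕ, g = x ^ i * y ^ j := by
  obtain ⟨s, hs, i, j, rfl⟩ := F.decomp hg.1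
  have : s = 1 := F.S_inf_normX hs (by
    have := mul_mem hg (inv_mem (mul_mem (pow_mem F.x_mem i) (pow_mem F.y_mem j)))
    rwa [mul_inv_cancel_right] at this)
  exact ⟨i, j, by rw [this, one_mul]⟩

theorem Frob.card_normX : Nat.card ↥(normX S x) = r * p := by
  let f : Fin r × Fin p → ↥(normX S x) := fun a =>
    ⟨x ^ (a.1 : ℕ) * y ^ (a.2 : ℕ), mul_mem (pow_mem F.x_mem _) (pow_mem F.y_mem _)⟩
  have hinj : Function.Injective f := by
    rintro ⟨i, j⟩ ⟨i', j'⟩ e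
    have e2 : x ^ (i : ℕ) * y ^ (j : ℕ) = x ^ (i' : ℕ) * y ^ (j' : ℕ) := congrArg Subtype.val e
    have h3 : (x ^ (i' : ℕ))⁻¹ * x ^ (i : ℕ) = y ^ (j' : ℕ) * (y ^ (j : ℕ))⁻¹ := by
      rw [eq_mul_inv_iff_mul_eq, mul_assoc, e2, inv_mul_cancel_left]
    have h4 : (x ^ (i' : ℕ))⁻¹ * x ^ (i : ℕ) = 1 := mem_bot.1 (F.zpowers_inf ▸ mem_inf.2
      ⟨mul_mem (inv_mem (pow_mem (mem_zpowers x) _)) (pow_mem (mem_zpowers x) _),
        h3 ▸ mul_mem (pow_mem (mem_zpowers y) _) (inv_mem (pow_mem (mem_zpowers y) _))⟩)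
    rw [h4, eq_comm, mul_inv_eq_one] at h3
    rw [inv_mul_eq_one] at h4
    have hi : i = i' := Fin.ext ((pow_injOn_Iio_orderOf (x := x)) (by rw [Set.mem_Iio, F.closed.xord]; exact i.2)
      (by rw [Set.mem_Iio, F.closed.xord]; exact i'.2) h4.symm)
    have hj : j = j' := Fin.ext ((pow_injOn_Iio_orderOf (x := y)) (by rw [Set.mem_Iio, F.yord]; exact j.2)
      (by rw [Set.mem_Iio, F.yord]; exact j'.2) h3.symm)
    rw [hi, hj]
  have hsurj : Function.Surjective f := by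
    rintro ⟨g, hg⟩
    obtain ⟨i, j, rfl⟩ := F.mem_normX hg
    refine ⟨(⟨i % r, Nat.mod_lt _ F.closed.rprime.pos⟩, ⟨j % p, Nat.mod_lt _ F.hp.pos⟩), Subtype.ext ?_⟩
    show x ^ (i % r) * y ^ (j % p) = x ^ i * y ^ j
    conv_rhs => rw [← pow_mod_orderOf, ← pow_mod_orderOf y, F.closed.xord, F.yord]
  rw [← Nat.card_eq_of_bijective f ⟨hinj, hsurj⟩, Nat.card_prod, Nat.card_fin, Nat.card_fin]

/-- Inside the normaliser a conjugate of `y` in `⟨y⟩` is `y`. -/
theorem Frob.normalizes_y {g : G} (hg : g ∈ normalizer ((S : Subgroup G) : Set G))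
    (hgy : g * y * g⁻¹ ∈ zpowers y) : Commute g y ∧ ∃ s ∈ (S : Subgroup G), ∃ j : ℕ, g = s * y ^ j ∧ Commute s y := by
  obtain ⟨s, hs, i, j, rfl⟩ := F.decomp hg
  set h := x ^ i * y * (x ^ i)⁻¹ with hh
  have he : s * (x ^ i * y ^ j) * y * (s * (x ^ i * y ^ j))⁻¹ = s * h * s⁻¹ := by
    rw [hh]
    calc _ = s * (x ^ i * (y ^ j * y * (y ^ j)⁻¹) * (x ^ i)⁻¹) * s⁻¹ := by group
      _ = _ := by rw [(Commute.pow_self y j).eq, mul_inv_cancel_right]
  rw [he] at hgy
  have hhX : h ∈ normX S x := mul_mem (mul_mem (pow_mem F.x_mem i) F.y_mem) (inv_mem (pow_mem F.x_mem i))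
  have hgX : s * h * s⁻¹ ∈ normX S x := by
    obtain ⟨k, hk⟩ := mem_zpowers_iff.1 hgy
    exact hk ▸ zpow_mem F.y_mem k
  have h1 : s * h * s⁻¹ * h⁻¹ = 1 := F.S_inf_normX (by
    have := mul_mem hs ((mem_normalizer_iff.1 hhX.1 _).1 (inv_mem hs))
    simpa [mul_assoc] using this) (mul_mem hgX (inv_mem hhX))
  rw [mul_inv_eq_one] at h1
  have hhy : h ∈ zpowers y := h1 ▸ hgy
  have h2 : h * y⁻¹ ∈ zpowers x := by
    rw [hh, mul_assoc, mul_assoc]
    refine mul_mem (pow_mem (mem_zpowers x) i) ?_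
    rw [← mul_assoc]
    exact (mem_normalizer_iff.1 F.yX _).1 (inv_mem (pow_mem (mem_zpowers x) i))
  have h3 : h = y := mul_inv_eq_one.1 (mem_bot.1 (F.zpowers_inf ▸ mem_inf.2
    ⟨h2, mul_mem hhy (inv_mem (mem_zpowers y))⟩))
  have hxi : x ^ i = 1 := F.not_commute (pow_mem (mem_zpowers x) i) (mul_inv_eq_iff_eq_mul.1 (hh ▸ h3))
  rw [h3] at h1
  have hsy : Commute s y := mul_inv_eq_iff_eq_mul.1 h1
  refine ⟨?_, s, hs, j, by rw [hxi, one_mul], hsy⟩
  rw [hxi, one_mul]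
  exact hsy.mul_left (Commute.pow_self y j)

/-- `y` fixes no involution of `S` other than `v`. -/
theorem Frob.cent_y_S {s : G} (hs : s ∈ (S : Subgroup G)) (hs1 : s ≠ 1) (hc : Commute s y) : s = v := by
  obtain ⟨g, hg, e⟩ := F.closed.trans v F.vS s hs F.v1 hs1
  obtain ⟨s', hs', i, j, rfl⟩ := F.decomp hg
  have e1 : s = x ^ i * v * (x ^ i)⁻¹ := by
    rw [← e]
    calc s' * (x ^ i * y ^ j) * v * (s' * (x ^ i * y ^ j))⁻¹
        = s' * (x ^ i * (y ^ j * v * (y ^ j)⁻¹) * (x ^ i)⁻¹) * s'⁻¹ := by group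
      _ = s' * (x ^ i * v * (x ^ i)⁻¹) * s'⁻¹ := by rw [(F.comm.symm.pow_left j).eq, mul_inv_cancel_right]
      _ = _ := by
        rw [F.closed.setting.comm hs' ((mem_normalizer_iff.1 (pow_mem F.closed.xN i) v).1 F.vS), mul_inv_cancel_right]
  set z := (x ^ i)⁻¹ * (y * x ^ i * y⁻¹) with hz
  have hzX : z ∈ zpowers x := mul_mem (inv_mem (pow_mem (mem_zpowers x) i))
    ((mem_normalizer_iff.1 F.yX _).1 (pow_mem (mem_zpowers x) i))
  have hzv : Commute z v := by
    have h1 : y * (x ^ i * v * (x ^ i)⁻¹) = (x ^ i * v * (x ^ i)⁻¹) * y := by rw [← e1]; exact hc.symm.eq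
    show z * v = v * z
    calc z * v = (x ^ i)⁻¹ * y * x ^ i * (y⁻¹ * v) := by rw [hz]; group
      _ = (x ^ i)⁻¹ * (y * (x ^ i * v * (x ^ i)⁻¹)) * x ^ i * y⁻¹ := by
          rw [(F.comm.symm.inv_left).eq]; group
      _ = (x ^ i)⁻¹ * ((x ^ i * v * (x ^ i)⁻¹) * y) * x ^ i * y⁻¹ := by rw [h1]
      _ = v * z := by rw [hz]; group
  have hz1 : z = 1 := by
    by_contra hne
    exact F.v1 (F.free hzX hne F.vS hzv)
  rw [hz, inv_mul_eq_one] at hz1
  have hxi : x ^ i = 1 := F.not_commute (pow_mem (mem_zpowers x) i) (by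
    show x ^ i * y = y * x ^ i
    nth_rw 1 [hz1]
    rw [inv_mul_cancel_right])
  rw [e1, hxi, one_mul, inv_one, mul_one]

theorem Frob.cases_S {s : G} (hs : s ∈ (S : Subgroup G)) (hc : Commute s y) : s = 1 ∨ s = v := by
  by_cases h : s = 1
  · exact Or.inl h
  · exact Or.inr (F.cent_y_S hs h hc)

/-- An element of order `p` of the normaliser centralises an involution. -/
theorem Frob.order_p_fixes {d : G} (hd : d ∈ normalizer ((S : Subgroup G) : Set G)) (hdo : orderOf d = p) :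
    ∃ t : G, orderOf t = 2 ∧ Commute t d := by
  obtain ⟨t, ht, ht1, hc⟩ := F.closed.exists_fixed_of_order_m hd hdo
  exact ⟨t, F.closed.setting.order_two ht ht1, hc⟩

/-- Elements of order `r` of the normaliser generate conjugates of `⟨x⟩`. -/
theorem Frob.sylow_r {d : G} (hd : d ∈ normalizer ((S : Subgroup G) : Set G)) (hdo : orderOf d = r) :
    ∃ s ∈ (S : Subgroup G), s * x * s⁻¹ ∈ zpowers d := by
  haveI : Fact r.Prime := ⟨F.closed.rprime⟩
  set N := normalizer ((S : Subgroup G) : Set G) with hN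
  have hnd : ∀ {a : ↥N}, orderOf a = r → ∃ P : Sylow r ↥N, (P : Subgroup ↥N) = zpowers a := by
    intro a ha
    obtain ⟨P, hP⟩ := (IsPGroup.of_card (n := 1) (show Nat.card ↥(zpowers a) = r ^ 1 by
      rw [Nat.card_zpowers, ha, pow_one])).exists_le_sylow
    refine ⟨P, (eq_of_le_of_card_ge hP ?_).symm⟩
    obtain ⟨j, hj⟩ := IsPGroup.iff_card.1 P.isPGroup'
    have hdv : r ^ j ∣ 2 ^ p * (r * p) := hj ▸ F.cardN ▸ card_subgroup_dvd_card _
    rw [hj, Nat.card_zpowers, ha]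
    rcases j with _ | _ | j
    · simpa using F.closed.rprime.one_le
    · simp
    · exfalso
      have h2 : r ∣ 2 ^ p * p := Nat.dvd_of_mul_dvd_mul_right F.closed.rprime.pos
        ((show r * r ∣ r ^ (j + 2) from ⟨r ^ j, by ring⟩).trans (hdv.trans (dvd_of_eq (by ring))))
      rcases F.closed.rprime.dvd_mul.1 h2 with h | h
      · exact F.closed.r_ne_two ((Nat.prime_dvd_prime_iff_eq F.closed.rprime Nat.prime_two).1
          (F.closed.rprime.dvd_of_dvd_pow h))
      · exact F.hrp ((Nat.prime_dvd_prime_iff_eq F.closed.rprime F.hp).1 h)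
  obtain ⟨P, hP⟩ := hnd (a := ⟨d, hd⟩) (by rw [orderOf_mk, hdo])
  obtain ⟨Q, hQ⟩ := hnd (a := ⟨x, F.closed.xN⟩) (by rw [orderOf_mk, F.closed.xord])
  obtain ⟨n, hn⟩ := MulAction.exists_smul_eq ↥N Q P
  have hmem : n * ⟨x, F.closed.xN⟩ * n⁻¹ ∈ zpowers (⟨d, hd⟩ : ↥N) := by
    rw [← hP, ← hn]
    exact ⟨⟨x, F.closed.xN⟩, hQ.ge (mem_zpowers _), rfl⟩
  obtain ⟨k, hk⟩ := mem_zpowers_iff.1 hmem
  have hnx : (n : G) * x * (n : G)⁻¹ ∈ zpowers d := mem_zpowers_iff.2 ⟨k, congrArg Subtype.val hk⟩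
  obtain ⟨s, hs, i, j, hn'⟩ := F.decomp n.2
  refine ⟨s, hs, ?_⟩
  set a := x ^ i * y ^ j with ha
  have haX : a ∈ normX S x := mul_mem (pow_mem F.x_mem i) (pow_mem F.y_mem j)
  obtain ⟨l, hl⟩ := mem_zpowers_iff.1 ((mem_normalizer_iff''.1 haX.2 x).1 (mem_zpowers x))
  have : s * x * s⁻¹ = ((n : G) * x * (n : G)⁻¹) ^ l := by
    rw [conj_zpow, hl, hn']
    group
  exact this ▸ zpow_mem hnx l

/-- Two distinct conjugates of the normaliser share an element of order `r`. -/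
theorem Frob.exists_common {c : G} (hc : c ∉ normalizer ((S : Subgroup G) : Set G)) :
    Nat.card ↥(normalizer ((S : Subgroup G) : Set G) ⊓
      (normalizer ((S : Subgroup G) : Set G)).map (MulAut.conj c).toMonoidHom : Subgroup G) ∣ r * p ∧
    ∃ d, orderOf d = r ∧ d ∈ (normalizer ((S : Subgroup G) : Set G) ⊓
      (normalizer ((S : Subgroup G) : Set G)).map (MulAut.conj c).toMonoidHom : Subgroup G) := by
  set N := normalizer ((S : Subgroup G) : Set G) with hN
  obtain ⟨u, hu, huN, huc⟩ := F.closed.exists_swap_invol hc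
  have uu : u * u = 1 := F.closed.sq_one hu
  have ui : u⁻¹ = u := inv_eq_of_mul_eq_one_right uu
  set D : Subgroup G := N ⊓ N.map (MulAut.conj c).toMonoidHom with hD
  have hDodd : Odd (Nat.card ↥D) := F.closed.se.2.2 c hc
  have memD : ∀ {a : G}, a ∈ N → u⁻¹ * a * u ∈ N → a ∈ D := fun {a} h1 h2 => mem_inf.2 ⟨h1, by
    rw [mem_conj_iff, show c⁻¹ * a * c = (u⁻¹ * c)⁻¹ * (u⁻¹ * a * u) * (u⁻¹ * c) by group]
    exact mul_mem (mul_mem (inv_mem huc) h2) huc⟩
  -- an inverted element of order `r`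
  have hne : (QuotientGroup.mk (1 : G) : G ⧸ N) ≠ QuotientGroup.mk u := fun e => huN (show u ∈ N by
    simpa using QuotientGroup.eq.1 e)
  obtain ⟨s0, hs0, hs01, hs0v⟩ : ∃ s ∈ (S : Subgroup G), s ≠ 1 ∧ s ≠ v := by
    by_contra hcon
    push Not at hcon
    have hle : (S : Subgroup G) ≤ zpowers v := fun a ha => by
      by_cases ha1 : a = 1
      · exact ha1 ▸ one_mem _
      · exact hcon a ha ha1 ▸ mem_zpowers v
    have := card_le_of_le hle
    rw [Nat.card_zpowers, F.closed.setting.order_two F.vS F.v1] at this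
    have := F.closed.setting.card4
    omega
  have hnt : Nontrivial {i : G // orderOf i = 2 ∧ i • (QuotientGroup.mk (1 : G) : G ⧸ N) = QuotientGroup.mk u} := by
    rw [← Finite.one_lt_card_iff_nontrivial, card_swap F.closed.se _ _ hne, Finite.one_lt_card_iff_nontrivial]
    exact ⟨⟨v, F.closed.setting.order_two F.vS F.v1, le_normalizer F.vS⟩,
      ⟨s0, F.closed.setting.order_two hs0 hs01, le_normalizer hs0⟩, fun e => hs0v (congrArg Subtype.val e).symm⟩
  obtain ⟨⟨u', hu', hu'u⟩, hne'⟩ := exists_ne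
    (⟨u, hu, by rw [MulAction.Quotient.smul_mk, smul_eq_mul, mul_one]⟩ :
      {i : G // orderOf i = 2 ∧ i • (QuotientGroup.mk (1 : G) : G ⧸ N) = QuotientGroup.mk u})
  rw [MulAction.Quotient.smul_mk, smul_eq_mul, mul_one, QuotientGroup.eq] at hu'u
  have u'i : u'⁻¹ = u' := inv_eq_of_mul_eq_one_right (F.closed.sq_one hu')
  set d := u'⁻¹ * u with hd
  have hd1 : d ≠ 1 := fun e => hne' (Subtype.ext (inv_mul_eq_one.1 e))
  have hdinv : u * d * u⁻¹ = d⁻¹ := by
    rw [hd, mul_inv_rev, inv_inv, ui, u'i, mul_assoc, mul_assoc, uu, mul_one]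
  have hdD : d ∈ D := memD hu'u (by
    rw [show u⁻¹ * d * u = u * d * u⁻¹ by rw [ui], hdinv]
    exact inv_mem hu'u)
  have hcardD : Nat.card ↥D ∣ r * p := by
    have h1 : Nat.card ↥D ∣ 2 ^ p * (r * p) := F.cardN ▸ card_dvd_of_le inf_le_left
    exact ((Nat.coprime_two_right.2 hDodd).pow_right p).dvd_of_dvd_mul_left h1
  have hdo : orderOf d = r := by
    have hd0 : orderOf d ∣ r * p := (Subgroup.orderOf_dvd_natCard _ hdD).trans hcardD
    rcases F.closed.setting.orders d with e | e | e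
    · exact absurd e hd1
    · rcases e.dvd_mul.1 hd0 with h | h
      · exact (Nat.prime_dvd_prime_iff_eq e F.closed.rprime).1 h
      · exfalso
        have ho := (Nat.prime_dvd_prime_iff_eq e F.hp).1 h
        obtain ⟨t, ht, htc⟩ := F.order_p_fixes hdD.1 ho
        exact F.closed.no_inverter F.hp F.hp2 ho hu hdinv ht htc
    · exfalso
      have : 2 ∣ r * p := (dvd_mul_right 2 p).trans (e ▸ hd0)
      rcases Nat.prime_two.dvd_mul.1 this with h | h
      · exact F.closed.r_ne_two ((Nat.prime_dvd_prime_iff_eq Nat.prime_two F.closed.rprime).1 h).symm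
      · exact F.hp2 ((Nat.prime_dvd_prime_iff_eq Nat.prime_two F.hp).1 h).symm
  exact ⟨hcardD, d, hdo, hdD⟩

/-- Another conjugate of the normaliser fixed by `y` is fixed by `x` or by `v * x * v`. -/
theorem Frob.fixed_cases {c : G} (hc : c ∉ normalizer ((S : Subgroup G) : Set G))
    (hy : c⁻¹ * y * c ∈ normalizer ((S : Subgroup G) : Set G)) :
    c⁻¹ * x * c ∈ normalizer ((S : Subgroup G) : Set G) ∨
      (v * c)⁻¹ * x * (v * c) ∈ normalizer ((S : Subgroup G) : Set G) := by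
  haveI : Fact r.Prime := ⟨F.closed.rprime⟩
  set N := normalizer ((S : Subgroup G) : Set G) with hN
  set D : Subgroup G := N ⊓ N.map (MulAut.conj c).toMonoidHom with hD
  have hyD : y ∈ D := mem_inf.2 ⟨F.yN, by rw [mem_conj_iff]; exact hy⟩
  obtain ⟨hcardD, d, hdo, hdD⟩ := F.exists_common hc
  rw [← hN, ← hD] at hcardD hdD
  -- `y` normalises `⟨d⟩`
  have hZn : D ≤ normalizer ((zpowers d : Subgroup G) : Set G) := by
    set Z := zpowers (⟨d, hdD⟩ : ↥D) with hZ
    have h1 := Subgroup.card_mul_index Z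
    rw [hZ, Nat.card_zpowers, orderOf_mk, hdo] at h1
    have hidx : Z.index ∣ p := (Nat.mul_dvd_mul_iff_left F.closed.rprime.pos).1 (h1 ▸ hcardD)
    haveI : Z.Normal := by
      rcases (Nat.dvd_prime F.hp).1 hidx with e | e
      · rw [index_eq_one.1 e]; infer_instance
      · refine Subgroup.normal_of_index_eq_minFac_card ?_
        rw [e, ← h1, e]
        refine le_antisymm ?_ (Nat.minFac_le_of_dvd F.hp.two_le (dvd_mul_left p r))
        refine (Nat.le_minFac.2 fun q hq hdq => ?_).resolve_left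
          (Nat.one_lt_mul_iff.2 ⟨F.closed.rprime.pos, F.hp.pos, Or.inl F.closed.rprime.one_lt⟩).ne'
        rcases hq.dvd_mul.1 hdq with h | h
        · rw [(Nat.prime_dvd_prime_iff_eq hq F.closed.rprime).1 h]
          by_contra hlt
          have hlt' : r < p := by omega
          have h2 := F.closed.hr
          have key : ∀ n : ℕ, 2 ≤ n → n + 1 < 2 ^ n := by
            intro n hn
            induction n, hn using Nat.le_induction with
            | base => norm_num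
            | succ n hn ih => rw [pow_succ]; omega
          have := key p F.hp.two_le
          omega
        · exact ((Nat.prime_dvd_prime_iff_eq hq F.hp).1 h).ge
    have e := le_normalizer_map (H := Z) D.subtype
    rw [normalizer_eq_top, ← MonoidHom.range_eq_map, range_subtype, hZ, MonoidHom.map_zpowers] at e
    exact e
  obtain ⟨s, hs, hsx⟩ := F.sylow_r hdD.1 hdo
  have hZeq : zpowers d = zpowers (s * x * s⁻¹) := (eq_of_le_of_card_ge (zpowers_le.2 hsx) (by
    rw [Nat.card_zpowers, Nat.card_zpowers, conj_order, F.closed.xord, hdo])).symm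
  have hyN' : s⁻¹ * y * s ∈ normX S x := by
    refine Subgroup.mem_inf.2 ⟨mul_mem (mul_mem (inv_mem (le_normalizer hs)) F.yN) (le_normalizer hs), ?_⟩
    rw [mem_normalizer_iff_map, MonoidHom.map_zpowers]
    have h1 := mem_normalizer_iff_map.1 (hZn hyD)
    rw [hZeq, MonoidHom.map_zpowers] at h1
    change zpowers (y * (s * x * s⁻¹) * y⁻¹) = zpowers (s * x * s⁻¹) at h1
    have h2 := congrArg (Subgroup.map (MulAut.conj s⁻¹).toMonoidHom) h1
    rw [MonoidHom.map_zpowers, MonoidHom.map_zpowers] at h2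
    change zpowers (s⁻¹ * (y * (s * x * s⁻¹) * y⁻¹) * s⁻¹⁻¹) = zpowers (s⁻¹ * (s * x * s⁻¹) * s⁻¹⁻¹) at h2
    change zpowers (s⁻¹ * y * s * x * (s⁻¹ * y * s)⁻¹) = zpowers x
    convert h2 using 2 <;> group
  have h3 : s⁻¹ * y * s * y⁻¹ = 1 := F.S_inf_normX (by
    have := mul_mem (inv_mem hs) ((mem_normalizer_iff.1 F.yN _).1 hs)
    simpa [mul_assoc] using this) (mul_mem hyN' (inv_mem F.y_mem))
  have hsy : Commute s y := by
    rw [mul_inv_eq_one, mul_assoc, inv_mul_eq_iff_eq_mul] at h3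
    exact h3.symm
  have hsxD : c⁻¹ * (s * x * s⁻¹) * c ∈ N :=
    mem_conj_iff.1 ((zpowers_le.2 hdD) hsx).2
  rcases F.cases_S hs hsy with rfl | rfl
  · left; simpa using hsxD
  · right
    rw [mul_inv_rev, F.closed.setting.inv_eq F.vS]
    rw [F.closed.setting.inv_eq F.vS] at hsxD
    simpa [mul_assoc] using hsxD

/-- Conjugates of the normaliser fixed by `x` come from the normaliser of `⟨x⟩`. -/
theorem Frob.fixedX {c : G} (h : c⁻¹ * x * c ∈ normalizer ((S : Subgroup G) : Set G)) :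
    ∃ g ∈ normalizer ((zpowers x : Subgroup G) : Set G), g⁻¹ * c ∈ normalizer ((S : Subgroup G) : Set G) := by
  have ho : orderOf (c⁻¹ * x * c) = r := by
    rw [← F.closed.xord, show c⁻¹ * x * c = c⁻¹ * x * c⁻¹⁻¹ by rw [inv_inv], conj_order]
  obtain ⟨s, hs, hsx⟩ := F.sylow_r h ho
  refine ⟨c * s, ?_, ?_⟩
  · have he : zpowers (s * x * s⁻¹) = zpowers (c⁻¹ * x * c) := eq_of_le_of_card_ge (zpowers_le.2 hsx) (by
      rw [Nat.card_zpowers, Nat.card_zpowers, ho, conj_order, F.closed.xord])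
    rw [mem_normalizer_iff_map, MonoidHom.map_zpowers]
    have h2 := congrArg (Subgroup.map (MulAut.conj c).toMonoidHom) he
    rw [MonoidHom.map_zpowers, MonoidHom.map_zpowers] at h2
    change zpowers (c * (s * x * s⁻¹) * c⁻¹) = zpowers (c * (c⁻¹ * x * c) * c⁻¹) at h2
    change zpowers (c * s * x * (c * s)⁻¹) = zpowers x
    convert h2 using 2 <;> group
  · rw [mul_inv_rev, mul_assoc, inv_mul_cancel, mul_one]
    exact inv_mem (le_normalizer hs)

/-- The elements normalising both `⟨x⟩` and `⟨y⟩`. -/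
def Frob.both (_F : Frob S p r x y v) : Subgroup G :=
  normalizer ((zpowers x : Subgroup G) : Set G) ⊓ normalizer ((zpowers y : Subgroup G) : Set G)

theorem Frob.y_both : y ∈ F.both := ⟨F.yX, le_normalizer (mem_zpowers y)⟩

theorem Frob.both_faithful {g : G} (hg : g ∈ F.both) (hc : Commute g x) : g = 1 := by
  by_contra hg1
  obtain ⟨q, hq, hdq⟩ := Nat.exists_prime_and_dvd (show orderOf g ≠ 1 from fun e => hg1 (orderOf_eq_one_iff.1 e))
  set a := g ^ (orderOf g / q) with ha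
  have hao : orderOf a = q := orderOf_pow_orderOf_div (orderOf_pos g).ne' hdq
  have hax : Commute a x := hc.pow_left _
  have hqr : q = r := by
    by_contra hne
    rcases F.closed.setting.orders.commute_cases hq F.closed.rprime hao F.closed.xord hne hax with ⟨-, e⟩ | ⟨-, e⟩
    · exact F.hrp e
    · exact F.closed.r_ne_two e
  have hab : a ∈ F.both := pow_mem hg _
  have hcy : Commute a y := by
    have h1 : a * y * a⁻¹ * y⁻¹ ∈ zpowers y :=
      mul_mem ((mem_normalizer_iff.1 hab.2 y).1 (mem_zpowers y)) (inv_mem (mem_zpowers y))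
    have h2 : Commute (a * y * a⁻¹ * y⁻¹) x := by
      obtain ⟨k, hk⟩ := mem_zpowers_iff.1 ((mem_normalizer_iff''.1 F.yX x).1 (mem_zpowers x))
      have hak : Commute a (y⁻¹ * x * y) := hk ▸ hax.zpow_right k
      have hak' : Commute a⁻¹ (y⁻¹ * x * y) := hak.inv_left
      show _ * x = x * _
      calc a * y * a⁻¹ * y⁻¹ * x = a * y * (a⁻¹ * (y⁻¹ * x * y)) * y⁻¹ := by group
        _ = a * y * ((y⁻¹ * x * y) * a⁻¹) * y⁻¹ := by rw [hak'.eq]
        _ = (a * x) * y * a⁻¹ * y⁻¹ := by group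
        _ = x * (a * y * a⁻¹ * y⁻¹) := by rw [hax.eq]; group
    by_contra hne
    have hne' : a * y * a⁻¹ * y⁻¹ ≠ 1 := fun e => hne (mul_inv_eq_iff_eq_mul.1 (mul_inv_eq_one.1 e))
    have ho := Subgroup.orderOf_dvd_natCard _ h1
    rw [Nat.card_zpowers, F.yord] at ho
    have ho' : orderOf (a * y * a⁻¹ * y⁻¹) = p :=
      ((Nat.dvd_prime F.hp).1 ho).resolve_left fun e => hne' (orderOf_eq_one_iff.1 e)
    rcases F.closed.setting.orders.commute_cases F.hp F.closed.rprime ho' F.closed.xord (Ne.symm F.hrp) h2 with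
      ⟨e, -⟩ | ⟨-, e⟩
    · exact F.hp2 e
    · exact F.closed.r_ne_two e
  rcases F.closed.setting.orders.commute_cases F.closed.rprime F.hp (hao.trans hqr) F.yord F.hrp hcy with ⟨e, -⟩ | ⟨e, -⟩
  · exact F.closed.r_ne_two e
  · exact F.hrp e

theorem Frob.both_cyclic : IsCyclic ↥F.both := by
  haveI : Fact r.Prime := ⟨F.closed.rprime⟩
  have hXc : Nat.card ↥(zpowers x) = r := by rw [Nat.card_zpowers, F.closed.xord]
  haveI : IsCyclic ↥(zpowers x) := inferInstance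
  let φ : ↥F.both →* MulAut ↥(zpowers x) :=
    (zpowers x).normalizerMonoidHom.comp (inclusion inf_le_left)
  have hφ : Function.Injective φ := by
    refine (injective_iff_map_eq_one φ).2 fun g hg => Subtype.ext (F.both_faithful g.2 ?_)
    have e : (g : G) * x * (g : G)⁻¹ = x := by
      have e0 := congrArg Subtype.val (DFunLike.congr_fun hg (⟨x, mem_zpowers x⟩ : ↥(zpowers x)))
      exact e0
    exact mul_inv_eq_iff_eq_mul.1 e
  haveI : IsCyclic (MulAut ↥(zpowers x)) := by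
    let e := (IsCyclic.mulAutMulEquiv ↥(zpowers x))
    rw [hXc] at e
    exact isCyclic_of_surjective e.symm.toMonoidHom e.symm.surjective
  exact isCyclic_of_injective φ hφ

/-- An element normalising `⟨x⟩` which maps `y` back into the normaliser, moved to normalise `⟨y⟩`. -/
theorem Frob.to_both {g : G} (hgX : g ∈ normalizer ((zpowers x : Subgroup G) : Set G))
    (hgy' : g⁻¹ * y * g ∈ normalizer ((S : Subgroup G) : Set G)) :
    ∃ h ∈ normX S x, g * h⁻¹ ∈ F.both := by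
  haveI : Fact p.Prime := ⟨F.hp⟩
  have hgy : g⁻¹ * y * g ∈ normX S x := Subgroup.mem_inf.2 ⟨hgy', mul_mem (mul_mem (inv_mem hgX) F.yX) hgX⟩
  obtain ⟨h, hhX, hhy⟩ : ∃ h ∈ normX S x, h * (g⁻¹ * y * g) * h⁻¹ ∈ zpowers y := by
    have hcard := F.card_normX
    set H := normX S x with hH
    have hyo : orderOf (⟨g⁻¹ * y * g, hgy⟩ : ↥H) = p := by
      rw [orderOf_mk, show g⁻¹ * y * g = g⁻¹ * y * g⁻¹⁻¹ by rw [inv_inv], conj_order, F.yord]
    obtain ⟨P, hP⟩ := (IsPGroup.of_card (n := 1) (show Nat.card ↥(zpowers (⟨y, F.y_mem⟩ : ↥H)) = p ^ 1 by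
      rw [Nat.card_zpowers, orderOf_mk, F.yord, pow_one])).exists_le_sylow
    obtain ⟨Q, hQ⟩ := (IsPGroup.of_card (n := 1) (show Nat.card ↥(zpowers (⟨_, hgy⟩ : ↥H)) = p ^ 1 by
      rw [Nat.card_zpowers, hyo, pow_one])).exists_le_sylow
    have hPy : (P : Subgroup ↥H) = zpowers (⟨y, F.y_mem⟩ : ↥H) := (eq_of_le_of_card_ge hP (by
      obtain ⟨j, hj⟩ := IsPGroup.iff_card.1 P.isPGroup'
      have hdv : p ^ j ∣ r * p := hj ▸ hcard ▸ card_subgroup_dvd_card _
      rw [hj, Nat.card_zpowers, orderOf_mk, F.yord]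
      rcases j with _ | _ | j
      · simpa using F.hp.one_le
      · simp
      · exact absurd ((Nat.prime_dvd_prime_iff_eq F.hp F.closed.rprime).1 (Nat.dvd_of_mul_dvd_mul_right F.hp.pos
          ((show p * p ∣ p ^ (j + 2) from ⟨p ^ j, by ring⟩).trans hdv))) (Ne.symm F.hrp))).symm
    obtain ⟨h, hh⟩ := MulAction.exists_smul_eq ↥H Q P
    refine ⟨h, h.2, ?_⟩
    have hmem : h * ⟨g⁻¹ * y * g, hgy⟩ * h⁻¹ ∈ zpowers (⟨y, F.y_mem⟩ : ↥H) := by
      rw [← hPy, ← hh]; exact ⟨_, hQ (mem_zpowers _), rfl⟩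
    obtain ⟨k, hk⟩ := mem_zpowers_iff.1 hmem
    exact mem_zpowers_iff.2 ⟨k, congrArg Subtype.val hk⟩
  refine ⟨h, hhX, Subgroup.mem_inf.2
    ⟨mul_mem hgX (inv_mem (show h ∈ normalizer ((zpowers x : Subgroup G) : Set G) from hhX.2)), ?_⟩⟩
  have hmem : (g * h⁻¹)⁻¹ * y * (g * h⁻¹) ∈ zpowers y := by
    rw [show (g * h⁻¹)⁻¹ * y * (g * h⁻¹) = h * (g⁻¹ * y * g) * h⁻¹ by group]
    exact hhy
  refine inv_mem_iff.1 ?_
  rw [mem_normalizer_iff_map, MonoidHom.map_zpowers]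
  exact eq_of_le_of_card_ge (zpowers_le.2
    (show (g * h⁻¹)⁻¹ * y * (g * h⁻¹)⁻¹⁻¹ ∈ zpowers y by rw [inv_inv]; exact hmem)) (by
    show _ ≤ Nat.card ↥(zpowers ((g * h⁻¹)⁻¹ * y * (g * h⁻¹)⁻¹⁻¹))
    rw [Nat.card_zpowers, Nat.card_zpowers, conj_order])

/-- If `y` fixes two conjugates of the normaliser then some involution outside normalises `⟨x⟩` and
centralises `y`. -/
theorem Frob.exists_u (hz : ¬ normalizer ((zpowers y : Subgroup G) : Set G) ≤ normalizer ((S : Subgroup G) : Set G)) :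
    ∃ u : G, orderOf u = 2 ∧ u ∉ normalizer ((S : Subgroup G) : Set G) ∧ u ∈ F.both ∧ Commute u y ∧
      ∀ g ∈ F.both, ∃ j : ℕ, g = y ^ j ∨ g = u * y ^ j := by
  haveI : Fact p.Prime := ⟨F.hp⟩
  set N := normalizer ((S : Subgroup G) : Set G) with hN
  obtain ⟨z, hz, hzN⟩ := SetLike.not_le_iff_exists.1 hz
  have hzy : z⁻¹ * y * z ∈ N := by
    obtain ⟨k, hk⟩ := mem_zpowers_iff.1 ((mem_normalizer_iff''.1 hz y).1 (mem_zpowers y))
    exact hk ▸ zpow_mem F.yN k
  obtain ⟨c, hcN, hcy, hcx⟩ : ∃ c, c ∉ N ∧ c⁻¹ * y * c ∈ N ∧ c⁻¹ * x * c ∈ N := by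
    rcases F.fixed_cases hzN hzy with h | h
    · exact ⟨z, hzN, hzy, h⟩
    · refine ⟨v * z, fun h' => hzN ?_, ?_, h⟩
      · have := mul_mem (inv_mem (le_normalizer F.vS)) h'
        rwa [inv_mul_cancel_left] at this
      · rw [show (v * z)⁻¹ * y * (v * z) = z⁻¹ * (v⁻¹ * (y * v)) * z by group, ← F.comm.eq, inv_mul_cancel_left]
        exact hzy
  obtain ⟨g, hgX, hgc⟩ := F.fixedX hcx
  have hgN : g ∉ N := fun h => hcN (by simpa using mul_mem h hgc)
  have hgy : g⁻¹ * y * g ∈ normX S x := by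
    refine Subgroup.mem_inf.2 ⟨?_, mul_mem (mul_mem (inv_mem hgX) F.yX) hgX⟩
    have : g⁻¹ * y * g = (g⁻¹ * c) * (c⁻¹ * y * c) * (g⁻¹ * c)⁻¹ := by group
    rw [this]
    exact mul_mem (mul_mem hgc hcy) (inv_mem hgc)
  obtain ⟨h, hhX, hb⟩ := F.to_both hgX (Subgroup.mem_inf.1 hgy).1
  set g' := g * h⁻¹ with hg'
  have hg'N : g' ∉ N := fun h' => hgN (by
    have := mul_mem h' (show h ∈ N from hhX.1)
    rwa [inv_mul_cancel_right] at this)
  have hg'b : g' ∈ F.both := hb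
  haveI := F.both_cyclic
  have hcard : Nat.card ↥F.both = 2 * p := by
    obtain ⟨gen, hgen⟩ := IsCyclic.exists_ofOrder_eq_natCard (α := ↥F.both)
    have hpd : p ∣ Nat.card ↥F.both :=
      (dvd_of_eq F.yord.symm).trans (Subgroup.orderOf_dvd_natCard _ F.y_both)
    rw [← hgen, ← Subgroup.orderOf_coe] at hpd ⊢
    rcases F.closed.setting.orders (gen : G) with e | e | e
    · rw [e, orderOf_one] at hpd
      exact absurd (Nat.eq_one_of_dvd_one hpd) F.hp.ne_one
    · exfalso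
      have hpe : p = orderOf (gen : G) := (Nat.prime_dvd_prime_iff_eq F.hp e).1 hpd
      have he : F.both = zpowers y := (eq_of_le_of_card_ge (zpowers_le.2 F.y_both) (by
        rw [Nat.card_zpowers, F.yord, ← hgen, ← Subgroup.orderOf_coe, ← hpe])).symm
      exact hg'N ((zpowers_le.2 F.yN) (he ▸ hg'b))
    · exact e
  haveI : Fact (Nat.Prime 2) := ⟨Nat.prime_two⟩
  obtain ⟨⟨u, hub⟩, hu⟩ := exists_prime_orderOf_dvd_card' (G := ↥F.both) 2 (hcard ▸ dvd_mul_right 2 p)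
  rw [orderOf_mk] at hu
  have huy : Commute u y := by
    letI := IsCyclic.commGroup (α := ↥F.both)
    exact congrArg Subtype.val (mul_comm (⟨u, hub⟩ : ↥F.both) ⟨y, F.y_both⟩)
  have huN : u ∉ N := fun h' => by
    have := F.S_inf_normX (F.closed.mem_S h' hu) ⟨h', hub.1⟩
    rw [this, orderOf_one] at hu
    omega
  refine ⟨u, hu, huN, hub, huy, fun g hg => ?_⟩
  have hle : zpowers y ≤ F.both := zpowers_le.2 F.y_both
  set Y := (zpowers y).subgroupOf F.both with hY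
  have hYi : Y.index = 2 := by
    have h1 := Subgroup.card_mul_index Y
    rw [hY, Nat.card_congr (subgroupOfEquivOfLe hle).toEquiv, Nat.card_zpowers, F.yord, hcard, mul_comm 2 p] at h1
    exact Nat.eq_of_mul_eq_mul_left F.hp.pos h1
  have key := Subgroup.mul_mem_iff_of_index_two hYi (a := (⟨u, hub⟩ : ↥F.both)⁻¹) (b := ⟨g, hg⟩)
  have huY : (⟨u, hub⟩ : ↥F.both)⁻¹ ∉ Y := fun h' => by
    have h2 := mem_subgroupOf.1 h'
    simp only [InvMemClass.coe_inv, inv_mem_iff] at h2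
    exact huN ((zpowers_le.2 F.yN) h2)
  by_cases hgY : (⟨g, hg⟩ : ↥F.both) ∈ Y
  · obtain ⟨j, hj⟩ := Submonoid.mem_powers_iff _ _ |>.1 (mem_powers_iff_mem_zpowers.2 (mem_subgroupOf.1 hgY))
    exact ⟨j, Or.inl hj.symm⟩
  · have h2 := mem_subgroupOf.1 (key.2 (iff_of_false huY hgY))
    obtain ⟨j, hj⟩ := Submonoid.mem_powers_iff _ _ |>.1 (mem_powers_iff_mem_zpowers.2 h2)
    refine ⟨j, Or.inr ?_⟩
    rw [hj]
    simp

end Cfsg.Lib.OneComposite
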