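import Cfsg.Agent.OneComposite.PCase

/-!
Index `r * m` of `C(S)` in its normaliser: `m = p`, `O(C(S)) = 1`, and the normaliser is
`S ⋊ (Z_r ⋊ Z_p)`.
-/

set_option autoImplicit false
set_option linter.unusedSectionVars false
set_option linter.style.haveILetI false

namespace Cfsg.Lib.OneComposite

open Subgroup Cfsg.Lib.CosetCore Cfsg.Lib.StrongEmb

variable {G : Type*} [Group G] [Finite G] {p r m : ℕ} {S : Sylow 2 G} {x : G}

/-- The normaliser of `S` is `S ⋊ (⟨x⟩ ⋊ ⟨y⟩)`, of order `2 ^ p * (r * p)`. -/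
structure Frob (S : Sylow 2 G) (p r : ℕ) (x y v : G) : Prop where
  closed : Closed S p r p x
  hrp : r ≠ p
  cardN : Nat.card ↥(normalizer ((S : Subgroup G) : Set G)) = 2 ^ p * (r * p)
  yN : y ∈ normalizer ((S : Subgroup G) : Set G)
  yord : orderOf y = p
  yX : y ∈ normalizer ((zpowers x : Subgroup G) : Set G)
  vS : v ∈ (S : Subgroup G)
  v1 : v ≠ 1
  comm : Commute v y

theorem two_pow_sub_one_mod {m : ℕ} (hm : m.Prime) : ¬ m ∣ 2 ^ m - 1 := by
  haveI : Fact m.Prime := ⟨hm⟩
  intro hd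
  rw [← ZMod.natCast_eq_zero_iff, Nat.cast_sub Nat.one_le_two_pow, Nat.cast_pow, ZMod.pow_card] at hd
  norm_num at hd

theorem Closed.exists_fixed_of_order_m (hd : Closed S p r m x) {z : G}
    (hz : z ∈ normalizer ((S : Subgroup G) : Set G)) (hzo : orderOf z = m) :
    ∃ v ∈ (S : Subgroup G), v ≠ 1 ∧ Commute v z := by
  haveI : Fact m.Prime := ⟨hd.mprime⟩
  have hzn : zpowers z ≤ normalizer ((S : Subgroup G) : Set G) := zpowers_le.2 hz
  letI : MulAction ↥(zpowers z) ↥(S : Subgroup G) :=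
    MulAction.compHom ↥(S : Subgroup G) ((S : Subgroup G).normalizerMonoidHom.comp (inclusion hzn))
  have hpg : IsPGroup m ↥(zpowers z) := IsPGroup.of_card (n := 1) (by rw [Nat.card_zpowers, hzo, pow_one])
  have hmod := hpg.card_modEq_card_fixedPoints ↥(S : Subgroup G)
  rw [hd.card_S] at hmod
  by_contra hcon
  push Not at hcon
  have h1 : Nat.card ↑(MulAction.fixedPoints ↥(zpowers z) ↥(S : Subgroup G)) = 1 := by
    rw [Nat.card_eq_one_iff_unique]
    refine ⟨⟨fun a b => Subtype.ext ?_⟩, ⟨⟨1, MulAction.mem_fixedPoints.2 fun w => map_one ((S : Subgroup G).normalizerMonoidHom (inclusion hzn w))⟩⟩⟩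
    have key : ∀ a : ↑(MulAction.fixedPoints ↥(zpowers z) ↥(S : Subgroup G)), (a : ↥(S : Subgroup G)) = 1 := by
      rintro ⟨a, ha⟩
      have e : z * (a : G) * z⁻¹ = a := congrArg Subtype.val (MulAction.mem_fixedPoints.1 ha ⟨z, mem_zpowers z⟩)
      by_contra ha1
      exact hcon a a.2 (fun e' => ha1 (Subtype.ext e')) (show Commute (a : G) z from (mul_inv_eq_iff_eq_mul.1 e).symm)
    rw [key a, key b]
  rw [h1] at hmod
  exact two_pow_sub_one_mod hd.mprime ((Nat.modEq_iff_dvd' Nat.one_le_two_pow).1 hmod.symm)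

theorem Closed.exists_frob (hd : Closed S p r m x)
    (hN : Nat.card ↥(normalizer ((S : Subgroup G) : Set G)) =
      Nat.card ↥(centralizer ((S : Subgroup G) : Set G)) * (r * m)) : ∃ y v, Frob S p r x y v := by
  classical
  haveI : Fact (Nat.Prime 2) := ⟨Nat.prime_two⟩
  haveI : Fact p.Prime := ⟨hd.setting.hp⟩
  set N := normalizer ((S : Subgroup G) : Set G) with hNdef
  set C := centralizer ((S : Subgroup G) : Set G) with hCdef
  have hm2 : m ≠ 2 := by
    rintro rfl
    refine (S.subtype (show (S : Subgroup G) ≤ N from le_normalizer)).not_dvd_index ?_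
    have h1 := Subgroup.card_mul_index ((S : Subgroup G).subgroupOf N)
    rw [Nat.card_congr (subgroupOfEquivOfLe (le_normalizer (H := (S : Subgroup G)))).toEquiv, hN, hd.card_centS,
      hd.card_S] at h1
    have h2 : ((S : Subgroup G).subgroupOf N).index = Nat.card ↥(fixedPart S) * (r * 2) :=
      Nat.eq_of_mul_eq_mul_left (by norm_num : 0 < 2 ^ 2) (by rw [h1]; ring)
    exact h2 ▸ (dvd_mul_left 2 r).mul_left _
  have hmp : m = p := by
    haveI : Fact m.Prime := ⟨hd.mprime⟩
    obtain ⟨⟨z, hz⟩, hzo⟩ := exists_prime_orderOf_dvd_card' (G := ↥N) m (hN ▸ (dvd_mul_left m r).mul_left _)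
    rw [orderOf_mk] at hzo
    obtain ⟨v, hv, hv1, hc⟩ := hd.exists_fixed_of_order_m hz hzo
    rcases hd.setting.orders.commute_cases Nat.prime_two hd.mprime (hd.setting.order_two hv hv1) hzo (Ne.symm hm2) hc
      with ⟨-, e⟩ | ⟨e, -⟩
    · exact e
    · exact absurd e.symm hd.setting.hp2
  subst hmp
  -- `m = p` and `p < r`
  have hpr : m < r := by
    have h1 := hd.hr
    have key : ∀ n : ℕ, 2 ≤ n → n + 1 < 2 ^ n := by
      intro n hn
      induction n, hn using Nat.le_induction with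
      | base => norm_num
      | succ n hn ih => rw [pow_succ]; omega
    have := key m hd.mprime.two_le
    omega
  have hrm : r ≠ m := hpr.ne'
  haveI : Fact r.Prime := ⟨hd.rprime⟩
  -- the quotient modulo the centraliser of `S`
  set C' := C.subgroupOf N with hC'
  have hCN : C' = (S : Subgroup G).normalizerMonoidHom.ker := (Subgroup.normalizerMonoidHom_ker _).symm
  haveI : C'.Normal := hCN ▸ MonoidHom.normal_ker _
  set π := QuotientGroup.mk' C' with hπ
  have hQ : Nat.card (↥N ⧸ C') = r * m := by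
    rw [← Subgroup.index_eq_card]
    have h1 := Subgroup.card_mul_index C'
    rw [hC', Nat.card_congr (subgroupOfEquivOfLe (centralizer_le_normalizer _)).toEquiv, hN] at h1
    exact Nat.eq_of_mul_eq_mul_left Nat.card_pos h1
  set xN : ↥N := ⟨x, hd.xN⟩ with hxN
  have hπx : orderOf (π xN) = r := by
    refine orderOf_eq_prime ?_ fun e => hd.x_notC ?_
    · rw [← map_pow, show xN ^ r = 1 from Subtype.ext (by simp [xN, ← hd.xord, pow_orderOf_eq_one]), map_one]
    · exact mem_subgroupOf.1 ((QuotientGroup.eq_one_iff _).1 e)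
  set Z := zpowers (π xN) with hZ
  have hZi : Z.index = m := by
    have h1 := Subgroup.card_mul_index Z
    rw [hQ, hZ, Nat.card_zpowers, hπx] at h1
    exact Nat.eq_of_mul_eq_mul_left hd.rprime.pos h1
  haveI hZn : Z.Normal := Subgroup.normal_of_index_eq_minFac_card (by
    rw [hZi, hQ]
    refine le_antisymm ?_ (Nat.minFac_le_of_dvd hd.mprime.two_le (dvd_mul_left m r))
    refine (Nat.le_minFac.2 fun q hq hdq => ?_).resolve_left
      (Nat.one_lt_mul_iff.2 ⟨hd.rprime.pos, hd.mprime.pos, Or.inl hd.rprime.one_lt⟩).ne'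
    rcases hq.dvd_mul.1 hdq with h | h
    · rw [(Nat.prime_dvd_prime_iff_eq hq hd.rprime).1 h]; exact hpr.le
    · exact ((Nat.prime_dvd_prime_iff_eq hq hd.mprime).1 h).ge)
  set K := Z.comap π with hK
  haveI : K.Normal := hZn.comap π
  have hKi : K.index = m := by rw [hK, Subgroup.index_comap_of_surjective _ (QuotientGroup.mk'_surjective C'), hZi]
  -- a Sylow subgroup
  have hxK : xN ∈ K := mem_zpowers _
  have hcardK : Nat.card ↥K = 2 ^ m * Nat.card ↥(fixedPart S) * r := by
    have h1 := Subgroup.card_mul_index K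
    rw [hKi, hN, hd.card_centS, ← mul_assoc] at h1
    exact Nat.eq_of_mul_eq_mul_right hd.mprime.pos h1
  have hnr : ¬ r ∣ 2 ^ m * Nat.card ↥(fixedPart S) := by
    intro hdv
    rcases hd.rprime.dvd_mul.1 hdv with h | h
    · exact hd.r_ne_two ((Nat.prime_dvd_prime_iff_eq hd.rprime Nat.prime_two).1 (hd.rprime.dvd_of_dvd_pow h))
    · obtain ⟨j, hj⟩ := IsPGroup.iff_card.1 hd.setting.inv_fixedPart.1
      rw [hj] at h
      exact hrm ((Nat.prime_dvd_prime_iff_eq hd.rprime hd.mprime).1 (hd.rprime.dvd_of_dvd_pow h))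
  set xK : ↥K := ⟨xN, hxK⟩ with hxK'
  have hxKo : orderOf xK = r := by rw [hxK', orderOf_mk, hxN, orderOf_mk, hd.xord]
  obtain ⟨P, hP⟩ := (IsPGroup.of_card (n := 1) (show Nat.card ↥(zpowers xK) = r ^ 1 by
    rw [Nat.card_zpowers, hxKo, pow_one])).exists_le_sylow
  have hPX : (P : Subgroup ↥K) = zpowers xK := by
    refine (eq_of_le_of_card_ge hP ?_).symm
    obtain ⟨j, hj⟩ := IsPGroup.iff_card.1 P.isPGroup'
    have hdv : r ^ j ∣ 2 ^ m * Nat.card ↥(fixedPart S) * r := hj ▸ hcardK ▸ card_subgroup_dvd_card _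
    rw [hj, Nat.card_zpowers, hxKo]
    rcases j with _ | _ | j
    · simpa using hd.rprime.one_le
    · simp
    · exact absurd (Nat.dvd_of_mul_dvd_mul_right hd.rprime.pos
        ((show r * r ∣ r ^ (j + 2) from ⟨r ^ j, by ring⟩).trans hdv)) hnr
  have hFr := Sylow.normalizer_sup_eq_top P
  rw [hPX, MonoidHom.map_zpowers] at hFr
  obtain ⟨⟨z, hzN⟩, hzX, hzK⟩ : ∃ z : ↥N, z ∈ normalizer ((zpowers xN : Subgroup ↥N) : Set ↥N) ∧ z ∉ K := by
    by_contra hcon
    push Not at hcon
    have h1 : K = ⊤ := top_le_iff.1 (hFr.ge.trans (sup_le (fun z hz => hcon z hz) le_rfl))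
    have h2 := hKi
    rw [h1, Subgroup.index_top] at h2
    exact hd.mprime.ne_one h2.symm
  have hzK' : ∀ k : ℕ, ¬ m ∣ k → (⟨z, hzN⟩ : ↥N) ^ k ∉ K := by
    intro k hk hmem
    have h1 := Subgroup.pow_index_mem K ⟨z, hzN⟩
    rw [hKi] at h1
    refine hzK ?_
    have hg : Nat.gcd k m = 1 := (hd.mprime.coprime_iff_not_dvd.2 hk).symm
    rw [← pow_one (⟨z, hzN⟩ : ↥N), ← hg, ← zpow_natCast, Nat.gcd_eq_gcd_ab, zpow_add, zpow_mul, zpow_mul,
      zpow_natCast, zpow_natCast]
    exact mul_mem (K.zpow_mem hmem _) (K.zpow_mem h1 _)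
  obtain ⟨y, hyN, hyo, hyX, hyK⟩ : ∃ y, ∃ hy : y ∈ N, orderOf y = m ∧
      y ∈ normalizer ((zpowers x : Subgroup G) : Set G) ∧ (⟨y, hy⟩ : ↥N) ∉ K := by
    have hzX' : z ∈ normalizer ((zpowers x : Subgroup G) : Set G) := by
      rw [mem_normalizer_iff_map, MonoidHom.map_zpowers]
      have h1 := congrArg (Subgroup.map N.subtype) (mem_normalizer_iff_map.1 hzX)
      rw [MonoidHom.map_zpowers, MonoidHom.map_zpowers, MonoidHom.map_zpowers] at h1
      exact h1
    have hmz : m ∣ orderOf z := by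
      by_contra hmz
      exact hzK' _ hmz (by
        rw [show (⟨z, hzN⟩ : ↥N) ^ orderOf z = 1 from Subtype.ext (by simp [pow_orderOf_eq_one])]
        exact one_mem K)
    rcases hd.setting.orders z with e | e | e
    · rw [e, orderOf_one] at hmz
      exact absurd (Nat.eq_one_of_dvd_one hmz) hd.mprime.ne_one
    · exact ⟨z, hzN, ((Nat.prime_dvd_prime_iff_eq hd.mprime e).1 hmz).symm, hzX', hzK⟩
    · refine ⟨z ^ 2, pow_mem hzN 2, ?_, pow_mem hzX' 2, hzK' 2 fun h => hm2 ((Nat.prime_dvd_prime_iff_eq hd.mprime Nat.prime_two).1 h)⟩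
      rw [orderOf_pow' _ two_ne_zero, e, Nat.gcd_mul_right_left, Nat.mul_div_cancel_left m two_pos]
  obtain ⟨v, hv, hv1, hvy⟩ := hd.exists_fixed_of_order_m hyN hyo
  -- `O(C(S))` is trivial
  have hW : fixedPart S = ⊥ := by
    by_contra hW
    obtain ⟨w, hw, hw1⟩ := (fixedPart S).bot_or_exists_ne_one.resolve_left hW
    have hWn : N ≤ normalizer (fixedPart S : Set G) :=
      fun g hg => normalizer_le_coreIn _ (Cfsg.Lib.Thompson.normalizer_le_normalizer_centralizer _ hg)
    have hXW := centralizes_of_norm (A := zpowers x) hd.setting.inv_fixedPart.1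
      (by rw [Nat.card_zpowers, hd.xord]; exact fun h => hrm ((Nat.prime_dvd_prime_iff_eq hd.mprime hd.rprime).1 h).symm)
      ((zpowers_le.2 hd.xN).trans hWn) hd.mprime hyo hyX (hWn hyN)
      (fun a ha hc => by
        by_contra ha1
        have hao : orderOf a = r := by
          have h1 : orderOf a ∣ r := by
            have h0 := Subgroup.orderOf_dvd_natCard _ ha
            rwa [Nat.card_zpowers, hd.xord] at h0
          exact ((Nat.dvd_prime hd.rprime).1 h1).resolve_left fun e => ha1 (orderOf_eq_one_iff.1 e)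
        rcases hd.setting.orders.commute_cases hd.rprime hd.mprime hao hyo hrm hc with ⟨e, -⟩ | ⟨e, -⟩
        · exact hd.r_ne_two e
        · exact hrm e)
      (hd.setting.orders.norm_hyp hd.setting.hp hd.setting.hp2 hd.setting.inv_fixedPart.1 hd.mprime hm2 hyo (hWn hyN))
    have hc : Commute w x := mem_centralizer_iff.1 (hXW (mem_zpowers x)) w hw
    have hwp : orderOf w = m := orderOf_eq_prime
      (hd.setting.orders.pow_of_pgroup hd.setting.hp hd.setting.hp2 hd.setting.hp hd.setting.inv_fixedPart.1 hw) hw1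
    rcases hd.setting.orders.commute_cases hd.mprime hd.rprime hwp hd.xord (Ne.symm hrm) hc with ⟨e, -⟩ | ⟨-, e⟩
    · exact hm2 e
    · exact hd.r_ne_two e
  refine ⟨y, v, hd, hrm, ?_, hyN, hyo, hyX, hv, hv1, hvy⟩
  rw [hN, hd.card_centS, hW, card_bot, mul_one]

end Cfsg.Lib.OneComposite
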