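import Cfsg.Agent.Coprime.Sylow
import Cfsg.Agent.PGroups.Basic

/-!
A fixed-point-free automorphism of prime order of a subgroup `A`, acting on a coprime `p`-group `Q` with `A`,
all of whose products with elements of `Q` have the same order: then `A` centralises `Q`.
-/

set_option autoImplicit false
set_option linter.unusedSectionVars false

namespace Cfsg.Lib.OneComposite

open Subgroup

variable {G : Type*} [Group G]

section Image

variable (Q : Subgroup G)

open scoped Classical in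
/-- The image of `g * w * g⁻¹` in the abelianisation. -/
noncomputable def img (g : G) (w : ↥Q) : Abelianization ↥Q :=
  if h : g * w * g⁻¹ ∈ Q then Abelianization.of ⟨g * w * g⁻¹, h⟩ else 1

variable {Q}

theorem conj_mem' {g : G} (hg : g ∈ normalizer (Q : Set G)) (w : ↥Q) : g * (w : G) * g⁻¹ ∈ Q :=
  (mem_normalizer_iff.1 hg w).1 w.2

theorem img_eq {g : G} (hg : g ∈ normalizer (Q : Set G)) (w : ↥Q) :
    img Q g w = Abelianization.of ⟨g * w * g⁻¹, conj_mem' hg w⟩ := by
  rw [img, dif_pos (conj_mem' hg w)]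

theorem img_one (w : ↥Q) : img Q 1 w = Abelianization.of w := by
  rw [img_eq (one_mem _)]
  simp

theorem img_comp {g h : G} (hg : g ∈ normalizer (Q : Set G)) (hh : h ∈ normalizer (Q : Set G)) (w : ↥Q) :
    img Q g ⟨h * w * h⁻¹, conj_mem' hh w⟩ = img Q (g * h) w := by
  rw [img_eq hg, img_eq (mul_mem hg hh)]
  congr 1
  ext
  simp [mul_assoc]

theorem prod_img {x : G} (hx : x ∈ normalizer (Q : Set G)) (w : ↥Q) (n : ℕ) :
    ∃ h : (w * x : G) ^ n * (x ^ n)⁻¹ ∈ Q,
      Abelianization.of (⟨_, h⟩ : ↥Q) = ∏ i ∈ Finset.range n, img Q (x ^ i) w := by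
  induction n with
  | zero =>
    refine ⟨by simp, ?_⟩
    rw [Finset.prod_range_zero]
    convert map_one (Abelianization.of (G := ↥Q))
    simp
  | succ n ih =>
    obtain ⟨h, hh⟩ := ih
    have e : ((w : G) * x) ^ (n + 1) * (x ^ (n + 1))⁻¹
        = ((w : G) * x) ^ n * (x ^ n)⁻¹ * (x ^ n * w * (x ^ n)⁻¹) := by
      rw [pow_succ, pow_succ]
      group
    have h' := Q.mul_mem h (conj_mem' (pow_mem hx n) w)
    refine ⟨e ▸ h', ?_⟩
    rw [Finset.prod_range_succ, ← hh, img_eq (pow_mem hx n), ← map_mul]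
    exact congrArg _ (Subtype.ext e)

end Image

open Finset in
/-- **The norm lemma.** -/
theorem centralizes_of_norm [Finite G] {p : ℕ} [Fact p.Prime] {A Q : Subgroup G} (hQ : IsPGroup p ↥Q)
    (hA : ¬ p ∣ Nat.card ↥A) (hAQ : A ≤ normalizer (Q : Set G)) {x : G} {r : ℕ} (hr : r.Prime)
    (hxr : orderOf x = r) (hxA : x ∈ normalizer (A : Set G)) (hxQ : x ∈ normalizer (Q : Set G))
    (hfpf : ∀ a ∈ A, Commute a x → a = 1) (hn : ∀ w ∈ Q, (w * x) ^ r = 1) :
    A ≤ centralizer (Q : Set G) := by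
  classical
  haveI : Fintype ↥A := Fintype.ofFinite _
  have hN : ∀ a : ↥A, (a : G) ∈ normalizer (Q : Set G) := fun a => hAQ a.2
  -- norms vanish, also for the conjugates of `x`
  have h1 : ∀ (a : ↥A) (w : ↥Q), ∏ i ∈ range r, img Q ((a : G) * x ^ i * (a : G)⁻¹) w = 1 := by
    intro a w
    have hxa : (a : G) * x * (a : G)⁻¹ ∈ normalizer (Q : Set G) := mul_mem (mul_mem (hN a) hxQ) (inv_mem (hN a))
    obtain ⟨h, hh⟩ := prod_img hxa w r
    simp only [conj_pow] at hh h
    rw [← hh]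
    convert map_one (Abelianization.of (G := ↥Q))
    have e : (w : G) * ((a : G) * x * (a : G)⁻¹) = a * (((a : G)⁻¹ * w * a) * x) * (a : G)⁻¹ := by group
    have hwa : (a : G)⁻¹ * w * a ∈ Q := by simpa using conj_mem' (inv_mem (hN a)) w
    simp [e, conj_pow, hn _ hwa, show x ^ r = 1 from hxr ▸ pow_orderOf_eq_one x]
  -- the sum over `A`
  let F : ↥Q → Abelianization ↥Q := fun w => ∏ a : ↥A, img Q (a : G) w
  have hshift : ∀ (i : ℕ), i ∈ range r → i ≠ 0 → ∀ w : ↥Q,
      (∏ a : ↥A, img Q ((a : G) * x ^ i * (a : G)⁻¹) w) = F ⟨x ^ i * w * (x ^ i)⁻¹, conj_mem' (pow_mem hxQ i) w⟩ := by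
    intro i hi hi0 w
    have hxi : x ^ i ∈ normalizer (A : Set G) := pow_mem hxA i
    let σ : ↥A → ↥A := fun a =>
      ⟨(a : G) * (x ^ i * (a : G)⁻¹ * (x ^ i)⁻¹), A.mul_mem a.2 ((mem_normalizer_iff.1 hxi _).1 (A.inv_mem a.2))⟩
    have hinj : Function.Injective σ := by
      intro a b hab
      have e := congrArg Subtype.val hab
      change (a : G) * (x ^ i * (a : G)⁻¹ * (x ^ i)⁻¹) = (b : G) * (x ^ i * (b : G)⁻¹ * (x ^ i)⁻¹) at e
      have hc : Commute ((b : G)⁻¹ * a) (x ^ i) := by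
        have e2 := congrArg (fun z => (b : G)⁻¹ * z * x ^ i * (a : G)) e
        simp only [mul_assoc, inv_mul_cancel_left, inv_mul_cancel, mul_one] at e2 ⊢
        show _ = _
        simpa [mul_assoc] using e2
      have hcx : Commute ((b : G)⁻¹ * a) x := by
        have hco : i.Coprime (orderOf x) := by
          rw [hxr, Nat.coprime_comm, hr.coprime_iff_not_dvd]
          exact fun hd => absurd (Nat.le_of_dvd (Nat.pos_of_ne_zero hi0) hd) (not_le.2 (mem_range.1 hi))
        obtain ⟨m, hm⟩ := exists_pow_eq_self_of_coprime hco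
        exact hm ▸ hc.pow_right m
      exact Subtype.ext (inv_mul_eq_one.1 (hfpf _ (A.mul_mem (A.inv_mem b.2) a.2) hcx)).symm
    show _ = ∏ b : ↥A, img Q (b : G) _
    rw [← (Finite.injective_iff_bijective.1 hinj).prod_comp (fun b : ↥A =>
      img Q (b : G) ⟨x ^ i * w * (x ^ i)⁻¹, conj_mem' (pow_mem hxQ i) w⟩)]
    refine Finset.prod_congr rfl fun a _ => ?_
    rw [img_comp (hN _) (pow_mem hxQ i)]
    congr 1
    show (a : G) * x ^ i * (a : G)⁻¹ = (a : G) * (x ^ i * (a : G)⁻¹ * (x ^ i)⁻¹) * x ^ i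
    group
  have h2 : ∀ w : ↥Q, Abelianization.of w ^ Nat.card ↥A = F w := by
    intro w
    have hr0 : 0 ∈ range r := mem_range.2 hr.pos
    have hs0 : (∏ a : ↥A, img Q ((a : G) * x ^ 0 * (a : G)⁻¹) w) = Abelianization.of w ^ Nat.card ↥A := by
      simp [img_one, Finset.prod_const, Nat.card_eq_fintype_card]
    -- all terms
    have hall : ∏ i ∈ range r, (∏ a : ↥A, img Q ((a : G) * x ^ i * (a : G)⁻¹) w) = 1 := by
      rw [Finset.prod_comm]
      exact Finset.prod_eq_one fun a _ => h1 a w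
    have hF : ∏ i ∈ range r, F ⟨x ^ i * w * (x ^ i)⁻¹, conj_mem' (pow_mem hxQ i) w⟩ = 1 := by
      show ∏ i ∈ range r, ∏ a : ↥A, img Q (a : G) ⟨x ^ i * w * (x ^ i)⁻¹, _⟩ = 1
      rw [Finset.prod_comm]
      refine Finset.prod_eq_one fun a _ => ?_
      -- conjugate the norm by `a`
      have h1' := h1 a ⟨(a : G) * w * (a : G)⁻¹, conj_mem' (hN a) w⟩
      rw [← h1']
      refine Finset.prod_congr rfl fun i _ => ?_
      rw [img_comp (hN a) (pow_mem hxQ i), img_comp (mul_mem (mul_mem (hN a) (pow_mem hxQ i)) (inv_mem (hN a))) (hN a)]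
      congr 1
      group
    rw [← Finset.mul_prod_erase _ _ hr0] at hall hF
    rw [Finset.prod_congr rfl (fun i hi => hshift i (mem_of_mem_erase hi) (ne_of_mem_erase hi) w), hs0] at hall
    have hF0 : F ⟨x ^ 0 * w * (x ^ 0)⁻¹, conj_mem' (pow_mem hxQ 0) w⟩ = F w :=
      congrArg F (Subtype.ext (by simp))
    rw [hF0] at hF
    exact mul_right_cancel (hall.trans hF.symm)
  -- `A` centralises the abelianisation
  have hcop : (Nat.card ↥A).Coprime (Nat.card (Abelianization ↥Q)) := by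
    obtain ⟨k, hk⟩ := IsPGroup.iff_card.1 (hQ.to_quotient (commutator ↥Q))
    have hk' : Nat.card (Abelianization ↥Q) = p ^ k := hk
    rw [hk']
    exact (Nat.Coprime.pow_left k ((Fact.out : p.Prime).coprime_iff_not_dvd.2 hA)).symm
  have h3 : ∀ (b : ↥A) (w : ↥Q), img Q (b : G) w = Abelianization.of w := by
    intro b w
    apply (powCoprime (G := Abelianization ↥Q) hcop.symm).injective
    show img Q (b : G) w ^ Nat.card ↥A = Abelianization.of w ^ Nat.card ↥A
    rw [h2, img_eq (hN b), h2]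
    refine Eq.trans ?_ (Equiv.prod_comp (Equiv.mulRight b) fun a : ↥A => img Q (a : G) w)
    exact Finset.prod_congr rfl fun a _ => by
      rw [img_comp (hN a) (hN b)]
      simp
  have hsol : Group.IsSolvable ↥(frattini ↥Q) := by
    haveI : Group.IsNilpotent ↥Q := hQ.isNilpotent
    infer_instance
  refine Cfsg.Lib.Coprime.le_centralizer_of_frattini hAQ ?_ fun a ha k hk => ?_
  · obtain ⟨j, hj⟩ := IsPGroup.iff_card.1 (hQ.to_subgroup (frattini ↥Q))
    rw [hj]
    exact (Nat.Coprime.pow_left j ((Fact.out : p.Prime).coprime_iff_not_dvd.2 hA)).symm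
  · have h := h3 ⟨a, ha⟩ ⟨k, hk⟩
    rw [img_eq (hN ⟨a, ha⟩), ← mul_inv_eq_one, ← map_inv, ← map_mul] at h
    exact ⟨_, Cfsg.Lib.PGroups.commutator_le_frattini hQ ((QuotientGroup.eq_one_iff _).1 h), rfl⟩

end Cfsg.Lib.OneComposite
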