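import Cfsg.Agent.OneComposite.Basic
import Cfsg.Agent.OneComposite.NormTrick
import Cfsg.Agent.S1324
import Cfsg.Agent.Thompson.PComplement
import Cfsg.Agent.InvolCalc.StronglyEmbedded

/-!
Groups of the given element orders with an elementary abelian Sylow 2-subgroup `S`: the maximal `S`-invariant
`p`-subgroups.
-/

set_option autoImplicit false
set_option linter.unusedSectionVars false
set_option linter.style.haveILetI false

namespace Cfsg.Lib.OneComposite

open Subgroup Cfsg.Lib.CosetCore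

variable {G : Type*} [Group G] [Finite G] {p : ℕ}

/-- The standing data. -/
structure Setting (S : Sylow 2 G) (p : ℕ) : Prop where
  hp : p.Prime
  hp2 : p ≠ 2
  orders : Orders G p
  card4 : 4 ≤ Nat.card ↥(S : Subgroup G)

/-- A `p`-subgroup normalised by `S`. -/
def Inv (S : Sylow 2 G) (p : ℕ) (U : Subgroup G) : Prop :=
  IsPGroup p ↥U ∧ (S : Subgroup G) ≤ normalizer (U : Set G)

/-- The norm hypothesis holds automatically. -/
theorem Orders.norm_hyp (h : Orders G p) (hp : p.Prime) (hp2 : p ≠ 2) {Q : Subgroup G} (hQ : IsPGroup p ↥Q) {x : G}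
    {r : ℕ} (hr : r.Prime) (hr2 : r ≠ 2) (hxr : orderOf x = r) (hxQ : x ∈ normalizer (Q : Set G)) :
    ∀ w ∈ Q, (w * x) ^ r = 1 := by
  haveI : Fact p.Prime := ⟨hp⟩
  intro w hw
  obtain ⟨hm, -⟩ := prod_img hxQ (⟨w, hw⟩ : ↥Q) r
  have hx1 : x ^ r = 1 := hxr ▸ pow_orderOf_eq_one x
  rw [hx1, inv_one, mul_one] at hm
  obtain ⟨k, hk⟩ := hQ ⟨_, hm⟩
  have hgd : orderOf (w * x) ∣ r * p ^ k := orderOf_dvd_of_pow_eq_one (by
    rw [pow_mul]
    exact congrArg Subtype.val hk)
  rcases h (w * x) with h1 | h1 | h1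
  · rw [h1, one_pow]
  · rcases h1.dvd_mul.1 hgd with h2 | h2
    · rw [← (Nat.prime_dvd_prime_iff_eq h1 hr).1 h2, pow_orderOf_eq_one]
    · have e := (Nat.prime_dvd_prime_iff_eq h1 hp).1 (h1.dvd_of_dvd_pow h2)
      by_cases hrp : r = p
      · rw [hrp, ← e, pow_orderOf_eq_one]
      · exfalso
        have hgp : (w * x) ^ p = 1 := e ▸ pow_orderOf_eq_one (w * x)
        have hmem : w * x ∈ Q := by
          obtain ⟨m, hm'⟩ := exists_pow_eq_self_of_coprime (n := r) (x := w * x)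
            (by rw [e]; exact (Nat.coprime_primes hr hp).2 hrp)
          exact hm' ▸ pow_mem hm m
        have hxm : x ∈ Q := by simpa using Q.mul_mem (Q.inv_mem hw) hmem
        obtain ⟨j, hj⟩ := hQ ⟨x, hxm⟩
        have hd : r ∣ p ^ j := hxr ▸ orderOf_dvd_of_pow_eq_one (congrArg Subtype.val hj)
        exact hrp ((Nat.prime_dvd_prime_iff_eq hr hp).1 (hr.dvd_of_dvd_pow hd))
  · exfalso
    have h2 : 2 ∣ r * p ^ k := (h1 ▸ dvd_mul_right 2 p : 2 ∣ orderOf (w * x)).trans hgd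
    rcases Nat.prime_two.dvd_mul.1 h2 with h3 | h3
    · exact hr2 ((Nat.prime_dvd_prime_iff_eq Nat.prime_two hr).1 h3).symm
    · exact hp2 ((Nat.prime_dvd_prime_iff_eq Nat.prime_two hp).1 (Nat.prime_two.dvd_of_dvd_pow h3)).symm

variable {S : Sylow 2 G} (h : Setting S p)
include h

theorem Setting.sq {x : G} (hx : x ∈ (S : Subgroup G)) : x * x = 1 := by
  rw [← pow_two]
  exact h.orders.pow_of_pgroup h.hp h.hp2 Nat.prime_two S.isPGroup' hx

theorem Setting.inv_eq {x : G} (hx : x ∈ (S : Subgroup G)) : x⁻¹ = x := inv_eq_of_mul_eq_one_right (h.sq hx)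

theorem Setting.comm {a b : G} (ha : a ∈ (S : Subgroup G)) (hb : b ∈ (S : Subgroup G)) : a * b = b * a := by
  have := h.inv_eq (mul_mem ha hb)
  rwa [mul_inv_rev, h.inv_eq ha, h.inv_eq hb, eq_comm] at this

theorem Setting.isComm : IsMulCommutative (S : Subgroup G) :=
  ⟨⟨fun a b => Subtype.ext (h.comm a.2 b.2)⟩⟩

theorem Setting.elem_ab : Cfsg.IsElementaryAbelian 2 (S : Subgroup G) := by
  refine ⟨h.isComm, fun x hx => ?_⟩
  rw [pow_two]; exact h.sq hx

theorem Setting.order_two {v : G} (hv : v ∈ (S : Subgroup G)) (hv1 : v ≠ 1) : orderOf v = 2 :=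
  orderOf_eq_prime (by rw [pow_two]; exact h.sq hv) hv1

theorem Setting.le_cent {v : G} (hv : v ∈ (S : Subgroup G)) : (S : Subgroup G) ≤ centralizer ({v} : Set G) :=
  fun _ ha => mem_centralizer_singleton_iff.2 (h.comm ha hv)

theorem Setting.solvable_cent {v : G} (hv : v ∈ (S : Subgroup G)) (hv1 : v ≠ 1) :
    Group.IsSolvable ↥(centralizer ({v} : Set G)) :=
  h.orders.solvable_of_central (Or.inl (h.order_two hv hv1)) h.hp h.hp2
    fun _ hx => (mem_centralizer_singleton_iff.1 hx).symm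

/-- An odd subgroup normalised by `S` is a `p`-group. -/
theorem Setting.pgroup_of_odd {K : Subgroup G} (hSK : (S : Subgroup G) ≤ normalizer (K : Set G))
    (hodd : Odd (Nat.card ↥K)) : IsPGroup p ↥K := by
  haveI : Fact (Nat.Prime 2) := ⟨Nat.prime_two⟩
  haveI : Fact p.Prime := ⟨h.hp⟩
  obtain ⟨k, hk⟩ := IsPGroup.iff_card.1 S.isPGroup'
  have hcop : (Nat.card ↥(S : Subgroup G)).Coprime (Nat.card ↥K) :=
    hk ▸ (Nat.coprime_two_left.2 hodd).pow_left k
  have hsol : Group.IsSolvable ↥(S : Subgroup G) ∨ Group.IsSolvable ↥K := by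
    haveI : Group.IsNilpotent ↥(S : Subgroup G) := S.isPGroup'.isNilpotent
    exact Or.inl inferInstance
  obtain ⟨j, hj⟩ : ∃ j, Nat.card ↥K = p ^ j := by
    refine ⟨_, Nat.eq_prime_pow_of_unique_prime_dvd (Nat.card_pos (α := ↥K)).ne' fun {q} hq hd => ?_⟩
    haveI : Fact q.Prime := ⟨hq⟩
    have hq2 : q ≠ 2 := fun e => hodd.not_two_dvd_nat (e ▸ hd)
    obtain ⟨P, hP⟩ := Cfsg.Lib.Coprime.exists_invariant_sylow hSK hcop hsol q
    set X := (P : Subgroup ↥K).map K.subtype with hX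
    have hXq : IsPGroup q ↥X := P.isPGroup'.map _
    have hX2 : ¬ 2 ∣ Nat.card ↥X := fun h2 => hodd.not_two_dvd_nat (h2.trans (card_dvd_of_le (map_subtype_le _)))
    have hXne : X ≠ ⊥ := by
      rw [hX, Ne, map_eq_bot_iff_of_injective _ K.subtype_injective]
      exact P.ne_bot_of_dvd_card hd
    have hgen := Cfsg.Agent.S1324.result 2 (S : Subgroup G) X h.elem_ab h.card4 hX2 hP
    by_contra hqp
    refine hXne (hgen.trans (eq_bot_iff.2 (iSup_le ?_)))
    rintro ⟨B, hBS, hBi⟩ z ⟨hzX, hzB⟩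
    by_contra hz1
    rw [mem_bot] at hz1
    obtain ⟨a, haB, ha1⟩ : ∃ a ∈ B, a ≠ 1 := by
      refine (B.bot_or_exists_ne_one).resolve_left fun hb => ?_
      rw [hb, relIndex_bot_left] at hBi
      have := h.card4
      omega
    obtain ⟨n, hn⟩ := hXq ⟨z, hzX⟩
    have hzq : orderOf z = q := orderOf_eq_prime (h.orders.pow_prime h.hp h.hp2 hq
      (orderOf_dvd_of_pow_eq_one (congrArg Subtype.val hn))) hz1
    rcases h.orders.commute_cases Nat.prime_two hq (h.order_two (hBS haB) ha1) hzq (Ne.symm hq2)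
      (mem_centralizer_iff.1 hzB a haB) with ⟨-, e⟩ | ⟨e, -⟩
    · exact hqp e
    · exact h.hp2 e.symm
  exact IsPGroup.of_card hj

theorem Setting.inv_coreIn {H : Subgroup G} (hSH : (S : Subgroup G) ≤ normalizer (H : Set G)) :
    Inv S p (coreIn H) :=
  ⟨h.pgroup_of_odd (hSH.trans (normalizer_le_coreIn H)) (odd_coreIn H), hSH.trans (normalizer_le_coreIn H)⟩

theorem Setting.inv_cor {v : G} (hv : v ∈ (S : Subgroup G)) : Inv S p (cor v) :=
  h.inv_coreIn ((h.le_cent hv).trans le_normalizer)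

theorem Setting.le_cor {v : G} (hv : v ∈ (S : Subgroup G)) (hv1 : v ≠ 1) {U : Subgroup G} (hU : Inv S p U)
    (hUv : U ≤ centralizer ({v} : Set G)) : U ≤ cor v := by
  haveI : Fact p.Prime := ⟨h.hp⟩
  exact le_coreIn_of_invariant S h.isComm h.hp2 (h.solvable_cent hv hv1) (h.le_cent hv) hUv hU.1 hU.2

theorem Setting.inv_inf {U : Subgroup G} (hU : Inv S p U) {N : Subgroup G}
    (hN : (S : Subgroup G) ≤ normalizer (N : Set G)) : Inv S p (U ⊓ N) :=
  ⟨hU.1.to_le inf_le_left, fun _ ha => Cfsg.Lib.Coprime.le_normalizer_inf hU.2 hN ha⟩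

theorem Setting.inv_sup {Q R : Subgroup G} (hQ : Inv S p Q) (hR : Inv S p R)
    (hRQ : R ≤ normalizer (Q : Set G)) : Inv S p (Q ⊔ R) := by
  refine ⟨IsPGroup.to_sup_of_normal_left' hQ.1 hR.1 hRQ, fun a ha => ?_⟩
  rw [mem_normalizer_iff_map]
  rw [Subgroup.map_sup, mem_normalizer_iff_map.1 (hQ.2 ha), mem_normalizer_iff_map.1 (hR.2 ha)]

/-- Outside a proper invariant subgroup some element is centralised by a hyperplane of `S`. -/
theorem Setting.exists_fixed_outside {L Q : Subgroup G} (hL : Inv S p L) (hLQ : ¬ L ≤ Q) :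
    ∃ B ≤ (S : Subgroup G), B.relIndex (S : Subgroup G) ≤ 2 ∧ ∃ z ∈ L, z ∉ Q ∧ z ∈ centralizer (B : Set G) := by
  haveI : Fact (Nat.Prime 2) := ⟨Nat.prime_two⟩
  haveI : Fact p.Prime := ⟨h.hp⟩
  have h2 : ¬ 2 ∣ Nat.card ↥L := by
    obtain ⟨k, hk⟩ := IsPGroup.iff_card.1 hL.1
    rw [hk]
    exact fun hd => h.hp2 ((Nat.prime_dvd_prime_iff_eq Nat.prime_two h.hp).1 (Nat.prime_two.dvd_of_dvd_pow hd)).symm
  have hgen := Cfsg.Agent.S1324.result 2 (S : Subgroup G) L h.elem_ab h.card4 h2 hL.2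
  by_contra hcon
  push Not at hcon
  refine hLQ (hgen.le.trans (iSup_le ?_))
  rintro ⟨B, hBS, hBi⟩ z ⟨hzL, hzB⟩
  by_contra hzQ
  exact hcon B hBS hBi z hzL hzQ hzB

/-- A three-element normalising `S` and a `p`-subgroup: `S` centralises the subgroup. -/
theorem Setting.centralizes_of_three (h4 : Nat.card ↥(S : Subgroup G) = 4) {Q : Subgroup G} (hQ : Inv S p Q)
    {g : G} (hgQ : g ∈ normalizer (Q : Set G)) (hgS : g ∈ normalizer ((S : Subgroup G) : Set G))
    (hgc : g ∉ centralizer ((S : Subgroup G) : Set G)) :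
    (S : Subgroup G) ≤ centralizer (Q : Set G) := by
  haveI : Fact (Nat.Prime 2) := ⟨Nat.prime_two⟩
  haveI : Fact p.Prime := ⟨h.hp⟩
  obtain ⟨x, s, hs, hs2, hxs, hxQ, hxS, hxc⟩ : ∃ (x : G) (s : ℕ), s.Prime ∧ s ≠ 2 ∧ orderOf x = s ∧
      x ∈ normalizer (Q : Set G) ∧ x ∈ normalizer ((S : Subgroup G) : Set G) ∧
      x ∉ centralizer ((S : Subgroup G) : Set G) := by
    have hin : ∀ z ∈ normalizer ((S : Subgroup G) : Set G), orderOf z = 2 →
        z ∈ centralizer ((S : Subgroup G) : Set G) := by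
      intro z hz ho
      have hle : zpowers z ≤ normalizer ((S : Subgroup G) : Set G) := zpowers_le.2 hz
      have hp' : IsPGroup 2 ↥(zpowers z) := IsPGroup.of_card (n := 1) (by rw [Nat.card_zpowers, ho, pow_one])
      have hS := S.is_maximal' (IsPGroup.to_sup_of_normal_left' S.isPGroup' hp' hle) le_sup_left
      have hzS : z ∈ (S : Subgroup G) := hS.le (mem_sup_right (mem_zpowers z))
      exact mem_centralizer_iff.2 fun a ha => h.comm ha hzS
    rcases h.orders g with e | e | e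
    · exact absurd (e ▸ one_mem _) hgc
    · exact ⟨g, orderOf g, e, fun e2 => hgc (hin g hgS e2), rfl, hgQ, hgS, hgc⟩
    · refine ⟨g ^ 2, p, h.hp, h.hp2, ?_, pow_mem hgQ 2, pow_mem hgS 2, fun hc => hgc ?_⟩
      · rw [orderOf_pow' g two_ne_zero, e, Nat.gcd_mul_right_left, Nat.mul_div_cancel_left p two_pos]
      · have hp' : g ^ p ∈ centralizer ((S : Subgroup G) : Set G) := hin _ (pow_mem hgS p) (by
          rw [orderOf_pow' g h.hp.ne_zero, e, Nat.gcd_mul_left_left, Nat.mul_div_cancel _ h.hp.pos])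
        obtain ⟨j, hj⟩ := h.hp.odd_of_ne_two h.hp2
        have hg : g = g ^ p * ((g ^ 2) ^ j)⁻¹ := by
          rw [← pow_mul, eq_mul_inv_iff_mul_eq, ← pow_succ', hj]
        rw [hg]
        exact mul_mem hp' (inv_mem (pow_mem hc j))
  obtain ⟨v, hvS, hv⟩ : ∃ v ∈ (S : Subgroup G), v * x ≠ x * v := by
    by_contra hcon
    push Not at hcon
    exact hxc (mem_centralizer_iff.2 hcon)
  have hfix : ∀ a : G, ∀ k : ℕ, k.Coprime s → Commute (x ^ k) a → Commute x a := by
    intro a k hk hc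
    obtain ⟨m, hm⟩ := exists_pow_eq_self_of_coprime (n := k) (x := x) (hxs.symm ▸ hk)
    exact hm ▸ hc.pow_left m
  have hcop : ∀ k, k ≠ 0 → k < s → k.Coprime s := fun k h0 hk =>
    ((hs.coprime_iff_not_dvd).2 fun hd => absurd (Nat.le_of_dvd (Nat.pos_of_ne_zero h0) hd) (not_le.2 hk)).symm
  classical
  haveI : Fintype ↥(S : Subgroup G) := Fintype.ofFinite _
  -- the orbit of `v`
  let o : Fin s → {u : ↥(S : Subgroup G) // u ≠ 1} := fun i =>
    ⟨⟨x ^ (i : ℕ) * v * (x ^ (i : ℕ))⁻¹, (mem_normalizer_iff.1 (pow_mem hxS i) v).1 hvS⟩, fun e => by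
      have e' := congrArg Subtype.val e
      simp only [OneMemClass.coe_one, conj_eq_one_iff] at e'
      exact hv (by rw [e', one_mul, mul_one])⟩
  have ho : Function.Injective o := by
    intro i j hij
    have e : x ^ (i : ℕ) * v * (x ^ (i : ℕ))⁻¹ = x ^ (j : ℕ) * v * (x ^ (j : ℕ))⁻¹ :=
      congrArg (fun u : {u : ↥(S : Subgroup G) // u ≠ 1} => ((u : ↥(S : Subgroup G)) : G)) hij
    by_contra hne
    refine hv ?_
    rcases lt_or_gt_of_ne (fun e => hne (Fin.ext e)) with hlt | hlt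
    · obtain ⟨d, hd⟩ := Nat.exists_eq_add_of_lt hlt
      refine (hfix v (d + 1) (hcop _ (by omega) (by omega)) ?_).eq.symm
      rw [hd, add_assoc, pow_add] at e
      have e2 := congrArg (fun z => (x ^ (i : ℕ))⁻¹ * z * x ^ (i : ℕ) * x ^ (d + 1)) e
      show _ = _
      simpa [mul_assoc] using e2.symm
    · obtain ⟨d, hd⟩ := Nat.exists_eq_add_of_lt hlt
      refine (hfix v (d + 1) (hcop _ (by omega) (by omega)) ?_).eq.symm
      rw [hd, add_assoc, pow_add] at e
      have e2 := congrArg (fun z => (x ^ (j : ℕ))⁻¹ * z * x ^ (j : ℕ) * x ^ (d + 1)) e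
      show _ = _
      simpa [mul_assoc] using e2
  have hs3 : s = 3 := by
    have h1 := Fintype.card_le_of_injective o ho
    rw [Fintype.card_fin, Fintype.card_subtype_compl, ← Nat.card_eq_fintype_card, h4, Fintype.card_subtype_eq] at h1
    have := hs.two_le
    omega
  refine centralizes_of_norm hQ.1 ?_ hQ.2 hs hxs hxS hxQ ?_ (h.orders.norm_hyp h.hp h.hp2 hQ.1 hs hs2 hxs hxQ)
  · rw [h4, show (4 : ℕ) = 2 ^ 2 by norm_num]
    exact fun hd => h.hp2 ((Nat.prime_dvd_prime_iff_eq h.hp Nat.prime_two).1 (h.hp.dvd_of_dvd_pow hd))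
  -- fixed points
  intro a ha hax
  by_contra ha1
  have hbox : ∀ u ∈ (S : Subgroup G), u = 1 ∨ u = a ∨ u = v ∨ u = a * v := by
    intro u hu
    by_contra hcon
    push Not at hcon
    have hav : a ≠ v := fun e => hv (e ▸ hax.eq)
    have hv1 : v ≠ 1 := fun e => hv (by rw [e, one_mul, mul_one])
    have havn : a * v ≠ 1 := fun e => hav (by
      rw [eq_inv_of_mul_eq_one_left e, h.inv_eq hvS])
    let e5 : Fin 5 → ↥(S : Subgroup G) :=
      ![1, ⟨a, ha⟩, ⟨v, hvS⟩, ⟨a * v, mul_mem ha hvS⟩, ⟨u, hu⟩]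
    have hinj : Function.Injective e5 := by
      intro i j hij
      have := congrArg Subtype.val hij
      obtain ⟨n1, n2, n3, n4⟩ := hcon
      fin_cases i <;> fin_cases j <;> simp_all [e5, Subtype.ext_iff, eq_comm]
    have := Fintype.card_le_of_injective e5 hinj
    rw [Fintype.card_fin, ← Nat.card_eq_fintype_card, h4] at this
    omega
  have hstep : x * v * x⁻¹ = a * v := by
    rcases hbox _ ((mem_normalizer_iff.1 hxS v).1 hvS) with e | e | e | e
    · exact absurd (conj_eq_one_iff.1 e) fun e' => hv (by rw [e', one_mul, mul_one])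
    · refine absurd ?_ (fun e' : v = a => hv (e' ▸ hax.eq))
      have : x * a * x⁻¹ = a := mul_inv_eq_iff_eq_mul.2 hax.symm.eq
      exact mul_left_cancel (mul_right_cancel (e.trans this.symm))
    · exact absurd (mul_inv_eq_iff_eq_mul.1 e).symm hv
    · exact e
  refine hv (hfix v 2 ((Nat.coprime_primes Nat.prime_two hs).2 (Ne.symm hs2)) ?_).eq.symm
  have e2 : x ^ 2 * v * (x ^ 2)⁻¹ = v := by
    have hxa : x * a * x⁻¹ = a := mul_inv_eq_iff_eq_mul.2 hax.symm.eq
    calc x ^ 2 * v * (x ^ 2)⁻¹ = x * (x * v * x⁻¹) * x⁻¹ := by rw [pow_two]; group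
      _ = x * (a * v) * x⁻¹ := by rw [hstep]
      _ = (x * a * x⁻¹) * (x * v * x⁻¹) := by group
      _ = a * (a * v) := by rw [hxa, hstep]
      _ = v := by rw [← mul_assoc, h.sq ha, one_mul]
  exact mul_inv_eq_iff_eq_mul.1 e2

/-- Two invariant `p`-subgroups which meet nontrivially, or any two if `S` has rank at least three, lie in a
common one. -/
theorem Setting.exists_join {Q1 Q2 : Subgroup G} (h1 : Maximal (Inv S p) Q1) (h2 : Maximal (Inv S p) Q2)
    (hyp : 8 ≤ Nat.card ↥(S : Subgroup G) ∨ Q1 ⊓ Q2 ≠ ⊥) : Q1 = Q2 := by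
  haveI : Fact (Nat.Prime 2) := ⟨Nat.prime_two⟩
  haveI : Fact p.Prime := ⟨h.hp⟩
  set good : Subgroup G × Subgroup G → Prop := fun P => Maximal (Inv S p) P.1 ∧ Maximal (Inv S p) P.2 ∧
    (8 ≤ Nat.card ↥(S : Subgroup G) ∨ P.1 ⊓ P.2 ≠ ⊥) ∧ P.1 ≠ P.2 with hgood
  by_contra hne
  obtain ⟨⟨A, B⟩, hAB, hmax⟩ := (Set.toFinite {P | good P}).exists_maximalFor
    (fun P : Subgroup G × Subgroup G => Nat.card ↥(P.1 ⊓ P.2 : Subgroup G)) _ ⟨(Q1, Q2), h1, h2, hyp, hne⟩
  obtain ⟨hA, hB, hhyp, hne'⟩ := hAB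
  dsimp only at hA hB hhyp hne'
  set Q := A ⊓ B with hQdef
  set N := normalizer (Q : Set G) with hN
  have hQ : Inv S p Q := h.inv_inf hA.1 hB.1.2
  have hSN : (S : Subgroup G) ≤ N := hQ.2
  have grow : ∀ {C : Subgroup G}, Maximal (Inv S p) C → ¬ C ≤ Q → Q ≤ C → ¬ (C ⊓ N ≤ Q) := by
    intro C hC hCQ hQC hle
    haveI : Group.IsNilpotent ↥C := hC.1.1.isNilpotent
    have hnc : normalizer ((Q.subgroupOf C : Subgroup ↥C) : Set ↥C) ≤ Q.subgroupOf C := by
      intro c hc
      refine mem_subgroupOf.2 (hle ⟨c.2, mem_normalizer_iff.2 fun y => ?_⟩)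
      refine ⟨fun hy => mem_subgroupOf.1 ((mem_normalizer_iff.1 hc ⟨y, hQC hy⟩).1 (mem_subgroupOf.2 hy)), fun hy => ?_⟩
      have hyC : y ∈ C := by
        have := C.mul_mem (C.mul_mem (C.inv_mem c.2) (hQC hy)) c.2
        simpa [mul_assoc] using this
      exact mem_subgroupOf.1 ((mem_normalizer_iff.1 hc ⟨y, hyC⟩).2 (mem_subgroupOf.2 hy))
    have hlt : Q.subgroupOf C < ⊤ := lt_top_iff_ne_top.2 fun e => hCQ (subgroupOf_eq_top.1 e)
    exact absurd ((Group.normalizerCondition_of_isNilpotent (G := ↥C)) _ hlt) (not_lt_of_ge hnc)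
  have hAQ : ¬ A ≤ Q := fun hle => hne' (hA.eq_of_le hB.1 (hle.trans inf_le_right))
  have hBQ : ¬ B ≤ Q := fun hle => hne' (hB.eq_of_le hA.1 (hle.trans inf_le_left)).symm
  have hLA : ¬ A ⊓ N ≤ Q := grow hA hAQ inf_le_left
  have hLB : ¬ B ⊓ N ≤ Q := grow hB hBQ inf_le_right
  -- it suffices to find an invariant subgroup above `Q` meeting both outside `Q`
  suffices hR : ∃ R, Inv S p R ∧ Q ≤ R ∧ (∃ z ∈ A ⊓ R, z ∉ Q) ∧ ∃ z ∈ B ⊓ R, z ∉ Q by
    obtain ⟨R, hRi, hQR, ⟨a, haR, haQ⟩, b, hbR, hbQ⟩ := hR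
    obtain ⟨C, hRC, hC⟩ := (Set.toFinite {U | Inv S p U}).exists_le_maximal hRi
    have key : ∀ {D : Subgroup G}, Maximal (Inv S p) D → Q ≤ D → (∃ z ∈ D ⊓ R, z ∉ Q) → C = D := by
      rintro D hD hQD ⟨z, hz, hzQ⟩
      by_contra hCD
      have hlt : Q < C ⊓ D :=
        lt_of_le_of_ne (le_inf (hQR.trans hRC) hQD) fun e => hzQ (e ▸ ⟨hRC hz.2, hz.1⟩)
      have hg : good (C, D) := ⟨hC, hD, hhyp.imp_right fun hQne e => hQne (le_bot_iff.1 (e ▸ hlt.le)), hCD⟩
      have hle : Nat.card ↥(C ⊓ D : Subgroup G) ≤ Nat.card ↥Q :=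
        hmax hg (card_le_of_le hlt.le)
      exact hlt.ne (eq_of_le_of_card_ge hlt.le hle)
    exact hne' ((key hA inf_le_left ⟨a, haR, haQ⟩).symm.trans (key hB inf_le_right ⟨b, hbR, hbQ⟩))
  by_cases h8 : 8 ≤ Nat.card ↥(S : Subgroup G)
  · -- rank at least three
    have hLAi : Inv S p (A ⊓ N) := h.inv_inf hA.1 (hSN.trans le_normalizer)
    have hLBi : Inv S p (B ⊓ N) := h.inv_inf hB.1 (hSN.trans le_normalizer)
    obtain ⟨B1, hB1, hi1, a, haL, haQ, haB⟩ := h.exists_fixed_outside hLAi hLA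
    obtain ⟨B2, hB2, hi2, b, hbL, hbQ, hbB⟩ := h.exists_fixed_outside hLBi hLB
    obtain ⟨v, hv, hv1⟩ : ∃ v ∈ B1 ⊓ B2, v ≠ 1 := by
      refine ((B1 ⊓ B2).bot_or_exists_ne_one).resolve_left fun e => ?_
      have hi := (relIndex_inf_le (H := B1) (K := B2) (L := (S : Subgroup G))).trans (Nat.mul_le_mul hi1 hi2)
      rw [e, relIndex_bot_left] at hi
      omega
    have hvS : v ∈ (S : Subgroup G) := hB1 hv.1
    refine ⟨Q ⊔ (cor v ⊓ N), h.inv_sup hQ (h.inv_inf (h.inv_cor hvS) (hSN.trans le_normalizer)) inf_le_right,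
      le_sup_left, ⟨a, ⟨haL.1, mem_sup_right ⟨?_, haL.2⟩⟩, haQ⟩, b, ⟨hbL.1, mem_sup_right ⟨?_, hbL.2⟩⟩, hbQ⟩
    · have hU := h.inv_inf hLAi ((h.le_cent hvS).trans le_normalizer)
      exact h.le_cor hvS hv1 hU inf_le_right ⟨haL, mem_centralizer_singleton_iff.2
        (mem_centralizer_iff.1 haB v hv.1).symm⟩
    · have hU := h.inv_inf hLBi ((h.le_cent hvS).trans le_normalizer)
      exact h.le_cor hvS hv1 hU inf_le_right ⟨hbL, mem_centralizer_singleton_iff.2
        (mem_centralizer_iff.1 hbB v hv.2).symm⟩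
  · -- rank two
    have hQne : Q ≠ ⊥ := hhyp.resolve_left h8
    obtain ⟨k, hk⟩ := IsPGroup.iff_card.1 S.isPGroup'
    have h4 : Nat.card ↥(S : Subgroup G) = 4 := by
      have := h.card4
      rw [hk] at this h8 ⊢
      rcases k with _ | _ | _ | k
      · norm_num at this
      · norm_num at this
      · norm_num
      · exact absurd (le_trans (by norm_num) (Nat.pow_le_pow_right (by norm_num) (show 3 ≤ k + 3 by omega))) h8
    obtain ⟨R, hRi, hQR, hAR, hBR⟩ : ∃ R, Inv S p R ∧ Q ≤ R ∧ A ⊓ N ≤ R ∧ B ⊓ N ≤ R := by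
      set T := S.subtype hSN with hT
      by_cases hNC : ∀ g ∈ N, g ∈ normalizer ((S : Subgroup G) : Set G) → g ∈ centralizer ((S : Subgroup G) : Set G)
      · -- a normal complement
        have hP : normalizer ((T : Subgroup ↥N) : Set ↥N) ≤ centralizer ((T : Subgroup ↥N) : Set ↥N) := by
          intro g hg
          have hgS : (g : G) ∈ normalizer ((S : Subgroup G) : Set G) := by
            refine mem_normalizer_iff.2 fun y => ⟨fun hy => ?_, fun hy => ?_⟩
            · exact mem_subgroupOf.1 ((mem_normalizer_iff.1 hg ⟨y, hSN hy⟩).1 (mem_subgroupOf.2 hy))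
            · have hyN : y ∈ N := by
                have := N.mul_mem (N.mul_mem (N.inv_mem g.2) (hSN hy)) g.2
                simpa [mul_assoc] using this
              exact mem_subgroupOf.1 ((mem_normalizer_iff.1 hg ⟨y, hyN⟩).2 (mem_subgroupOf.2 hy))
          exact mem_centralizer_iff.2 fun y hy =>
            Subtype.ext (mem_centralizer_iff.1 (hNC g g.2 hgS) (y : G) (mem_subgroupOf.1 hy))
        set K := (MonoidHom.transferSylow T hP).ker with hK
        have hKo : Odd (Nat.card ↥(K.map N.subtype)) := by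
          rw [card_map_of_injective N.subtype_injective, ← Nat.not_even_iff_odd, even_iff_two_dvd]
          exact MonoidHom.not_dvd_card_ker_transferSylow T hP
        have hKN : N ≤ normalizer (K.map N.subtype : Set G) := by
          have e := le_normalizer_map (H := K) N.subtype
          rwa [normalizer_eq_top, ← MonoidHom.range_eq_map, range_subtype] at e
        have hLK : ∀ {L : Subgroup G}, IsPGroup p ↥L → L ≤ N → L ≤ K.map N.subtype := by
          intro L hL hLN l hl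
          refine ⟨⟨l, hLN hl⟩, ?_, rfl⟩
          rw [SetLike.mem_coe, hK, MonoidHom.mem_ker]
          set y := MonoidHom.transferSylow T hP ⟨l, hLN hl⟩ with hy
          have h1 : orderOf y ∣ orderOf l := (orderOf_map_dvd _ _).trans (dvd_of_eq (orderOf_mk l (hLN hl)))
          obtain ⟨j, hj⟩ := hL ⟨l, hl⟩
          have h2 : orderOf y ∣ p ^ j := h1.trans (orderOf_dvd_of_pow_eq_one (congrArg Subtype.val hj))
          obtain ⟨i, hi⟩ := IsPGroup.iff_orderOf.1 T.isPGroup' y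
          exact orderOf_eq_one_iff.1 (Nat.eq_one_of_dvd_coprimes
            (Nat.Coprime.pow i j ((Nat.coprime_primes Nat.prime_two h.hp).2 (Ne.symm h.hp2))) (dvd_of_eq hi) h2)
        exact ⟨_, ⟨h.pgroup_of_odd (hSN.trans hKN) hKo, hSN.trans hKN⟩, hLK hQ.1 le_normalizer,
          hLK (hA.1.1.to_le inf_le_left) inf_le_right, hLK (hB.1.1.to_le inf_le_left) inf_le_right⟩
      · -- `S` centralises `Q`
        push Not at hNC
        obtain ⟨g, hgN, hgS, hgc⟩ := hNC
        have hSC := h.centralizes_of_three h4 hQ hgN hgS hgc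
        obtain ⟨z, hzQ, hz1⟩ := Q.bot_or_exists_ne_one.resolve_left hQne
        obtain ⟨j, hj⟩ := hQ.1 ⟨z, hzQ⟩
        have hzp : orderOf z = p := orderOf_eq_prime (h.orders.pow_prime h.hp h.hp2 h.hp
          (orderOf_dvd_of_pow_eq_one (congrArg Subtype.val hj))) hz1
        set C := centralizer (Q : Set G) with hC
        haveI hCsol : Group.IsSolvable ↥C :=
          h.orders.solvable_of_central (Or.inr hzp) h.hp h.hp2 fun x hx => mem_centralizer_iff.1 hx z hzQ
        have hNC' : N ≤ normalizer (C : Set G) := Cfsg.Lib.Thompson.normalizer_le_normalizer_centralizer Q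
        obtain ⟨w, hwS, hw1⟩ := ((S : Subgroup G).bot_or_exists_ne_one).resolve_left fun e => by
          rw [e, card_bot] at h4; omega
        set P0 := coreIn (centralizer ((S : Subgroup G) : Set G)) with hP0
        have hSCS : (S : Subgroup G) ≤ centralizer ((S : Subgroup G) : Set G) := fun a ha =>
          mem_centralizer_iff.2 fun b hb => h.comm hb ha
        have hCSsol : Group.IsSolvable ↥(centralizer ((S : Subgroup G) : Set G)) :=
          h.orders.solvable_of_central (Or.inl (h.order_two hwS hw1)) h.hp h.hp2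
            fun x hx => mem_centralizer_iff.1 hx w hwS
        set R1 := coreIn C with hR1
        have hR1i : Inv S p R1 := h.inv_coreIn (hSC.trans le_normalizer)
        have hR2i : Inv S p (P0 ⊓ N) :=
          h.inv_inf (h.inv_coreIn (hSCS.trans le_normalizer)) (hSN.trans le_normalizer)
        have hRi : Inv S p (R1 ⊔ (P0 ⊓ N)) :=
          h.inv_sup hR1i hR2i (inf_le_right.trans (hNC'.trans (normalizer_le_coreIn C)))
        have hLR : ∀ {L : Subgroup G}, Inv S p L → L ≤ N → L ≤ R1 ⊔ (P0 ⊓ N) := by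
          intro L hL hLN
          obtain ⟨i, hi⟩ := IsPGroup.iff_card.1 hL.1
          have hcop : (Nat.card ↥(S : Subgroup G)).Coprime (Nat.card ↥L) := by
            rw [hk, hi]
            exact Nat.Coprime.pow _ _ ((Nat.coprime_primes Nat.prime_two h.hp).2 (Ne.symm h.hp2))
          have hsolS : Group.IsSolvable ↥(S : Subgroup G) := by
            haveI : Group.IsNilpotent ↥(S : Subgroup G) := S.isPGroup'.isNilpotent
            infer_instance
          rw [← Cfsg.Lib.Coprime.commutator_sup_centralizer hL.2 hcop (Or.inl hsolS)]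
          refine sup_le (le_sup_of_le_left ?_) (le_sup_of_le_right (le_inf ?_ (inf_le_left.trans hLN)))
          · refine le_coreIn_of_invariant S h.isComm h.hp2 hCsol hSC ?_ (hL.1.to_le
              (Cfsg.Lib.Coprime.commutator_le_of_le_normalizer hL.2))
              (Cfsg.Lib.Coprime.le_normalizer_commutator_right _ _)
            exact commutator_le.2 fun l hl a ha => by
              rw [commutatorElement_def]
              exact C.mul_mem ((mem_normalizer_iff.1 (hNC' (hLN hl)) a).1 (hSC ha)) (C.inv_mem (hSC ha))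
          · refine le_coreIn_of_invariant S h.isComm h.hp2 hCSsol hSCS inf_le_right (hL.1.to_le inf_le_left) ?_
            exact fun a ha => Cfsg.Lib.Coprime.le_normalizer_inf hL.2 (hSCS.trans le_normalizer) ha
        exact ⟨_, hRi, hLR hQ le_normalizer, hLR (h.inv_inf hA.1 (hSN.trans le_normalizer)) inf_le_right,
          hLR (h.inv_inf hB.1 (hSN.trans le_normalizer)) inf_le_right⟩
    obtain ⟨a, ha, haQ⟩ := SetLike.not_le_iff_exists.1 hLA
    obtain ⟨b, hb, hbQ⟩ := SetLike.not_le_iff_exists.1 hLB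
    exact ⟨R, hRi, hQR, ⟨a, ⟨ha.1, hAR ha⟩, haQ⟩, b, ⟨hb.1, hBR hb⟩, hbQ⟩

end Cfsg.Lib.OneComposite
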