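import Cfsg.Agent.S0205
import Cfsg.Agent.S3360
import Cfsg.Agent.Known.FieldAutLight

/-!
A group of odd order of automorphisms of an elementary abelian 2-group, transitive on the non-identity elements
and with all element orders prime: the degree is a prime `r`, and the order is `r` or `r * q` with `q ∣ m`.
-/

set_option autoImplicit false
set_option linter.unusedSectionVars false
set_option linter.style.haveILetI false

namespace Cfsg.Lib.OneComposite

open Subgroup

/-- A cyclic group in which every element order is a prime or one has prime order or is trivial. -/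
theorem card_cyclic_prime {C : Type*} [Group C] [Finite C] [IsCyclic C] (h : ∀ c : C, c = 1 ∨ (orderOf c).Prime) :
    Nat.card C = 1 ∨ (Nat.card C).Prime := by
  obtain ⟨g, hg⟩ := IsCyclic.exists_ofOrder_eq_natCard (α := C)
  rcases h g with e | e
  · rw [e, orderOf_one] at hg
    exact Or.inl hg.symm
  · exact Or.inr (hg ▸ e)

/-- `2 ^ m - 1` is not a product of a prime and a prime divisor of `m`. -/
theorem not_prime_mul_dvd {m s q : ℕ} (hs : s.Prime) (hq : q.Prime) (hqm : q ∣ m) (hm : 2 ≤ m) :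
    2 ^ m - 1 ≠ s * q := by
  intro he
  obtain ⟨k, rfl⟩ := hqm
  haveI : Fact q.Prime := ⟨hq⟩
  have hk : k ≠ 0 := by rintro rfl; simp at hm
  set a := 2 ^ k with ha
  have haq : 2 ^ (q * k) = a ^ q := by rw [ha, ← pow_mul, mul_comm]
  have ha2 : 2 ≤ a := le_self_pow₀ (by norm_num : 1 ≤ 2) hk
  have hgeom : (∑ j ∈ Finset.range q, a ^ j) * (a - 1) = a ^ q - 1 := geom_sum_mul_of_one_le (by omega) q
  have hq1 : ((a : ℕ) : ZMod q) = 1 := by
    have h1 : ((a ^ q - 1 : ℕ) : ZMod q) = 0 := by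
      rw [← haq, he, Nat.cast_mul, ZMod.natCast_self, mul_zero]
    rw [Nat.cast_sub (Nat.one_le_pow _ _ (by omega)), Nat.cast_pow, ZMod.pow_card, Nat.cast_one, sub_eq_zero] at h1
    exact h1
  have hd1 : q ∣ a - 1 := by
    rw [← ZMod.natCast_eq_zero_iff, Nat.cast_sub (by omega), hq1, Nat.cast_one, sub_self]
  have hd2 : q ∣ ∑ j ∈ Finset.range q, a ^ j := by
    rw [← ZMod.natCast_eq_zero_iff, Nat.cast_sum]
    simp [Nat.cast_pow, hq1]
  have hqq : q * q ∣ q * s := by
    rw [mul_comm q s, ← he, haq, ← hgeom]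
    exact mul_dvd_mul hd2 hd1
  have hsq : q = s := (Nat.prime_dvd_prime_iff_eq hq hs).1 (Nat.dvd_of_mul_dvd_mul_left hq.pos hqq)
  subst hsq
  -- `2 ^ m = q ^ 2 + 1` is impossible modulo four
  have h4 : 4 ∣ 2 ^ (q * k) := (show (4 : ℕ) = 2 ^ 2 by norm_num) ▸ pow_dvd_pow 2 hm
  obtain ⟨c, hc⟩ := h4
  have hodd : q % 2 = 1 := by
    rcases hq.eq_two_or_odd with rfl | h
    · omega
    · exact h
  have hsq' : q * q % 4 = 1 := by
    rw [Nat.mul_mod]
    have : q % 4 = 1 ∨ q % 4 = 3 := by omega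
    rcases this with h | h <;> rw [h]
  have h2 : 1 ≤ 2 ^ (q * k) := Nat.one_le_two_pow
  omega

/-- **Odd transitive groups of automorphisms of an elementary abelian 2-group with prime element orders.** -/
theorem transitive_structure {V : Type*} [CommGroup V] [Finite V] (hV : ∀ v : V, v * v = 1)
    (h4 : 4 ≤ Nat.card V) (R : Subgroup (MulAut V)) [Finite R] (hodd : Odd (Nat.card ↥R))
    (htrans : ∀ v w : V, v ≠ 1 → w ≠ 1 → ∃ g ∈ R, g v = w)
    (hord : ∀ g : ↥R, g = 1 ∨ (orderOf g).Prime) :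
    ∃ r m : ℕ, r.Prime ∧ Nat.card V = 2 ^ m ∧ r + 1 = 2 ^ m ∧ m.Prime ∧
      (Nat.card ↥R = r ∨ Nat.card ↥R = r * m) ∧
      ∃ g : ↥R, orderOf g = r ∧ ∀ v : V, (g : MulAut V) v = v → v = 1 := by
  classical
  haveI : Fact (Nat.Prime 2) := ⟨Nat.prime_two⟩
  haveI : Nontrivial V := by
    rw [← Finite.one_lt_card_iff_nontrivial]; omega
  letI : Module (ZMod 2) (Additive V) := AddCommGroup.zmodModule fun v => by
    show 2 • v = 0
    rw [two_nsmul]
    exact hV v.toMul
  let ρ : ↥R →* (Additive V ≃ₗ[ZMod 2] Additive V) :=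
    { toFun := fun g => { (MulEquiv.toAdditive (g : MulAut V)) with map_smul' := fun c x => ZMod.map_smul _ c x }
      map_one' := LinearEquiv.ext fun _ => rfl
      map_mul' := fun _ _ => LinearEquiv.ext fun _ => rfl }
  have hρ : Function.Injective ρ := fun g g' e => Subtype.ext (MulEquiv.ext fun v => by
    have := DFunLike.congr_fun e (Additive.ofMul v)
    exact Additive.ofMul.injective this)
  have hsol : Group.IsSolvable ↥R := Cfsg.Agent.S0205.result hodd
  rcases Cfsg.Agent.S3360.result 2 hsol ρ hρ (fun v w hv hw => by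
    obtain ⟨g, hg, e⟩ := htrans v.toMul w.toMul hv hw
    exact ⟨⟨g, hg⟩, congrArg Additive.ofMul e⟩) with ⟨F, iF, iFt, e, he⟩ | hbad
  swap
  · exfalso
    obtain ⟨k, hk⟩ := IsPGroup.iff_card.1 (show IsPGroup 2 V from fun v => ⟨1, by rw [pow_one, pow_two]; exact hV v⟩)
    have hc : Nat.card (Additive V) = 2 ^ k := (Nat.card_congr Additive.toMul).trans hk
    rw [hc] at hbad
    have hk0 : k ≠ 0 := by rintro rfl; rw [hk] at h4; norm_num at h4
    have h2 : 2 ∣ 2 ^ k := dvd_pow_self 2 hk0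
    simp only [Set.mem_insert_iff, Set.mem_singleton_iff] at hbad
    omega
  -- the field
  haveI : CharP F 2 := by
    refine CharTwo.of_one_ne_zero_of_two_eq_zero one_ne_zero ?_
    have h1 : e.symm (1 + 1 : F) = 0 := by
      rw [map_add]
      exact hV (e.symm 1).toMul
    rw [← one_add_one_eq_two, ← e.apply_symm_apply (1 + 1 : F), h1, map_zero]
  obtain ⟨m, -, hm⟩ : ∃ m : ℕ+, Nat.Prime 2 ∧ Fintype.card F = 2 ^ (m : ℕ) :=
    let ⟨m, h1, h2⟩ := FiniteField.card F 2; ⟨m, h1, h2⟩
  obtain ⟨hcyc, haut⟩ := Cfsg.Lib.Known.FieldLight.ringAut_facts (F := F) 2 m hm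
  have hVm : Nat.card V = 2 ^ (m : ℕ) := by
    rw [← hm, ← Nat.card_eq_fintype_card, ← Nat.card_congr e.toEquiv]
    exact (Nat.card_congr Additive.toMul).symm
  have hm2 : 2 ≤ (m : ℕ) := by
    by_contra hlt
    have : (m : ℕ) = 1 := by have := m.pos; omega
    rw [this] at hVm; omega
  have hne : ∀ g : ↥R, ∀ (a : F) (σ : F ≃+* F), (∀ v, e (ρ g v) = a * σ (e v)) → a ≠ 0 := by
    intro g a σ h ha
    have h1 := h (e.symm 1)
    rw [ha, zero_mul, ← map_zero e] at h1
    have h2 : e.symm (1 : F) = 0 := (ρ g).injective ((e.injective h1).trans (map_zero (ρ g)).symm)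
    exact one_ne_zero (by rw [← e.apply_symm_apply (1 : F), h2, map_zero] : (1 : F) = 0)
  choose a σ haσ using he
  have hu : ∀ (g : ↥R) (b : F) (τ : F ≃+* F), (∀ v, e (ρ g v) = b * τ (e v)) → b = a g ∧ τ = σ g := by
    intro g b τ h
    have h1 : b = a g := by
      have := (h (e.symm 1)).symm.trans (haσ g (e.symm 1))
      simpa using this
    refine ⟨h1, RingEquiv.ext fun y => ?_⟩
    have := (h (e.symm y)).symm.trans (haσ g (e.symm y))
    rw [h1, e.apply_symm_apply] at this
    exact mul_left_cancel₀ (hne g _ _ (haσ g)) this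
  have hmul : ∀ g g' : ↥R, σ (g * g') = σ g * σ g' ∧ a (g * g') = a g * σ g (a g') := by
    intro g g'
    have := hu (g * g') (a g * σ g (a g')) (σ g * σ g') fun v => by
      rw [map_mul, LinearEquiv.mul_apply, haσ, haσ, map_mul, mul_assoc]
      rfl
    exact ⟨this.2.symm, this.1.symm⟩
  let χ : ↥R →* (F ≃+* F) := MonoidHom.mk' σ fun g g' => (hmul g g').1
  have hk1 : ∀ g : ↥χ.ker, σ (g : ↥R) = 1 := fun g => g.2
  let μ : ↥χ.ker →* Fˣ := MonoidHom.mk' (fun g => Units.mk0 (a g) (hne g _ _ (haσ g))) fun g g' => Units.ext (by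
    show a ((g : ↥R) * g') = a g * a g'
    rw [(hmul g g').2, hk1 g]
    rfl)
  have hμ : Function.Injective μ := by
    intro g g' hgg
    have ea : a g = a g' := congrArg Units.val hgg
    refine Subtype.ext (hρ (LinearEquiv.ext fun v => e.injective ?_))
    rw [haσ, haσ, ea, hk1 g, hk1 g']
  haveI : IsCyclic ↥χ.ker := isCyclic_of_injective μ hμ
  haveI : IsCyclic ↥χ.range := inferInstance
  haveI : Finite (F ≃+* F) := DFunLike.finite _
  have hcard : Nat.card ↥χ.range * Nat.card ↥χ.ker = Nat.card ↥R := by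
    rw [← Subgroup.index_ker, mul_comm, Subgroup.card_mul_index]
  have hkerP := card_cyclic_prime (C := ↥χ.ker) fun c => (hord c).imp (fun h => Subtype.ext h) fun h => by
    rwa [Subgroup.orderOf_coe] at h
  have hranP := card_cyclic_prime (C := ↥χ.range) fun c => by
    obtain ⟨g, hg⟩ := c.2
    rcases hord g with h | h
    · exact Or.inl (Subtype.ext (by rw [← hg, h, map_one]; rfl))
    · rcases h.eq_one_or_self_of_dvd _ (orderOf_map_dvd χ g) with h1 | h1
      · exact Or.inl (Subtype.ext (by rw [← hg]; exact orderOf_eq_one_iff.1 h1))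
      · exact Or.inr (by rw [← Subgroup.orderOf_coe, ← hg, h1]; exact h)
  have hranm : Nat.card ↥χ.range ∣ (m : ℕ) := haut ▸ card_subgroup_dvd_card χ.range
  -- the number of non-identity elements divides the order
  haveI : Fintype ↥R := Fintype.ofFinite _
  obtain ⟨v0, hv0⟩ := exists_ne (1 : V)
  have hdiv : 2 ^ (m : ℕ) - 1 ∣ Nat.card ↥R := by
    letI : MulAction ↥R V := MulAction.compHom V ((MulEquiv.refl (MulAut V)).toMonoidHom.comp R.subtype)
    have horb : MulAction.orbit ↥R v0 = {v : V | v ≠ 1} := by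
      ext v
      refine ⟨?_, fun hv => ?_⟩
      · rintro ⟨g, rfl⟩ h1
        exact hv0 ((g : MulAut V).injective (h1.trans (map_one (g : MulAut V)).symm))
      · obtain ⟨g, hg, e'⟩ := htrans v0 v hv0 hv
        exact ⟨⟨g, hg⟩, e'⟩
    have h1 : Nat.card ↥(MulAction.orbit ↥R v0) = 2 ^ (m : ℕ) - 1 := by
      rw [horb, ← hVm, show {v : V | v ≠ 1} = ({1}ᶜ : Set V) from rfl, Nat.card_coe_set_eq, Set.ncard_compl,
        Set.ncard_singleton]
    rw [← h1, Nat.card_coe_set_eq, ← MulAction.index_stabilizer]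
    exact index_dvd_card _
  have hbig : (m : ℕ) < 2 ^ (m : ℕ) - 1 := by
    have : (m : ℕ) + 1 < 2 ^ (m : ℕ) := by
      have key : ∀ n : ℕ, 2 ≤ n → n + 1 < 2 ^ n := by
        intro n hn
        induction n, hn using Nat.le_induction with
        | base => norm_num
        | succ n hn ih => rw [pow_succ]; omega
      exact key _ hm2
    omega
  set c := Nat.card ↥χ.range with hc
  set s := Nat.card ↥χ.ker with hs
  have hcpos : 0 < c := Nat.card_pos
  have hcm : c ≤ (m : ℕ) := Nat.le_of_dvd (by omega) hranm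
  rw [← hcard] at hdiv
  have hsP : s.Prime := by
    refine hkerP.resolve_left fun hs1 => ?_
    rw [hs1, mul_one] at hdiv
    have := Nat.le_of_dvd hcpos hdiv
    omega
  have his : 2 ^ (m : ℕ) - 1 = s := by
    rcases hranP with hc1 | hcP
    · rw [hc1, one_mul] at hdiv
      exact ((Nat.dvd_prime hsP).1 hdiv).resolve_left (by omega)
    · obtain ⟨d1, hd1, d2, hd2, hd⟩ : ∃ d1, d1 ∣ c ∧ ∃ d2, d2 ∣ s ∧ 2 ^ (m : ℕ) - 1 = d1 * d2 := by
        obtain ⟨d1, d2, h1, h2, h3⟩ := (Nat.dvd_mul).1 hdiv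
        exact ⟨d1, h1, d2, h2, h3.symm⟩
      rcases (Nat.dvd_prime hcP).1 hd1 with rfl | rfl <;> rcases (Nat.dvd_prime hsP).1 hd2 with rfl | rfl
      · omega
      · rw [hd, one_mul]
      · rw [mul_one] at hd; omega
      · exact absurd hd (by rw [mul_comm]; exact not_prime_mul_dvd hsP hcP hranm hm2)
  have hmP : (m : ℕ).Prime := (Nat.prime_of_pow_sub_one_prime (a := 2) (by omega) (his ▸ hsP)).2
  refine ⟨s, m, hsP, hVm, by omega, hmP, ?_, ?_⟩
  · rcases hranP with hc1 | hcP
    · exact Or.inl (by rw [← hcard, hc1, one_mul])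
    · exact Or.inr (by rw [← hcard, (Nat.prime_dvd_prime_iff_eq hcP hmP).1 hranm, mul_comm])
  · haveI : Fact s.Prime := ⟨hsP⟩
    obtain ⟨g, hg⟩ := exists_prime_orderOf_dvd_card' (G := ↥χ.ker) s dvd_rfl
    refine ⟨g, by rw [Subgroup.orderOf_coe]; exact hg, fun v hv => ?_⟩
    by_contra hv1
    have h1 : e (ρ g (Additive.ofMul v)) = a g * e (Additive.ofMul v) := by
      rw [haσ, hk1 g]; rfl
    have h2 : ρ g (Additive.ofMul v) = Additive.ofMul v := congrArg Additive.ofMul hv
    rw [h2] at h1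
    have hev : e (Additive.ofMul v) ≠ 0 := fun h0 => hv1 (Additive.ofMul.injective (e.injective (h0.trans (map_zero e).symm)))
    have ha1 : a g = 1 := (mul_eq_right₀ hev).1 h1.symm
    have hg1 : g = 1 := hμ (by rw [map_one]; exact Units.ext ha1)
    rw [hg1, orderOf_one] at hg
    exact hsP.ne_one hg.symm

end Cfsg.Lib.OneComposite
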