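import Cfsg.Agent.OneComposite.Invariant
import Cfsg.Agent.OneComposite.Semilinear
import Cfsg.Agent.Transfer.Fusion

/-!
The normaliser of `S` is strongly embedded, and its quotient by the centraliser of `S` has order `r` or `r * m`,
where `r = 2 ^ m - 1` is a prime.
-/

set_option autoImplicit false
set_option linter.unusedSectionVars false
set_option linter.style.haveILetI false

namespace Cfsg.Lib.OneComposite

open Subgroup Cfsg.Lib.CosetCore Cfsg.Lib.StrongEmb

variable {G : Type*} [Group G] [Finite G] {p : ℕ} {S : Sylow 2 G}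

/-- `O(C(S))`. -/
def fixedPart (S : Sylow 2 G) : Subgroup G := coreIn (centralizer ((S : Subgroup G) : Set G))

/-- What is known about the normaliser of `S`. -/
structure Closed (S : Sylow 2 G) (p r m : ℕ) (x : G) : Prop where
  setting : Setting S p
  se : Cfsg.IsStronglyEmbedded (normalizer ((S : Subgroup G) : Set G))
  rprime : r.Prime
  mprime : m.Prime
  card_S : Nat.card ↥(S : Subgroup G) = 2 ^ m
  hr : r + 1 = 2 ^ m
  xN : x ∈ normalizer ((S : Subgroup G) : Set G)
  xord : orderOf x = r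
  xfree : ∀ v ∈ (S : Subgroup G), Commute v x → v = 1
  cor_le : ∀ v ∈ (S : Subgroup G), v ≠ 1 → cor v ≤ fixedPart S
  trans : ∀ a ∈ (S : Subgroup G), ∀ b ∈ (S : Subgroup G), a ≠ 1 → b ≠ 1 →
    ∃ g ∈ normalizer ((S : Subgroup G) : Set G), g * a * g⁻¹ = b
  card_N : Nat.card ↥(normalizer ((S : Subgroup G) : Set G)) = Nat.card ↥(centralizer ((S : Subgroup G) : Set G)) * r ∨
    Nat.card ↥(normalizer ((S : Subgroup G) : Set G)) = Nat.card ↥(centralizer ((S : Subgroup G) : Set G)) * (r * m)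

theorem Setting.self_cent (h : Setting S p) :
    (S : Subgroup G) ≤ centralizer ((S : Subgroup G) : Set G) :=
  fun a ha => mem_centralizer_iff.2 fun b hb => h.comm hb ha

theorem Setting.exists_ne_one (h : Setting S p) : ∃ v ∈ (S : Subgroup G), v ≠ 1 := by
  refine ((S : Subgroup G).bot_or_exists_ne_one).resolve_left fun e => ?_
  have := h.card4
  rw [e, card_bot] at this
  omega

theorem Setting.solvable_centS (h : Setting S p) :
    Group.IsSolvable ↥(centralizer ((S : Subgroup G) : Set G)) := by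
  obtain ⟨w, hw, hw1⟩ := h.exists_ne_one
  exact h.orders.solvable_of_central (Or.inl (h.order_two hw hw1)) h.hp h.hp2
    fun x hx => mem_centralizer_iff.1 hx w hw

theorem Setting.inv_fixedPart (h : Setting S p) : Inv S p (fixedPart S) :=
  h.inv_coreIn (h.self_cent.trans le_normalizer)

theorem Setting.le_fixedPart (h : Setting S p) {U : Subgroup G} (hU : Inv S p U)
    (hUS : U ≤ centralizer ((S : Subgroup G) : Set G)) : U ≤ fixedPart S := by
  haveI : Fact p.Prime := ⟨h.hp⟩
  exact le_coreIn_of_invariant S h.isComm h.hp2 h.solvable_centS h.self_cent hUS hU.1 hU.2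

theorem Setting.mem_S (h : Setting S p) {t : G} (ht : t ∈ normalizer ((S : Subgroup G) : Set G))
    (ho : orderOf t = 2) : t ∈ (S : Subgroup G) := by
  haveI : Fact (Nat.Prime 2) := ⟨Nat.prime_two⟩
  exact (S.is_maximal' (IsPGroup.to_sup_of_normal_left' S.isPGroup'
    (IsPGroup.of_card (n := 1) (by rw [Nat.card_zpowers, ho, pow_one])) (zpowers_le.2 ht)) le_sup_left).le
    (mem_sup_right (mem_zpowers t))

/-- Fusion of single elements of `S`. -/
theorem Setting.fusion (h : Setting S p) {a b : G} (ha : a ∈ (S : Subgroup G)) (hb : b ∈ (S : Subgroup G))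
    (hab : IsConj a b) : ∃ g ∈ normalizer ((S : Subgroup G) : Set G), g * a * g⁻¹ = b := by
  haveI : Fact (Nat.Prime 2) := ⟨Nat.prime_two⟩
  obtain ⟨g, hg⟩ := isConj_iff.1 hab
  have hn : ∀ {c : G}, c ∈ (S : Subgroup G) → (S : Subgroup G) ≤ normalizer ({c} : Set G) := by
    intro c hc s hs
    rw [Subgroup.mem_set_normalizer_iff]
    intro y
    simp only [Set.mem_singleton_iff]
    constructor
    · rintro rfl
      rw [h.comm hs hc]; group
    · intro e
      calc y = s⁻¹ * (s * y * s⁻¹) * s := by group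
        _ = c := by rw [e, mul_assoc, ← h.comm hs hc]; group
  obtain ⟨n, hn', hne⟩ := Cfsg.Lib.Transfer.burnside_fusion_set S {a} {b} (hn ha) (hn hb) g (by simp [hg])
  refine ⟨n, hn', ?_⟩
  simpa using hne

/-- A proper subgroup above the normaliser of `S` and the cores of the involution centralisers is strongly
embedded. -/
theorem Setting.strongly_embedded (h : Setting S p) {M : Subgroup G} (hM : M ≠ ⊤)
    (hNM : normalizer ((S : Subgroup G) : Set G) ≤ M) (hcor : ∀ v ∈ (S : Subgroup G), v ≠ 1 → cor v ≤ M) :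
    Cfsg.IsStronglyEmbedded M := by
  haveI : Fact (Nat.Prime 2) := ⟨Nat.prime_two⟩
  have hSM : (S : Subgroup G) ≤ M := le_normalizer.trans hNM
  have hconj : ∀ t ∈ M, orderOf t = 2 → ∃ c ∈ M, c * t * c⁻¹ ∈ (S : Subgroup G) := by
    intro t ht ho
    have hp' : IsPGroup 2 ↥(zpowers (⟨t, ht⟩ : ↥M)) := IsPGroup.of_card (n := 1) (by
      rw [Nat.card_zpowers, ← Subgroup.orderOf_coe, ho, pow_one])
    obtain ⟨Q, hQ⟩ := hp'.exists_le_sylow
    obtain ⟨c, hc⟩ := MulAction.exists_smul_eq ↥M Q (S.subtype hSM)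
    refine ⟨c, c.2, ?_⟩
    have : c * ⟨t, ht⟩ * c⁻¹ ∈ (S.subtype hSM : Subgroup ↥M) := by
      rw [← hc]
      exact ⟨⟨t, ht⟩, hQ (mem_zpowers _), rfl⟩
    exact mem_subgroupOf.1 this
  have hC : ∀ v ∈ (S : Subgroup G), v ≠ 1 → centralizer ({v} : Set G) ≤ M := fun v hv hv1 =>
    le_of_core_normalizer S h.isComm (h.solvable_cent hv hv1) (h.le_cent hv) (hcor v hv hv1)
      (inf_le_right.trans hNM)
  have hne : ∀ {t : G}, orderOf t = 2 → ∀ c : G, c * t * c⁻¹ ≠ 1 := by
    intro t ho c e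
    rw [conj_eq_one_iff] at e
    rw [e, orderOf_one] at ho; omega
  refine of_conditions hM ?_ (fun t ht ho => ?_) fun t ht s hs hto hso hts => ?_
  · obtain ⟨w, hw, hw1⟩ := h.exists_ne_one
    exact (even_iff_two_dvd).2 (h.order_two hw hw1 ▸ Subgroup.orderOf_dvd_natCard M (hSM hw))
  · obtain ⟨c, hc, hcS⟩ := hconj t ht ho
    intro z hz
    have h1 : c * z * c⁻¹ ∈ centralizer ({c * t * c⁻¹} : Set G) := by
      rw [mem_centralizer_singleton_iff] at hz ⊢
      calc c * z * c⁻¹ * (c * t * c⁻¹) = c * (z * t) * c⁻¹ := by group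
        _ = c * t * c⁻¹ * (c * z * c⁻¹) := by rw [hz]; group
    simpa [mul_assoc] using M.mul_mem (M.mul_mem (M.inv_mem hc) (hC _ hcS (hne ho c) h1)) hc
  · obtain ⟨c, hc, hcS⟩ := hconj t ht hto
    obtain ⟨d, hd, hdS⟩ := hconj s hs hso
    have hh : IsConj (c * t * c⁻¹) (d * s * d⁻¹) :=
      ((isConj_iff.2 ⟨c, rfl⟩).symm.trans hts).trans (isConj_iff.2 ⟨d, rfl⟩)
    obtain ⟨g, hg, hge⟩ := h.fusion hcS hdS hh
    refine ⟨d⁻¹ * g * c, M.mul_mem (M.mul_mem (M.inv_mem hd) (hNM hg)) hc, ?_⟩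
    calc d⁻¹ * g * c * t * (d⁻¹ * g * c)⁻¹ = d⁻¹ * (g * (c * t * c⁻¹) * g⁻¹) * d := by group
      _ = s := by rw [hge]; group

/-- The normaliser of `S` is strongly embedded, unless `S` is a four-group with `O(C(S)) = 1`. -/
theorem Setting.exists_closed [IsSimpleGroup G] (h : Setting S p) (hna : ¬ IsMulCommutative G)
    (hyp : 8 ≤ Nat.card ↥(S : Subgroup G) ∨ fixedPart S ≠ ⊥) : ∃ r m x, Closed S p r m x := by
  classical
  haveI : Fact (Nat.Prime 2) := ⟨Nat.prime_two⟩
  haveI : Fact p.Prime := ⟨h.hp⟩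
  set N := normalizer ((S : Subgroup G) : Set G) with hN
  set C := centralizer ((S : Subgroup G) : Set G) with hC
  obtain ⟨W, hPW, hW⟩ := (Set.toFinite {U | Inv S p U}).exists_le_maximal h.inv_fixedPart
  change Maximal (Inv S p) W at hW
  have hunique : ∀ {U : Subgroup G}, Inv S p U →
      (8 ≤ Nat.card ↥(S : Subgroup G) ∨ U ⊓ W ≠ ⊥) → U ≤ W := by
    intro U hU hh
    obtain ⟨U', hUU', hU'⟩ := (Set.toFinite {U | Inv S p U}).exists_le_maximal hU
    exact h.exists_join hU' hW (hh.imp_right fun he e =>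
      he (le_bot_iff.1 ((inf_le_inf_right W hUU').trans e.le))) ▸ hUU'
  have hcorW : ∀ v ∈ (S : Subgroup G), v ≠ 1 → cor v ≤ W := by
    intro v hv hv1
    have hle : fixedPart S ≤ cor v := h.le_cor hv hv1 h.inv_fixedPart fun g hg =>
      mem_centralizer_singleton_iff.2 (mem_centralizer_iff.1 (coreIn_le _ hg) v hv).symm
    exact hunique (h.inv_cor hv) (hyp.imp_right fun he e => he (le_bot_iff.1 ((le_inf hle hPW).trans e.le)))
  have hNW : N ≤ normalizer (W : Set G) := by
    intro g hg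
    have hinv : ∀ {U : Subgroup G}, Inv S p U → Inv S p (U.map (MulAut.conj g).toMonoidHom) := by
      intro U hU
      refine ⟨hU.1.map _, fun a ha => mem_normalizer_iff.2 fun y => ?_⟩
      have ha' : g⁻¹ * a * g ∈ (S : Subgroup G) := by
        simpa using (mem_normalizer_iff.1 (inv_mem hg) a).1 ha
      have key := mem_normalizer_iff.1 (hU.2 ha') (g⁻¹ * y * g)
      rw [mem_conj_iff, mem_conj_iff]
      convert key using 2
      group
    have hP0g : (fixedPart S).map (MulAut.conj g).toMonoidHom = fixedPart S :=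
      mem_normalizer_iff_map.1 (normalizer_le_coreIn C (Cfsg.Lib.Thompson.normalizer_le_normalizer_centralizer _ hg))
    have hle : W.map (MulAut.conj g).toMonoidHom ≤ W := by
      refine hunique (hinv hW.1) (hyp.imp_right fun he e => he (le_bot_iff.1 ((le_inf ?_ hPW).trans e.le)))
      exact hP0g.ge.trans (Subgroup.map_mono hPW)
    exact mem_normalizer_iff_map.2
      (eq_of_le_of_card_ge hle (card_map_of_injective (MulAut.conj g).injective).ge)
  -- a first strongly embedded subgroup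
  obtain ⟨M0, hM0, hNM0, hcor0⟩ : ∃ M0 : Subgroup G, M0 ≠ ⊤ ∧ N ≤ M0 ∧
      ∀ v ∈ (S : Subgroup G), v ≠ 1 → cor v ≤ M0 := by
    have hSne : (S : Subgroup G) ≠ ⊥ := by
      obtain ⟨w, hw, hw1⟩ := h.exists_ne_one
      exact fun e => hw1 (mem_bot.1 (e ▸ hw))
    have hproper : ∀ U : Subgroup G, U ≠ ⊥ → ∀ q : ℕ, [Fact q.Prime] → IsPGroup q ↥U → normalizer (U : Set G) ≠ ⊤ := by
      intro U hU q _ hUq htop
      rcases (normalizer_eq_top_iff.1 htop).eq_bot_or_eq_top with e | e
      · exact hU e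
      · haveI : Group.IsNilpotent ↥U := hUq.isNilpotent
        haveI : Group.IsSolvable ↥U := inferInstance
        subst e
        haveI : Group.IsSolvable G := solvable_of_surjective (f := (⊤ : Subgroup G).subtype) fun g => ⟨⟨g, mem_top g⟩, rfl⟩
        exact hna ⟨⟨(IsSimpleGroup.comm_iff_isSolvable).2 inferInstance⟩⟩
    by_cases hW1 : W = ⊥
    · exact ⟨N, hproper _ hSne 2 S.isPGroup', le_rfl, fun v hv hv1 => ((hcorW v hv hv1).trans hW1.le).trans bot_le⟩
    · exact ⟨normalizer (W : Set G), hproper W hW1 p hW.1.1, hNW,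
        fun v hv hv1 => (hcorW v hv hv1).trans le_normalizer⟩
  have hse0 := h.strongly_embedded hM0 hNM0 hcor0
  have htrans : ∀ a ∈ (S : Subgroup G), ∀ b ∈ (S : Subgroup G), a ≠ 1 → b ≠ 1 → ∃ g ∈ N, g * a * g⁻¹ = b :=
    fun a ha b hb ha1 hb1 => h.fusion ha hb (all_conj hse0 (h.order_two ha ha1) (h.order_two hb hb1))
  -- the automorphisms induced on `S`
  letI : CommGroup ↥(S : Subgroup G) :=
    { (inferInstance : Group ↥(S : Subgroup G)) with mul_comm := fun a b => Subtype.ext (h.comm a.2 b.2) }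
  set φ : ↥N →* MulAut ↥(S : Subgroup G) := (S : Subgroup G).normalizerMonoidHom with hφ
  have hφv : ∀ (g : ↥N) (v : ↥(S : Subgroup G)), ((φ g v : ↥(S : Subgroup G)) : G) = g * v * (g : G)⁻¹ :=
    fun g v => rfl
  have hker : φ.ker = C.subgroupOf N := Subgroup.normalizerMonoidHom_ker _
  have hCN : C ≤ N := centralizer_le_normalizer _
  haveI : Finite ↥φ.range := Finite.of_surjective φ.rangeRestrict φ.rangeRestrict_surjective
  have hcard : Nat.card ↥N = Nat.card ↥C * Nat.card ↥φ.range := by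
    rw [← Nat.card_congr (subgroupOfEquivOfLe hCN).toEquiv, ← hker, ← Subgroup.index_ker, Subgroup.card_mul_index]
  have hodd : Odd (Nat.card ↥φ.range) := by
    rw [← Nat.not_even_iff_odd, even_iff_two_dvd, ← Subgroup.index_ker, hker]
    exact fun hd => (S.subtype le_normalizer).not_dvd_index (hd.trans (index_dvd_of_le fun a ha =>
      mem_subgroupOf.2 (h.self_cent (mem_subgroupOf.1 ha))))
  obtain ⟨r, m, hr, hSm, hrm, hm, hR, g, hg, hgfree⟩ := transitive_structure
    (fun v : ↥(S : Subgroup G) => Subtype.ext (h.sq v.2)) h.card4 φ.range hodd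
    (fun v w hv hw => by
      obtain ⟨n, hn, e⟩ := htrans v v.2 w w.2 (fun e => hv (Subtype.ext e)) fun e => hw (Subtype.ext e)
      exact ⟨φ ⟨n, hn⟩, ⟨_, rfl⟩, Subtype.ext e⟩)
    (by
      rintro ⟨y, n, rfl⟩
      have hd : orderOf (φ n) ∣ orderOf (n : G) := by rw [Subgroup.orderOf_coe]; exact orderOf_map_dvd φ n
      have ho : ¬ 2 ∣ orderOf (φ n) := fun hd2 => hodd.not_two_dvd_nat (hd2.trans
        (Subgroup.orderOf_dvd_natCard φ.range (⟨n, rfl⟩ : φ n ∈ φ.range)))
      by_cases h1 : φ n = 1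
      · exact Or.inl (Subtype.ext h1)
      refine Or.inr ?_
      rw [← Subgroup.orderOf_coe]
      show (orderOf (φ n)).Prime
      have hne1 : orderOf (φ n) ≠ 1 := fun e => h1 (orderOf_eq_one_iff.1 e)
      rcases h.orders (n : G) with e | e | e
      · exact absurd (Nat.eq_one_of_dvd_one (orderOf_one (G := G) ▸ e ▸ hd)) hne1
      · exact ((e.eq_one_or_self_of_dvd _ hd).resolve_left hne1).symm ▸ e
      · have h2p : orderOf (φ n) ∣ p :=
          (Nat.Coprime.dvd_mul_left ((Nat.prime_two.coprime_iff_not_dvd.2 ho).symm)).1 (e ▸ hd)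
        exact ((h.hp.eq_one_or_self_of_dvd _ h2p).resolve_left hne1).symm ▸ h.hp)
  have hr2 : r ≠ 2 := by
    have := Nat.pow_le_pow_right (show 1 ≤ 2 by norm_num) hm.two_le
    omega
  obtain ⟨gv, n, hn⟩ := g
  rw [← Subgroup.orderOf_coe] at hg
  subst hn
  change orderOf (φ n) = r at hg
  obtain ⟨x, hxN, hxr, hxfree⟩ : ∃ x, x ∈ N ∧ orderOf x = r ∧ ∀ v ∈ (S : Subgroup G), Commute v x → v = 1 := by
    have free : ∀ z : ↥N, (∀ v, φ z v = v → φ n v = v) → ∀ v ∈ (S : Subgroup G), Commute v (z : G) → v = 1 := by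
      intro z hz v hv hc
      have e : φ z ⟨v, hv⟩ = ⟨v, hv⟩ := Subtype.ext (by rw [hφv]; exact mul_inv_eq_iff_eq_mul.2 hc.symm.eq)
      exact congrArg Subtype.val (hgfree ⟨v, hv⟩ (hz _ e))
    have hd : r ∣ orderOf (n : G) := by rw [← hg, Subgroup.orderOf_coe]; exact orderOf_map_dvd φ n
    rcases h.orders (n : G) with e | e | e
    · rw [e, orderOf_one] at hd
      exact absurd (Nat.eq_one_of_dvd_one hd) hr.ne_one
    · exact ⟨n, n.2, ((Nat.prime_dvd_prime_iff_eq hr e).1 hd).symm, free n fun _ hv => hv⟩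
    · have hrp : r = p := by
        rw [e] at hd
        rcases hr.dvd_mul.1 hd with h' | h'
        · exact absurd ((Nat.prime_dvd_prime_iff_eq hr Nat.prime_two).1 h') hr2
        · exact (Nat.prime_dvd_prime_iff_eq hr h.hp).1 h'
      refine ⟨(n : G) ^ 2, pow_mem n.2 2, ?_, ?_⟩
      · rw [orderOf_pow' _ two_ne_zero, e, Nat.gcd_mul_right_left, Nat.mul_div_cancel_left p two_pos, hrp]
      · refine free (n ^ 2) fun v hv => ?_
        obtain ⟨j, hj⟩ := hr.odd_of_ne_two hr2
        have hnn : φ n = φ (n ^ 2) ^ (j + 1) := by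
          rw [map_pow, ← pow_mul, show 2 * (j + 1) = r + 1 by omega, pow_succ, ← hg, pow_orderOf_eq_one, one_mul]
        rw [hnn]
        clear hnn hj
        induction j with
        | zero => simpa using hv
        | succ j ih => rw [pow_succ, MulAut.mul_apply, hv, ih]
  -- `S` centralises `W`
  have hSW : (S : Subgroup G) ≤ centralizer (W : Set G) := centralizes_of_norm hW.1.1
    (by
      rw [hSm]
      exact fun hd => h.hp2 ((Nat.prime_dvd_prime_iff_eq h.hp Nat.prime_two).1 (h.hp.dvd_of_dvd_pow hd)))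
    hW.1.2 hr hxr hxN (hNW hxN) hxfree (h.orders.norm_hyp h.hp h.hp2 hW.1.1 hr hr2 hxr (hNW hxN))
  have hWC : W ≤ C := fun w hw => mem_centralizer_iff.2 fun a ha => (mem_centralizer_iff.1 (hSW ha) w hw).symm
  have hWP : W ≤ fixedPart S := h.le_fixedPart hW.1 hWC
  have hse : Cfsg.IsStronglyEmbedded N := by
    refine h.strongly_embedded (fun e => hM0 (top_le_iff.1 (e ▸ hNM0))) le_rfl fun v hv hv1 => ?_
    exact ((hcorW v hv hv1).trans hWC).trans hCN
  refine ⟨r, m, x, h, hse, hr, hm, hSm, hrm, hxN, hxr, hxfree, fun v hv hv1 => (hcorW v hv hv1).trans hWP, htrans, ?_⟩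
  exact hR.imp (fun e => by rw [hcard, e]) fun e => by rw [hcard, e]

end Cfsg.Lib.OneComposite
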