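import Cfsg.Agent.OneComposite.CNCase

/-!
Index `p` of `C(S)` in its normaliser: impossible.
-/

set_option autoImplicit false
set_option linter.unusedSectionVars false
set_option linter.style.haveILetI false

namespace Cfsg.Lib.OneComposite

open Subgroup Cfsg.Lib.CosetCore Cfsg.Lib.StrongEmb

variable {G : Type*} [Group G] [Finite G] {p r m : ℕ} {S : Sylow 2 G} {x : G}

theorem conj_order (g y : G) : orderOf (g * y * g⁻¹) = orderOf y := by
  rw [show g * y * g⁻¹ = MulAut.conj g y from rfl, MulEquiv.orderOf_eq]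

/-- Two distinct conjugates of the normaliser: an involution exchanging them. -/
theorem Closed.exists_swap_invol (hd : Closed S p r m x) {g : G}
    (hg : g ∉ normalizer ((S : Subgroup G) : Set G)) :
    ∃ u, orderOf u = 2 ∧ u ∉ normalizer ((S : Subgroup G) : Set G) ∧
      u⁻¹ * g ∈ normalizer ((S : Subgroup G) : Set G) := by
  set N := normalizer ((S : Subgroup G) : Set G) with hN
  have hne : (QuotientGroup.mk (1 : G) : G ⧸ N) ≠ QuotientGroup.mk g := fun e => hg (by
    simpa using QuotientGroup.eq.1 e)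
  obtain ⟨v, hv, hv1⟩ := hd.exists_v
  haveI : Nonempty {t : G // orderOf t = 2 ∧ t ∈ N} := ⟨⟨v, hd.setting.order_two hv hv1, le_normalizer hv⟩⟩
  have hpos : 0 < Nat.card {i : G // orderOf i = 2 ∧ i • (QuotientGroup.mk (1 : G) : G ⧸ N) = QuotientGroup.mk g} := by
    rw [card_swap hd.se _ _ hne]; exact Nat.card_pos
  obtain ⟨⟨u, hu, hug⟩⟩ := (Nat.card_pos_iff.1 hpos).1
  rw [MulAction.Quotient.smul_mk, smul_eq_mul, mul_one, QuotientGroup.eq] at hug
  exact ⟨u, hu, fun huN => hg (by simpa using mul_mem huN hug), hug⟩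

theorem Closed.conj_mem_N (hd : Closed S p r m x) {g y : G} (hy : y ∈ fixedPart S)
    (hg : g ∈ normalizer ((S : Subgroup G) : Set G)) : g * y * g⁻¹ ∈ fixedPart S :=
  (mem_normalizer_iff.1 (normalizer_le_coreIn _
    (Cfsg.Lib.Thompson.normalizer_le_normalizer_centralizer _ hg)) y).1 hy

/-- A nontrivial element of `O(C(S))` lies in no other conjugate of the normaliser. -/
theorem Closed.fixed_only (hd : Closed S p r m x)
    (hN : Nat.card ↥(normalizer ((S : Subgroup G) : Set G)) =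
      Nat.card ↥(centralizer ((S : Subgroup G) : Set G)) * r) {g w : G} (hw : w ∈ fixedPart S) (hw1 : w ≠ 1)
    (h : g * w * g⁻¹ ∈ normalizer ((S : Subgroup G) : Set G)) : g ∈ normalizer ((S : Subgroup G) : Set G) := by
  set N := normalizer ((S : Subgroup G) : Set G) with hNdef
  by_contra hg
  obtain ⟨u, hu, huN, hug⟩ := hd.exists_swap_invol hg
  have uu : u * u = 1 := hd.sq_one hu
  have ui : u⁻¹ = u := inv_eq_of_mul_eq_one_right uu
  set h0 := u⁻¹ * g with hh0
  set w0 := h0 * w * h0⁻¹ with hw0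
  have hw0W : w0 ∈ fixedPart S := hd.conj_mem_N hw hug
  have hw01 : w0 ≠ 1 := fun e => hw1 (conj_eq_one_iff.1 e)
  set w' := u * w0 * u⁻¹ with hw'
  have hw'N : w' ∈ N := by
    have e : g * w * g⁻¹ = w' := by rw [hw', hw0, hh0]; group
    exact e ▸ h
  have hW'0 : u⁻¹ * w' * u = w0 := by rw [hw']; group
  have hw'1 : w' ≠ 1 := fun e => hw01 (conj_eq_one_iff.1 e)
  have hw0N : w0 ∈ N := (coreIn_le _).trans (centralizer_le_normalizer _) hw0W
  -- no common nontrivial element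
  have hdisj : ∀ y ∈ fixedPart S, u * y * u⁻¹ ∈ fixedPart S → y = 1 := by
    intro y hy hy'
    by_contra hy1
    obtain ⟨v, hv, hv1⟩ := hd.exists_v
    refine huN (hd.eq_normalizer hv hv1 (hd.cent_fixed_le hy' (fun e => hy1 (conj_eq_one_iff.1 e))
      (mem_centralizer_singleton_iff.2 ?_)))
    calc u * v * u⁻¹ * (u * y * u⁻¹) = u * (v * y) * u⁻¹ := by group
      _ = u * (y * v) * u⁻¹ := by rw [hd.fixedPart_comm hv hy]
      _ = _ := by group
  -- they commute
  have hcomm : w0 * w' = w' * w0 := by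
    set c := w0 * w' * w0⁻¹ * w'⁻¹ with hc
    have h1 : c ∈ fixedPart S := by
      have := mul_mem hw0W (hd.conj_mem_N (inv_mem hw0W) hw'N)
      rw [hc]
      simpa [mul_assoc] using this
    have h2 : u⁻¹ * c * u ∈ fixedPart S := by
      have e : u⁻¹ * c * u = w' * w0 * w'⁻¹ * w0⁻¹ := by
        have a1 : u⁻¹ * w0 * u = w' := by rw [hw', ui]
        rw [hc, show u⁻¹ * (w0 * w' * w0⁻¹ * w'⁻¹) * u =
          (u⁻¹ * w0 * u) * (u⁻¹ * w' * u) * (u⁻¹ * w0 * u)⁻¹ * (u⁻¹ * w' * u)⁻¹ by group, a1, hW'0]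
      rw [e]
      exact mul_mem (hd.conj_mem_N hw0W hw'N) (inv_mem hw0W)
    have hc1 := hdisj _ h1 (by rw [ui] at h2 ⊢; exact h2)
    rw [hc, mul_inv_eq_one, mul_inv_eq_iff_eq_mul] at hc1
    exact hc1
  have hp1 : w0 ^ p = 1 :=
    hd.setting.orders.pow_of_pgroup hd.setting.hp hd.setting.hp2 hd.setting.hp hd.setting.inv_fixedPart.1 hw0W
  have hp2 : w' ^ p = 1 := by rw [hw', conj_pow, hp1, mul_one, mul_inv_cancel]
  set d := w0 * w' with hd'
  have hdu : u * d = d * u := by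
    calc u * d = (u * w0 * u⁻¹) * (u * w' * u⁻¹) * u := by rw [hd']; group
      _ = w' * w0 * u := by rw [show u * w' * u⁻¹ = w0 by rw [← hW'0, ui]]
      _ = d * u := by (try rw [hd']); rw [← hcomm]
  have hd1 : d ≠ 1 := fun e => by
    have e' : w' = w0⁻¹ := eq_inv_of_mul_eq_one_right e
    exact hw01 (hdisj w0 hw0W (by rw [← hw', e']; exact inv_mem hw0W))
  have hdp : d ^ p = 1 := by rw [hd', (show Commute w0 w' from hcomm).mul_pow, hp1, hp2, one_mul]
  obtain ⟨c, hc⟩ := hd.exists_conj_S hu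
  have hc1 : c * u * c⁻¹ ≠ 1 := fun e => by rw [conj_eq_one_iff] at e; rw [e, orderOf_one] at hu; omega
  have hcd : c * d * c⁻¹ ∈ fixedPart S := by
    refine hd.mem_fixedPart ?_ (by rw [conj_pow, hdp, mul_one, mul_inv_cancel])
    rw [← hd.cent_invol_eq hN hc hc1, mem_centralizer_singleton_iff]
    calc c * d * c⁻¹ * (c * u * c⁻¹) = c * (d * u) * c⁻¹ := by group
      _ = c * (u * d) * c⁻¹ := by rw [hdu]
      _ = _ := by group
  have hcw : c * w0 * c⁻¹ ∈ N := by
    refine hd.cent_fixed_le hcd (fun e => hd1 (conj_eq_one_iff.1 e)) (mem_centralizer_singleton_iff.2 ?_)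
    calc c * w0 * c⁻¹ * (c * d * c⁻¹) = c * (w0 * (w0 * w')) * c⁻¹ := by (try rw [hd']); group
      _ = c * (w0 * (w' * w0)) * c⁻¹ := by rw [← hcomm]
      _ = _ := by (try rw [hd']); group
  have hS := mul_mem ((mem_normalizer_iff.1 hcw _).1 hc) (inv_mem hc)
  have e : c * w0 * c⁻¹ * (c * u * c⁻¹) * (c * w0 * c⁻¹)⁻¹ * (c * u * c⁻¹)⁻¹ = c * (w0 * w'⁻¹) * c⁻¹ := by
    rw [hw']; group
  rw [e] at hS
  have h2 := hd.setting.sq hS
  have hq : (w0 * w'⁻¹) ^ p = 1 := by
    rw [(show Commute w0 w' from hcomm).inv_right.mul_pow, hp1, inv_pow, hp2, inv_one, one_mul]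
  have h3 : w0 * w'⁻¹ = 1 := by
    have h4 : (w0 * w'⁻¹) ^ 2 = 1 := by
      have h5 : c * (w0 * w'⁻¹) ^ 2 * c⁻¹ = 1 := by rw [← conj_pow, pow_two]; exact h2
      exact conj_eq_one_iff.1 h5
    exact orderOf_eq_one_iff.1 (Nat.eq_one_of_dvd_coprimes
      ((Nat.coprime_primes Nat.prime_two hd.setting.hp).2 (Ne.symm hd.setting.hp2))
      (orderOf_dvd_of_pow_eq_one h4) (orderOf_dvd_of_pow_eq_one hq))
  rw [mul_inv_eq_one] at h3
  exact hw01 (hdisj w0 hw0W (by rw [← hw', ← h3]; exact hw0W))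

/-- **The case of index `p`.** -/
theorem Closed.false_of_index_p (hd : Closed S p r m x) (hrp : r = p)
    (hN : Nat.card ↥(normalizer ((S : Subgroup G) : Set G)) =
      Nat.card ↥(centralizer ((S : Subgroup G) : Set G)) * r) (hW : fixedPart S ≠ ⊥) : False := by
  classical
  haveI : Fact p.Prime := ⟨hd.setting.hp⟩
  set N := normalizer ((S : Subgroup G) : Set G) with hNdef
  set W := fixedPart S with hWdef
  obtain ⟨w0, hw0, hw01⟩ := W.bot_or_exists_ne_one.resolve_left hW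
  have honly : ∀ {g w : G}, w ∈ W → w ≠ 1 → g * w * g⁻¹ ∈ N → g ∈ N := fun hw hw1 h => hd.fixed_only hN hw hw1 h
  have hWN : W ≤ N := (coreIn_le _).trans (centralizer_le_normalizer _)
  have hWn : N ≤ normalizer (W : Set G) :=
    fun g hg => normalizer_le_coreIn _ (Cfsg.Lib.Thompson.normalizer_le_normalizer_centralizer _ hg)
  -- a Sylow subgroup of the group inside `N`
  obtain ⟨P0, hWP0⟩ := (hd.setting.inv_fixedPart.1.comap_of_injective N.subtype N.subtype_injective).exists_le_sylow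
  set P1 := (P0 : Subgroup ↥N).map N.subtype with hP1
  have hWP : W ≤ P1 := fun y hy => ⟨⟨y, hWN hy⟩, hWP0 hy, rfl⟩
  obtain ⟨P, hP⟩ := (P0.isPGroup'.map N.subtype).exists_le_sylow
  have hPN : (P : Subgroup G) ≤ N := by
    have hPeq : (P : Subgroup G) = P1 := by
      refine le_antisymm ?_ hP
      by_contra hle
      haveI : Group.IsNilpotent ↥(P : Subgroup G) := P.isPGroup'.isNilpotent
      have hlt : P1.subgroupOf (P : Subgroup G) < ⊤ := lt_top_iff_ne_top.2 fun e => hle (subgroupOf_eq_top.1 e)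
      obtain ⟨n, hn, hn1⟩ := SetLike.exists_of_lt
        ((Group.normalizerCondition_of_isNilpotent (G := ↥(P : Subgroup G))) _ hlt)
      have h1 : (n : G) * w0 * (n : G)⁻¹ ∈ P1 :=
        mem_subgroupOf.1 ((mem_normalizer_iff.1 hn ⟨w0, hP (hWP hw0)⟩).1 (mem_subgroupOf.2 (hWP hw0)))
      have hnN : (n : G) ∈ N := honly hw0 hw01 (map_subtype_le _ h1)
      refine hn1 (mem_subgroupOf.2 ?_)
      have hmax := P0.is_maximal' (Q := (P : Subgroup G).subgroupOf N)
        (P.isPGroup'.comap_of_injective N.subtype N.subtype_injective) fun y hy => hP (mem_map_of_mem _ hy)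
      exact ⟨⟨n, hnN⟩, hmax.le (mem_subgroupOf.2 n.2), rfl⟩
    exact hPeq ▸ map_subtype_le _
  -- a pair of points and an inverted element
  obtain ⟨g, hg⟩ : ∃ g, g ∉ N := by
    by_contra hcon
    push Not at hcon
    exact hd.se.1 (eq_top_iff.2 fun g _ => hcon g)
  obtain ⟨u, hu, huN, -⟩ := hd.exists_swap_invol hg
  have uu : u * u = 1 := hd.sq_one hu
  have ui : u⁻¹ = u := inv_eq_of_mul_eq_one_right uu
  have hne : (QuotientGroup.mk (1 : G) : G ⧸ N) ≠ QuotientGroup.mk u := fun e => huN (show u ∈ N by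
    simpa using QuotientGroup.eq.1 e)
  obtain ⟨v, hv, hv1⟩ := hd.exists_v
  obtain ⟨v', hv', hv'1, hvv⟩ : ∃ v' ∈ (S : Subgroup G), v' ≠ 1 ∧ v' ≠ v := by
    by_contra hcon
    push Not at hcon
    have hle : (S : Subgroup G) ≤ zpowers v := fun a ha => by
      by_cases ha1 : a = 1
      · exact ha1 ▸ one_mem _
      · exact hcon a ha ha1 ▸ mem_zpowers v
    have := card_le_of_le hle
    rw [Nat.card_zpowers, hd.setting.order_two hv hv1] at this
    have := hd.setting.card4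
    omega
  have hnontriv : 1 < Nat.card {i : G // orderOf i = 2 ∧ i • (QuotientGroup.mk (1 : G) : G ⧸ N) = QuotientGroup.mk u} := by
    rw [card_swap hd.se _ _ hne, Finite.one_lt_card_iff_nontrivial]
    exact ⟨⟨v, hd.setting.order_two hv hv1, le_normalizer hv⟩, ⟨v', hd.setting.order_two hv' hv'1, le_normalizer hv'⟩,
      fun e => hvv (congrArg Subtype.val e).symm⟩
  rw [Finite.one_lt_card_iff_nontrivial] at hnontriv
  obtain ⟨⟨u', hu', hu'u⟩, hne'⟩ := exists_ne
    (⟨u, hu, by rw [MulAction.Quotient.smul_mk, smul_eq_mul, mul_one]⟩ :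
      {i : G // orderOf i = 2 ∧ i • (QuotientGroup.mk (1 : G) : G ⧸ N) = QuotientGroup.mk u})
  rw [MulAction.Quotient.smul_mk, smul_eq_mul, mul_one, QuotientGroup.eq] at hu'u
  have u'i : u'⁻¹ = u' := inv_eq_of_mul_eq_one_right (hd.sq_one hu')
  set y := u'⁻¹ * u with hy
  have hy1 : y ≠ 1 := fun e => hne' (Subtype.ext (inv_mul_eq_one.1 e))
  have hyu : u * y * u⁻¹ = y⁻¹ := by
    rw [hy, mul_inv_rev, inv_inv, ui, u'i, mul_assoc, mul_assoc, uu, mul_one]
  have hyuN : y ∈ N.map (MulAut.conj u).toMonoidHom := by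
    rw [mem_conj_iff, ui, show u * y * u = u * y * u⁻¹ by rw [ui], hyu]
    exact inv_mem hu'u
  have hyodd : Odd (orderOf y) :=
    (hd.se.2.2 u huN).of_dvd_nat (Subgroup.orderOf_dvd_natCard _ (mem_inf.2 ⟨hu'u, hyuN⟩))
  have hyp : orderOf y = p := by
    rcases hd.setting.orders y with e | e | e
    · exact absurd e hy1
    · have hdv : orderOf y ∣ Nat.card ↥N := Subgroup.orderOf_dvd_natCard _ hu'u
      rw [hN, hd.card_centS, hrp] at hdv
      rcases e.dvd_mul.1 hdv with h | h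
      · rcases e.dvd_mul.1 h with h' | h'
        · exact absurd ((Nat.prime_dvd_prime_iff_eq e Nat.prime_two).1 (e.dvd_of_dvd_pow h'))
            fun e2 => (Nat.not_even_iff_odd.2 hyodd) (e2 ▸ even_two)
        · obtain ⟨j, hj⟩ := IsPGroup.iff_card.1 hd.setting.inv_fixedPart.1
          rw [hj] at h'
          exact (Nat.prime_dvd_prime_iff_eq e hd.setting.hp).1 (e.dvd_of_dvd_pow h')
      · exact (Nat.prime_dvd_prime_iff_eq e hd.setting.hp).1 h
    · exact absurd (e ▸ hyodd) (Nat.not_odd_iff_even.2 (even_two_mul p))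
  have hyW : y ∉ W := fun hyW => huN (honly hyW hy1 (hyu ▸ inv_mem hu'u))
  -- the centraliser of `y` is a `p`-group
  set C := centralizer ({y} : Set G) with hC
  have hCp : IsPGroup p ↥C := by
    refine IsPGroup.iff_orderOf.2 fun a => ?_
    refine ⟨_, Nat.eq_prime_pow_of_unique_prime_dvd (orderOf_pos a).ne' fun {q} hq hd' => ?_⟩
    refine (hd.setting.orders.primes_of_central (Or.inr hyp) hd.setting.hp (H := C)
      (fun b hb => (mem_centralizer_singleton_iff.1 hb).symm) hq (hd'.trans (orderOf_dvd_natCard a))).resolve_left ?_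
    rintro rfl
    haveI : Fact (Nat.Prime 2) := ⟨Nat.prime_two⟩
    obtain ⟨⟨i, hiC⟩, hi⟩ := exists_prime_orderOf_dvd_card' 2 (hd'.trans (orderOf_dvd_natCard a))
    rw [orderOf_mk] at hi
    exact hd.no_inverter hd.setting.hp hd.setting.hp2 hyp hu hyu hi (mem_centralizer_singleton_iff.1 hiC)
  -- `y` fixes a nontrivial element of `W`
  obtain ⟨w, hw, hw1, hwy⟩ : ∃ w ∈ W, w ≠ 1 ∧ y * w * y⁻¹ = w := by
    have hyn : zpowers y ≤ normalizer (W : Set G) := (zpowers_le.2 hu'u).trans hWn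
    letI : MulAction ↥(zpowers y) ↥W := MulAction.compHom ↥W (W.normalizerMonoidHom.comp (inclusion hyn))
    have hdvd : p ∣ Nat.card ↥W := by
      obtain ⟨j, hj⟩ := IsPGroup.iff_card.1 hd.setting.inv_fixedPart.1
      rw [hj]
      refine dvd_pow_self p ?_
      rintro rfl
      rw [pow_zero] at hj
      exact hW (eq_bot_of_card_eq _ hj)
    obtain ⟨b, hb, hb1⟩ := IsPGroup.exists_fixed_point_of_prime_dvd_card_of_fixed_point
      (α := ↥W) (IsPGroup.of_card (n := 1) (show Nat.card ↥(zpowers y) = p ^ 1 by rw [Nat.card_zpowers, hyp, pow_one]))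
      hdvd (a := 1) (MulAction.mem_fixedPoints.2 fun z => map_one (W.normalizerMonoidHom (inclusion hyn z)))
    refine ⟨b, b.2, fun e => hb1 (Subtype.ext e.symm), ?_⟩
    exact congrArg Subtype.val (MulAction.mem_fixedPoints.1 hb ⟨y, mem_zpowers y⟩)
  have hwC : w ∈ C := mem_centralizer_singleton_iff.2 (mul_inv_eq_iff_eq_mul.1 hwy).symm
  have hw'C : u * w * u⁻¹ ∈ C := by
    refine mem_centralizer_singleton_iff.2 ?_
    have hc : Commute w y⁻¹ := (show Commute w y from mem_centralizer_singleton_iff.1 hwC).inv_right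
    have hyu' : u * y⁻¹ * u⁻¹ = y := by
      calc u * y⁻¹ * u⁻¹ = (u * y * u⁻¹)⁻¹ := by group
        _ = y := by rw [hyu, inv_inv]
    calc u * w * u⁻¹ * y = u * w * u⁻¹ * (u * y⁻¹ * u⁻¹) := by rw [hyu']
      _ = u * (w * y⁻¹) * u⁻¹ := by group
      _ = u * (y⁻¹ * w) * u⁻¹ := by rw [hc.eq]
      _ = (u * y⁻¹ * u⁻¹) * (u * w * u⁻¹) := by group
      _ = y * (u * w * u⁻¹) := by rw [hyu']
  obtain ⟨Q, hQ⟩ := hCp.exists_le_sylow
  obtain ⟨c, hc⟩ := MulAction.exists_smul_eq G Q P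
  have hin : ∀ a ∈ C, c * a * c⁻¹ ∈ N := fun a ha => hPN (by rw [← hc]; exact ⟨a, hQ ha, rfl⟩)
  have hcN : c ∈ N := honly hw hw1 (hin w hwC)
  refine huN (honly hw hw1 ?_)
  have := mul_mem (mul_mem (inv_mem hcN) (hin _ hw'C)) hcN
  simpa [mul_assoc] using this

end Cfsg.Lib.OneComposite
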