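import Cfsg.Agent.OneComposite.Structure
import Cfsg.Agent.S0508

/-!
A four group as Sylow 2-subgroup with `O(C(S)) = 1`: the groups `PSL₂(q)`, `q` odd.
-/

set_option autoImplicit false
set_option linter.unusedSectionVars false
set_option linter.style.haveILetI false

namespace Cfsg.Lib.OneComposite

open Subgroup Cfsg.Lib.CosetCore Cfsg.Lib.StrongEmb

variable {G : Type*} [Group G] [Finite G] {p : ℕ} {S : Sylow 2 G}

/-- An involution without nontrivial fixed points on a group of odd order inverts it. -/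
theorem inverts_of_free {v : G} (hv : v * v = 1) {K : Subgroup G} (hn : v ∈ normalizer (K : Set G))
    (hfix : ∀ z ∈ K, Commute v z → z = 1) {z : G} (hz : z ∈ K) : v * z * v⁻¹ = z⁻¹ := by
  let φ : K →* K := {
    toFun := fun y => ⟨v * (y : G) * v⁻¹, (mem_normalizer_iff.1 hn y).1 y.2⟩
    map_one' := Subtype.ext (by simp)
    map_mul' := fun a b => Subtype.ext (by simp [mul_assoc]) }
  have hfpf : MonoidHom.FixedPointFree φ := fun y hy => Subtype.ext (hfix y y.2 (by
    have e : v * (y : G) * v⁻¹ = y := congrArg Subtype.val hy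
    exact mul_inv_eq_iff_eq_mul.1 e))
  have hinv : Function.Involutive φ := fun y => Subtype.ext (by
    show v * (v * (y : G) * v⁻¹) * v⁻¹ = y
    calc v * (v * (y : G) * v⁻¹) * v⁻¹ = (v * v) * (y : G) * (v * v)⁻¹ := by group
      _ = y := by rw [hv]; group)
  exact congrArg Subtype.val (congrFun (hfpf.coe_eq_inv_of_involutive hinv) ⟨z, hz⟩)

/-- The three involutions and a fourth element exhaust a group of order four. -/
theorem mem_four (h4 : Nat.card ↥(S : Subgroup G) = 4) {a b c u : G} (ha : a ∈ (S : Subgroup G))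
    (hb : b ∈ (S : Subgroup G)) (hc : c ∈ (S : Subgroup G)) (hu : u ∈ (S : Subgroup G)) (ha1 : a ≠ 1) (hb1 : b ≠ 1)
    (hc1 : c ≠ 1) (hab : a ≠ b) (hac : a ≠ c) (hbc : b ≠ c) : u = 1 ∨ u = a ∨ u = b ∨ u = c := by
  classical
  haveI : Fintype ↥(S : Subgroup G) := Fintype.ofFinite _
  have h : ({1, ⟨a, ha⟩, ⟨b, hb⟩, ⟨c, hc⟩} : Finset ↥(S : Subgroup G)) = Finset.univ := by
    refine Finset.eq_univ_of_card _ ?_
    rw [← Nat.card_eq_fintype_card, h4, Finset.card_insert_of_notMem, Finset.card_insert_of_notMem,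
      Finset.card_insert_of_notMem, Finset.card_singleton]
    · simpa [Subtype.ext_iff] using hbc
    · simpa [Subtype.ext_iff] using ⟨hab, hac⟩
    · simpa [Subtype.ext_iff] using ⟨Ne.symm ha1, Ne.symm hb1, Ne.symm hc1⟩
  have := Finset.mem_univ (⟨u, hu⟩ : ↥(S : Subgroup G))
  rw [← h] at this
  simpa [Subtype.ext_iff] using this

/-- All involutions of `S` are conjugate in the normaliser. -/
theorem Setting.trans_four [IsSimpleGroup G] (h : Setting S p) (hna : ¬ IsMulCommutative G)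
    (h4 : Nat.card ↥(S : Subgroup G) = 4) {t v : G} (ht : t ∈ (S : Subgroup G)) (ht1 : t ≠ 1)
    (hv : v ∈ (S : Subgroup G)) (hv1 : v ≠ 1) :
    ∃ g ∈ normalizer ((S : Subgroup G) : Set G), g * t * g⁻¹ = v := by
  haveI : Fact (Nat.Prime 2) := ⟨Nat.prime_two⟩
  set N := normalizer ((S : Subgroup G) : Set G) with hN
  set C := centralizer ((S : Subgroup G) : Set G) with hC
  obtain ⟨g0, hg0, hg0C⟩ : ∃ g, g ∈ N ∧ g ∉ C := by
    by_contra hcon
    push Not at hcon
    rcases (MonoidHom.normal_ker (MonoidHom.transferSylow S hcon)).eq_bot_or_eq_top with e | e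
    · refine hna ⟨⟨fun a b => (MonoidHom.ker_eq_bot_iff _).1 e ?_⟩⟩
      rw [map_mul, map_mul]
      exact Subtype.ext (mem_centralizer_iff.1 (hcon _ (le_normalizer (Subtype.prop _))) _ (Subtype.prop _))
    · have h1 := MonoidHom.not_dvd_card_ker_transferSylow S hcon
      rw [e, card_top] at h1
      exact h1 ((show 2 ∣ 4 by norm_num).trans (h4 ▸ card_subgroup_dvd_card _))
  obtain ⟨x, j, hj, hxN, hxC⟩ : ∃ x : G, ∃ j : ℕ, x ^ (2 * j + 1) = 1 ∧ x ∈ N ∧ x ∉ C := by
    rcases h.orders g0 with e | e | e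
    · exact absurd (e ▸ one_mem C) hg0C
    · rcases e.eq_two_or_odd' with e2 | e2
      · exact absurd (h.self_cent (h.mem_S hg0 e2)) hg0C
      · obtain ⟨j, hj⟩ := e2
        exact ⟨g0, j, by rw [← hj, pow_orderOf_eq_one], hg0, hg0C⟩
    · obtain ⟨j, hj⟩ := h.hp.odd_of_ne_two h.hp2
      refine ⟨g0 ^ 2, j, by rw [← hj, ← pow_mul, ← e, pow_orderOf_eq_one], pow_mem hg0 2, fun hc => hg0C ?_⟩
      have hp' : g0 ^ p ∈ C := h.self_cent (h.mem_S (pow_mem hg0 p) (by
        rw [orderOf_pow' g0 h.hp.ne_zero, e, Nat.gcd_mul_left_left, Nat.mul_div_cancel _ h.hp.pos]))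
      rw [show g0 = g0 ^ p * ((g0 ^ 2) ^ j)⁻¹ by rw [← pow_mul, eq_mul_inv_iff_mul_eq, ← pow_succ', hj]]
      exact mul_mem hp' (inv_mem (pow_mem hc j))
  have hsq : ∀ u, Commute (x ^ 2) u → Commute x u := fun u hc => by
    have h1 : x = (x ^ 2) ^ (j + 1) := by
      rw [← pow_mul, show 2 * (j + 1) = 2 * j + 1 + 1 by ring, pow_succ, hj, one_mul]
    rw [h1]
    exact hc.pow_left _
  have hmove : ∀ a ∈ (S : Subgroup G), a ≠ 1 → x * a * x⁻¹ ≠ a := by
    intro a ha ha1 hfix
    refine hxC (mem_centralizer_iff.2 fun u hu => ?_)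
    by_cases hu1 : u = 1
    · rw [hu1, one_mul, mul_one]
    by_cases hua : u = a
    · exact hua ▸ (mul_inv_eq_iff_eq_mul.1 hfix).symm
    have hau : a * u ≠ 1 := fun e => hua (by rw [eq_inv_of_mul_eq_one_right e, h.inv_eq ha])
    have hau2 : a ≠ a * u := fun e => hu1 (left_eq_mul.1 e)
    have hau3 : u ≠ a * u := fun e => ha1 (right_eq_mul.1 e)
    have hxu : x * u * x⁻¹ ∈ (S : Subgroup G) := (mem_normalizer_iff.1 hxN u).1 hu
    rcases mem_four h4 ha hu (mul_mem ha hu) hxu ha1 hu1 hau (Ne.symm hua) hau2 hau3 with e | e | e | e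
    · exact absurd (conj_eq_one_iff.1 e) hu1
    · exact absurd (mul_left_cancel (mul_right_cancel (e.trans hfix.symm))) hua
    · exact (mul_inv_eq_iff_eq_mul.1 e).symm
    · refine (hsq u (mul_inv_eq_iff_eq_mul.1 ?_)).eq.symm
      calc x ^ 2 * u * (x ^ 2)⁻¹ = x * (x * u * x⁻¹) * x⁻¹ := by rw [pow_two]; group
        _ = x * (a * u) * x⁻¹ := by rw [e]
        _ = (x * a * x⁻¹) * (x * u * x⁻¹) := by group
        _ = a * (a * u) := by rw [hfix, e]
        _ = u := by rw [← mul_assoc, h.sq ha, one_mul]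
  set a := x * t * x⁻¹ with ha
  set b := x * a * x⁻¹ with hb
  have haS : a ∈ (S : Subgroup G) := (mem_normalizer_iff.1 hxN t).1 ht
  have hbS : b ∈ (S : Subgroup G) := (mem_normalizer_iff.1 hxN a).1 haS
  have ha1 : a ≠ 1 := fun e => ht1 (conj_eq_one_iff.1 (ha ▸ e))
  have hb1 : b ≠ 1 := fun e => ha1 (conj_eq_one_iff.1 (hb ▸ e))
  have hab : a ≠ b := fun e => hmove a haS ha1 e.symm
  have hta : t ≠ a := fun e => hmove t ht ht1 e.symm
  have htb : t ≠ b := fun e => hmove t ht ht1 (mul_inv_eq_iff_eq_mul.2 (hsq t (mul_inv_eq_iff_eq_mul.1 (by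
    calc x ^ 2 * t * (x ^ 2)⁻¹ = b := by rw [hb, ha, pow_two]; group
      _ = t := e.symm))).eq)
  rcases mem_four h4 ht haS hbS hv ht1 ha1 hb1 hta htb hab with e | e | e | e
  · exact absurd e hv1
  · exact ⟨1, one_mem _, by rw [e, one_mul, inv_one, mul_one]⟩
  · exact ⟨x, hxN, e.symm⟩
  · exact ⟨x ^ 2, pow_mem hxN 2, by rw [e, hb, ha, pow_two]; group⟩

/-- No Sylow 2-subgroup centralises an element of order `p`. -/
theorem Setting.no_cent_four (h : Setting S p) (h4 : Nat.card ↥(S : Subgroup G) = 4) (hP : fixedPart S = ⊥)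
    {a b z : G} (ha : orderOf a = 2) (hb : orderOf b = 2) (hab : Commute a b) (hne : a ≠ b) (hz : orderOf z = p)
    (haz : Commute a z) (hbz : Commute b z) : False := by
  classical
  haveI : Fact (Nat.Prime 2) := ⟨Nat.prime_two⟩
  haveI : Fact p.Prime := ⟨h.hp⟩
  set V := zpowers a ⊔ zpowers b with hV
  have hd : zpowers a ⊓ zpowers b = ⊥ := by
    refine eq_bot_iff.2 fun u hu => mem_bot.2 ?_
    by_contra hu1
    have h1 : zpowers u = zpowers a := eq_of_le_of_card_ge (zpowers_le.2 hu.1) (by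
      rw [Nat.card_zpowers, Nat.card_zpowers, ha]
      have := orderOf_pos u
      have : orderOf u ≠ 1 := fun e => hu1 (orderOf_eq_one_iff.1 e)
      omega)
    have h2 : zpowers u = zpowers b := eq_of_le_of_card_ge (zpowers_le.2 hu.2) (by
      rw [Nat.card_zpowers, Nat.card_zpowers, hb]
      have := orderOf_pos u
      have : orderOf u ≠ 1 := fun e => hu1 (orderOf_eq_one_iff.1 e)
      omega)
    obtain ⟨i, hi⟩ := mem_zpowers_iff.1 ((h1.symm.trans h2) ▸ mem_zpowers a : a ∈ zpowers b)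
    rcases Int.even_or_odd i with ⟨k, rfl⟩ | ⟨k, rfl⟩
    · rw [← two_mul, zpow_mul, zpow_two, ← pow_two, ← hb, pow_orderOf_eq_one, one_zpow] at hi
      rw [← hi, orderOf_one] at ha
      omega
    · rw [zpow_add, zpow_mul, zpow_two, ← pow_two, ← hb, pow_orderOf_eq_one, one_zpow, one_mul, zpow_one] at hi
      exact hne hi.symm
  have hc : ∀ u ∈ zpowers a, ∀ w ∈ zpowers b, u * w = w * u := by
    intro u hu w hw
    obtain ⟨i, rfl⟩ := mem_zpowers_iff.1 hu
    obtain ⟨k, rfl⟩ := mem_zpowers_iff.1 hw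
    exact ((hab.zpow_left i).zpow_right k).eq
  have hVc : Nat.card ↥V = 4 := by rw [hV, card_sup_of_commute hc hd, Nat.card_zpowers, Nat.card_zpowers, ha, hb]
  have hVp : IsPGroup 2 ↥V := IsPGroup.of_card (n := 2) (by rw [hVc]; norm_num)
  obtain ⟨Q, hQ⟩ := hVp.exists_le_sylow
  obtain ⟨g, hg⟩ := MulAction.exists_smul_eq G Q S
  have hQc : Nat.card ↥(Q : Subgroup G) = 4 := by rw [Q.card_eq_multiplicity, ← S.card_eq_multiplicity, h4]
  have hVQ : V = (Q : Subgroup G) := eq_of_le_of_card_ge hQ (by rw [hQc, hVc])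
  have hSV : ∀ u ∈ (S : Subgroup G), g⁻¹ * u * g ∈ V := by
    intro u hu
    rw [hVQ]
    rw [← hg] at hu
    exact mem_conj_iff.1 (show u ∈ (Q : Subgroup G).map (MulAut.conj g).toMonoidHom from hu)
  set w := g * z * g⁻¹ with hw
  have hwC : w ∈ centralizer ((S : Subgroup G) : Set G) := by
    refine mem_centralizer_iff.2 fun u hu => ?_
    have hVz : V ≤ centralizer ({z} : Set G) :=
      sup_le (zpowers_le.2 (mem_centralizer_singleton_iff.2 haz)) (zpowers_le.2 (mem_centralizer_singleton_iff.2 hbz))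
    have hc1 : Commute (g⁻¹ * u * g) z := mem_centralizer_singleton_iff.1 (hVz (hSV u hu))
    have := hc1.map (MulAut.conj g).toMonoidHom
    simpa [hw, mul_assoc] using this.eq
  have hwo : orderOf w = p := by rw [hw, show g * z * g⁻¹ = MulAut.conj g z from rfl, MulEquiv.orderOf_eq, hz]
  have hinv : Inv S p (zpowers w) := by
    refine ⟨IsPGroup.of_card (n := 1) (by rw [Nat.card_zpowers, hwo, pow_one]), fun u hu => ?_⟩
    rw [mem_normalizer_iff_map, MonoidHom.map_zpowers]
    show zpowers (u * w * u⁻¹) = zpowers w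
    rw [mem_centralizer_iff.1 hwC u hu, mul_inv_cancel_right]
  have := h.le_fixedPart hinv (zpowers_le.2 hwC) (mem_zpowers w)
  rw [hP, mem_bot] at this
  rw [this, orderOf_one] at hwo
  exact h.hp.ne_one hwo.symm

end Cfsg.Lib.OneComposite
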