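import Cfsg.Agent.OneComposite.Kernel

/-!
The normaliser and the centraliser of `S`.
-/

set_option autoImplicit false
set_option linter.unusedSectionVars false
set_option linter.style.haveILetI false

namespace Cfsg.Lib.OneComposite

open Subgroup Cfsg.Lib.CosetCore Cfsg.Lib.StrongEmb

variable {G : Type*} [Group G] [Finite G] {p r m : ℕ} {S : Sylow 2 G} {x : G}

theorem card_sup_of_commute {A B : Subgroup G} (hc : ∀ a ∈ A, ∀ b ∈ B, a * b = b * a) (hd : A ⊓ B = ⊥) :
    Nat.card ↥(A ⊔ B) = Nat.card ↥A * Nat.card ↥B := by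
  have hle : B ≤ normalizer (A : Set G) := fun b hb => centralizer_le_normalizer (A : Set G)
    (mem_centralizer_iff.2 fun a ha => hc a ha b hb)
  have h := Cfsg.Lib.Coprime.card_sup_mul_card_inf hle
  rw [hd, card_bot, mul_one] at h
  exact h

variable (hd : Closed S p r m x)
include hd

theorem Closed.S_disjoint : (S : Subgroup G) ⊓ fixedPart S = ⊥ := by
  haveI : Fact (Nat.Prime 2) := ⟨Nat.prime_two⟩
  haveI : Fact p.Prime := ⟨hd.setting.hp⟩
  exact (IsPGroup.disjoint_of_ne 2 p (Ne.symm hd.setting.hp2) _ _ S.isPGroup' hd.setting.inv_fixedPart.1).eq_bot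

theorem Closed.fixedPart_comm {a w : G} (ha : a ∈ (S : Subgroup G)) (hw : w ∈ fixedPart S) : a * w = w * a :=
  mem_centralizer_iff.1 (coreIn_le _ hw) a ha

/-- The centraliser of `S` is `S × O(C(S))`. -/
theorem Closed.centS_eq : centralizer ((S : Subgroup G) : Set G) = (S : Subgroup G) ⊔ fixedPart S := by
  refine le_antisymm ?_ (sup_le hd.setting.self_cent (coreIn_le _))
  haveI : Fact (Nat.Prime 2) := ⟨Nat.prime_two⟩
  set C := centralizer ((S : Subgroup G) : Set G) with hC
  set T := S.subtype hd.setting.self_cent with hT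
  have hP : normalizer ((T : Subgroup ↥C) : Set ↥C) ≤ centralizer ((T : Subgroup ↥C) : Set ↥C) := fun g _ =>
    mem_centralizer_iff.2 fun y hy => Subtype.ext (mem_centralizer_iff.1 g.2 (y : G) (mem_subgroupOf.1 hy))
  set K := (MonoidHom.transferSylow T hP).ker with hK
  have hKn : C ≤ normalizer (K.map C.subtype : Set G) := by
    have e := le_normalizer_map (H := K) C.subtype
    rwa [normalizer_eq_top, ← MonoidHom.range_eq_map, range_subtype] at e
  have hKle : K.map C.subtype ≤ fixedPart S := le_coreIn (map_subtype_le _) hKn (by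
    rw [card_map_of_injective C.subtype_injective, ← Nat.not_even_iff_odd, even_iff_two_dvd]
    exact MonoidHom.not_dvd_card_ker_transferSylow T hP)
  have htop := (MonoidHom.ker_transferSylow_isComplement' T hP).sup_eq_top
  have h2 := congrArg (Subgroup.map C.subtype) htop
  rw [Subgroup.map_sup, ← MonoidHom.range_eq_map, range_subtype] at h2
  rw [← h2]
  exact sup_le (le_sup_of_le_right hKle) (le_sup_of_le_left fun _ ⟨y, hy, e⟩ => e ▸ mem_subgroupOf.1 hy)

theorem Closed.card_centS :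
    Nat.card ↥(centralizer ((S : Subgroup G) : Set G)) = 2 ^ m * Nat.card ↥(fixedPart S) := by
  rw [hd.centS_eq, card_sup_of_commute (fun a ha b hb => hd.fixedPart_comm ha hb) hd.S_disjoint, hd.card_S]

theorem Closed.mem_centS {g : G} (hg : g ∈ centralizer ((S : Subgroup G) : Set G)) :
    ∃ a ∈ (S : Subgroup G), ∃ w ∈ fixedPart S, a * w = g := by
  rw [hd.centS_eq] at hg
  have hle : fixedPart S ≤ normalizer ((S : Subgroup G) : Set G) :=
    (coreIn_le _).trans (centralizer_le_normalizer _)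
  have h' : g ∈ (((S : Subgroup G) ⊔ fixedPart S : Subgroup G) : Set G) := hg
  rw [Subgroup.coe_mul_of_right_le_normalizer_left _ _ hle] at h'
  exact Set.mem_mul.1 h'

/-- An element of `p`-power order centralising `S` lies in `O(C(S))`. -/
theorem Closed.mem_fixedPart {g : G} (hg : g ∈ centralizer ((S : Subgroup G) : Set G)) (hgp : g ^ p = 1) :
    g ∈ fixedPart S := by
  obtain ⟨a, ha, w, hw, rfl⟩ := hd.mem_centS hg
  have hc : Commute a w := hd.fixedPart_comm ha hw
  rw [hc.mul_pow] at hgp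
  have hap : a ^ p ∈ (S : Subgroup G) ⊓ fixedPart S :=
    Subgroup.mem_inf.2 ⟨pow_mem ha p, by
      rw [eq_inv_of_mul_eq_one_left hgp]
      exact inv_mem (pow_mem hw p)⟩
  rw [hd.S_disjoint, mem_bot] at hap
  obtain ⟨j, hj⟩ := hd.setting.hp.odd_of_ne_two hd.setting.hp2
  rw [hj, pow_succ, pow_mul, pow_two, hd.setting.sq ha, one_pow, one_mul] at hap
  rwa [hap, one_mul]

theorem Closed.sq_one {g : G} (hg : orderOf g = 2) : g * g = 1 := by
  rw [← pow_two, ← hg, pow_orderOf_eq_one]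

theorem Closed.mem_S {t : G} (ht : t ∈ normalizer ((S : Subgroup G) : Set G)) (ho : orderOf t = 2) :
    t ∈ (S : Subgroup G) := hd.setting.mem_S ht ho

theorem Closed.cent_le {v : G} (hv : v ∈ (S : Subgroup G)) (hv1 : v ≠ 1) :
    centralizer ({v} : Set G) ≤ normalizer ((S : Subgroup G) : Set G) :=
  centralizer_le hd.se (hd.setting.order_two hv hv1) (le_normalizer hv)

theorem Closed.eq_normalizer {g v : G} (hv : v ∈ (S : Subgroup G)) (hv1 : v ≠ 1)
    (h : g * v * g⁻¹ ∈ normalizer ((S : Subgroup G) : Set G)) : g ∈ normalizer ((S : Subgroup G) : Set G) := by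
  have := mem_of_involution (g := g⁻¹) hd.se (hd.setting.order_two hv hv1) (le_normalizer hv) (by simpa using h)
  simpa using inv_mem this

theorem Closed.exists_v : ∃ v ∈ (S : Subgroup G), v ≠ 1 := hd.setting.exists_ne_one

/-- Every involution lies in the normaliser of a conjugate of `S`, which is unique. -/
theorem Closed.exists_conj_S {u : G} (hu : orderOf u = 2) : ∃ g : G, g * u * g⁻¹ ∈ (S : Subgroup G) := by
  obtain ⟨g, hg⟩ := exists_conj_mem hd.se hu
  refine ⟨g, hd.mem_S hg ?_⟩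
  rw [show g * u * g⁻¹ = MulAut.conj g u from rfl, MulEquiv.orderOf_eq, hu]

/-- The centraliser of a nontrivial element of `O(C(S))` normalises `S`. -/
theorem Closed.cent_fixed_le {w : G} (hw : w ∈ fixedPart S) (hw1 : w ≠ 1) :
    centralizer ({w} : Set G) ≤ normalizer ((S : Subgroup G) : Set G) := by
  haveI : Fact p.Prime := ⟨hd.setting.hp⟩
  have hwp : orderOf w = p := orderOf_eq_prime
    (hd.setting.orders.pow_of_pgroup hd.setting.hp hd.setting.hp2 hd.setting.hp hd.setting.inv_fixedPart.1 hw) hw1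
  have hsol : Group.IsSolvable ↥(centralizer ({w} : Set G)) :=
    hd.setting.orders.solvable_of_central (Or.inr hwp) hd.setting.hp hd.setting.hp2
      fun g hg => (mem_centralizer_singleton_iff.1 hg).symm
  have hSw : (S : Subgroup G) ≤ centralizer ({w} : Set G) := fun a ha =>
    mem_centralizer_singleton_iff.2 (hd.fixedPart_comm ha hw)
  refine le_of_core_normalizer S hd.setting.isComm hsol hSw ?_ inf_le_right
  by_contra hle
  obtain ⟨B, hBS, hBi, z, hzL, hzM, hzB⟩ :=
    hd.setting.exists_fixed_outside (hd.setting.inv_coreIn (hSw.trans le_normalizer)) hle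
  obtain ⟨v, hv, hv1⟩ : ∃ v ∈ B, v ≠ 1 := by
    refine (B.bot_or_exists_ne_one).resolve_left fun e => ?_
    rw [e, relIndex_bot_left] at hBi
    have := hd.setting.card4
    omega
  exact hzM (hd.cent_le (hBS hv) hv1 (mem_centralizer_singleton_iff.2 (mem_centralizer_iff.1 hzB v hv).symm))

/-- No element of odd prime order with a centraliser of even order is inverted by an involution. -/
theorem Closed.no_inverter {d u : G} {q : ℕ} (hq : q.Prime) (hq2 : q ≠ 2) (hdo : orderOf d = q) (hu : orderOf u = 2)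
    (hinv : u * d * u⁻¹ = d⁻¹) {v : G} (hv : orderOf v = 2) (hvd : Commute v d) : False := by
  haveI : Fact (Nat.Prime 2) := ⟨Nat.prime_two⟩
  have hud : ¬ Commute u d := fun hc => by
    have e : d⁻¹ = d := hinv.symm.trans (mul_inv_eq_iff_eq_mul.2 hc.eq)
    have h2 : d ^ 2 = 1 := by rw [pow_two]; nth_rw 1 [← e]; exact inv_mul_cancel d
    exact hq2 ((Nat.prime_dvd_prime_iff_eq hq Nat.prime_two).1 (hdo ▸ orderOf_dvd_of_pow_eq_one h2))
  set H := normalizer ((zpowers d : Subgroup G) : Set G) with hH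
  have huH : u ∈ H := by
    rw [hH, mem_normalizer_iff_map, MonoidHom.map_zpowers]
    change zpowers (u * d * u⁻¹) = zpowers d
    rw [hinv, zpowers_inv]
  have hvH : v ∈ H := by
    rw [hH, mem_normalizer_iff_map, MonoidHom.map_zpowers]
    change zpowers (v * d * v⁻¹) = zpowers d
    rw [mul_inv_eq_iff_eq_mul.2 hvd.eq]
  have hu' : IsPGroup 2 ↥(zpowers (⟨u, huH⟩ : ↥H)) :=
    IsPGroup.of_card (n := 1) (by rw [Nat.card_zpowers, ← Subgroup.orderOf_coe, hu, pow_one])
  have hv' : IsPGroup 2 ↥(zpowers (⟨v, hvH⟩ : ↥H)) :=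
    IsPGroup.of_card (n := 1) (by rw [Nat.card_zpowers, ← Subgroup.orderOf_coe, hv, pow_one])
  obtain ⟨P, hP⟩ := hu'.exists_le_sylow
  obtain ⟨Q, hQ⟩ := hv'.exists_le_sylow
  obtain ⟨c, hc⟩ := MulAction.exists_smul_eq ↥H Q P
  have hmem : c * ⟨v, hvH⟩ * c⁻¹ ∈ (P : Subgroup ↥H) := by
    rw [← hc]; exact ⟨⟨v, hvH⟩, hQ (mem_zpowers _), rfl⟩
  set v' := (c : G) * v * (c : G)⁻¹ with hv'd
  have hv'o : orderOf v' = 2 := by
    rw [hv'd, show (c : G) * v * (c : G)⁻¹ = MulAut.conj (c : G) v from rfl, MulEquiv.orderOf_eq, hv]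
  have hv'c : Commute v' d := by
    obtain ⟨i, hi⟩ := mem_zpowers_iff.1 ((mem_normalizer_iff''.1 c.2 d).1 (mem_zpowers d))
    have hci : Commute v ((c : G)⁻¹ * d * (c : G)) := hi ▸ hvd.zpow_right i
    show v' * d = d * v'
    calc v' * d = (c : G) * (v * ((c : G)⁻¹ * d * (c : G))) * (c : G)⁻¹ := by rw [hv'd]; group
      _ = (c : G) * ((c : G)⁻¹ * d * (c : G) * v) * (c : G)⁻¹ := by rw [hci.eq]
      _ = d * v' := by rw [hv'd]; group
  have huv : u * v' = v' * u := by
    have h2 : ∀ y ∈ (P : Subgroup ↥H), (y : G) * y = 1 := fun y hy => by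
      obtain ⟨k, hk⟩ := P.isPGroup' ⟨y, hy⟩
      rw [← pow_two]
      refine hd.setting.orders.pow_prime hd.setting.hp hd.setting.hp2 Nat.prime_two
        (orderOf_dvd_of_pow_eq_one (show (y : G) ^ 2 ^ k = 1 from ?_))
      have := congrArg (fun e : ↥(P : Subgroup ↥H) => ((e : ↥H) : G)) hk
      simpa using this
    have a1 : u * u = 1 := h2 _ (hP (mem_zpowers _))
    have a2 : v' * v' = 1 := h2 _ hmem
    have a3 : (u * v') * (u * v') = 1 := h2 _ ((P : Subgroup ↥H).mul_mem (hP (mem_zpowers _)) hmem)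
    calc u * v' = (u * v')⁻¹ := (inv_eq_of_mul_eq_one_right a3).symm
      _ = v' * u := by rw [mul_inv_rev, inv_eq_of_mul_eq_one_right a1, inv_eq_of_mul_eq_one_right a2]
  obtain ⟨g, hg⟩ := hd.exists_conj_S hv'o
  have hne : g * v' * g⁻¹ ≠ 1 := fun e => by rw [conj_eq_one_iff] at e; rw [e, orderOf_one] at hv'o; omega
  have hle := hd.cent_le hg hne
  have hcc : ∀ {y : G}, Commute y v' → g * y * g⁻¹ ∈ centralizer ({g * v' * g⁻¹} : Set G) := by
    intro y hy
    refine mem_centralizer_singleton_iff.2 ?_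
    calc g * y * g⁻¹ * (g * v' * g⁻¹) = g * (y * v') * g⁻¹ := by group
      _ = g * v' * g⁻¹ * (g * y * g⁻¹) := by rw [hy.eq]; group
  have huS : g * u * g⁻¹ ∈ (S : Subgroup G) := hd.mem_S (hle (hcc huv)) (by
    rw [show g * u * g⁻¹ = MulAut.conj g u from rfl, MulEquiv.orderOf_eq, hu])
  have hdn := hle (hcc hv'c.symm)
  have h1 := (mem_normalizer_iff.1 hdn _).1 huS
  have h2 := mul_mem h1 (inv_mem huS)
  have h3 : g * d * g⁻¹ * (g * u * g⁻¹) * (g * d * g⁻¹)⁻¹ * (g * u * g⁻¹)⁻¹ = g * (d * d) * g⁻¹ := by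
    calc _ = g * (d * (u * d⁻¹ * u⁻¹)) * g⁻¹ := by group
      _ = g * (d * (u * d * u⁻¹)⁻¹) * g⁻¹ := by group
      _ = _ := by rw [hinv, inv_inv]
  rw [h3] at h2
  have h4 := hd.setting.sq h2
  have h5 : d ^ 4 = 1 := by
    rw [show g * (d * d) * g⁻¹ * (g * (d * d) * g⁻¹) = g * d ^ 4 * g⁻¹ by
      rw [show d ^ 4 = d * d * (d * d) by rw [← pow_two, ← pow_two, ← pow_mul]]; group] at h4
    exact conj_eq_one_iff.1 h4
  have h6 : q ∣ 2 ^ 2 := hdo ▸ orderOf_dvd_of_pow_eq_one h5
  exact hq2 ((Nat.prime_dvd_prime_iff_eq hq Nat.prime_two).1 (hq.dvd_of_dvd_pow h6))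

theorem Closed.r_ne_two : r ≠ 2 := by
  have h1 := Nat.pow_le_pow_right (show 1 ≤ 2 by norm_num) hd.mprime.two_le
  have := hd.hr
  omega

theorem Closed.x_notC : x ∉ centralizer ((S : Subgroup G) : Set G) := fun h => by
  obtain ⟨v, hv, hv1⟩ := hd.exists_v
  exact hv1 (hd.xfree v hv (mem_centralizer_iff.1 h v hv))

/-- Decomposition when the index of `C(S)` is `r`. -/
theorem Closed.decomp (hN : Nat.card ↥(normalizer ((S : Subgroup G) : Set G)) =
      Nat.card ↥(centralizer ((S : Subgroup G) : Set G)) * r) {g : G}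
    (hg : g ∈ normalizer ((S : Subgroup G) : Set G)) :
    ∃ c ∈ centralizer ((S : Subgroup G) : Set G), ∃ k : ℕ, k < r ∧ c * x ^ k = g := by
  set C := centralizer ((S : Subgroup G) : Set G) with hC
  set N := normalizer ((S : Subgroup G) : Set G) with hNdef
  let f : ↥C × Fin r → ↥N := fun a =>
    ⟨(a.1 : G) * x ^ (a.2 : ℕ), mul_mem (centralizer_le_normalizer _ a.1.2) (pow_mem hd.xN _)⟩
  have hinj : Function.Injective f := by
    rintro ⟨c, i⟩ ⟨c', j⟩ e
    have e' : (c : G) * x ^ (i : ℕ) = c' * x ^ (j : ℕ) := congrArg Subtype.val e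
    have hmem : x ^ ((i : ℤ) - j) ∈ C := by
      have e3 : x ^ ((i : ℤ) - j) = (c : G)⁻¹ * c' := by
        have := congrArg (fun z => (c : G)⁻¹ * z * (x ^ (j : ℕ))⁻¹) e'
        simpa [zpow_sub, mul_assoc] using this
      exact e3 ▸ C.mul_mem (C.inv_mem c.2) c'.2
    have hij : i = j := by
      by_contra hne
      have hn : ¬ (r : ℤ) ∣ (i : ℤ) - j := fun hdv => hne (Fin.ext (by
        have := Int.eq_zero_of_abs_lt_dvd hdv (abs_sub_lt_iff.2 ⟨by have := i.2; omega, by have := j.2; omega⟩)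
        omega))
      refine hd.x_notC ?_
      have hco : IsCoprime ((i : ℤ) - j) (r : ℤ) :=
        ((Nat.prime_iff_prime_int.1 hd.rprime).coprime_iff_not_dvd.2 hn).symm
      obtain ⟨a, b, hab⟩ := hco
      have hxa : x = (x ^ ((i : ℤ) - j)) ^ a := by
        have h1 : x ^ (a * ((i : ℤ) - j) + b * r) = x := by rw [hab, zpow_one]
        rw [zpow_add, mul_comm b, zpow_mul x (r : ℤ) b, zpow_natCast,
          show x ^ r = 1 from hd.xord ▸ pow_orderOf_eq_one x, one_zpow, mul_one] at h1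
        conv_lhs => rw [← h1]
        rw [← zpow_mul, mul_comm]
      exact hxa ▸ C.zpow_mem hmem a
    subst hij
    exact Prod.ext (Subtype.ext (mul_right_cancel e')) rfl
  obtain ⟨-, hsurj⟩ := (Nat.bijective_iff_injective_and_card f).2 ⟨hinj, by
    rw [Nat.card_prod, Nat.card_fin, hN]⟩
  obtain ⟨⟨c, i⟩, hci⟩ := hsurj ⟨g, hg⟩
  exact ⟨c, c.2, i, i.2, congrArg Subtype.val hci⟩

theorem Closed.odd_D {u : G} (hu : u ∉ normalizer ((S : Subgroup G) : Set G)) :
    Odd (Nat.card ↥(normalizer ((S : Subgroup G) : Set G) ⊓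
      (normalizer ((S : Subgroup G) : Set G)).map (MulAut.conj u).toMonoidHom : Subgroup G)) :=
  hd.se.2.2 u hu

end Cfsg.Lib.OneComposite
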